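import Cfsg.Agent.H758.NConj

/-!
# Transport of a subsystem along a map of the system (helper758)
-/

set_option autoImplicit false

namespace Cfsg.Agent.H758

open Cfsg Cfsg.FusionSystem Cfsg.Agent.H752

variable {Ω : Type*} [Group Ω] {S T : Subgroup Ω} {p : ℕ}

/-- Maps of a push-forward, in terms of functions. -/
theorem mp_push_iff {Ω₁ Ω₂ : Type*} [Group Ω₁] [Group Ω₂] {f : Ω₁ →* Ω₂}
    {hf : Function.Injective f} {T₁ : Subgroup Ω₁} {T₂ : Subgroup Ω₂} {X₁ : FusionSystem T₁}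
    {X₂ : FusionSystem T₂} (h : H759.IsPush hf X₁ X₂) {P : Subgroup Ω₁} {g : Ω₂ → Ω₂} :
    Mp X₂ (P.map f) g ↔ ∃ g₁ : Ω₁ → Ω₁, Mp X₁ P g₁ ∧ ∀ x ∈ P, g (f x) = f (g₁ x) := by
  constructor
  · rintro ⟨φ', hφ', hg⟩
    obtain ⟨φ, hφ, rfl⟩ := h.exists_of_mem hφ'
    refine ⟨ex φ, mp_ex hφ, fun x hx => ?_⟩
    have hm : f x ∈ P.map f := Subgroup.mem_map_of_mem f hx
    have h1 : H759.cb hf φ ⟨f x, hm⟩ = f (φ ⟨x, hx⟩) := H759.cb_apply hf φ ⟨x, hx⟩ hm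
    rw [← hg (f x) hm, h1, ex_apply _ hx]
  · rintro ⟨g₁, ⟨φ, hφ, hφg⟩, hg⟩
    refine ⟨H759.cb hf φ, (h.hom P φ).2 hφ, ?_⟩
    intro y hy
    obtain ⟨x, hx, rfl⟩ := Subgroup.mem_map.1 hy
    have h1 : H759.cb hf φ ⟨f x, hy⟩ = f (φ ⟨x, hx⟩) := H759.cb_apply hf φ ⟨x, hx⟩ hy
    rw [h1, hφg x hx, hg x hx]

/-- The system `D` over `R` transported along `ν : R → R'`. -/
theorem exists_transport_sys [Fact p.Prime] {R R' : Subgroup Ω} [Finite R] (D : FusionSystem R)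
    {F : FusionSystem S} {ν ν' : Ω → Ω} (hν : Mp F R ν) (hl : ∀ x ∈ R, ν x ∈ R' ∧ ν' (ν x) = x)
    (hr : ∀ y ∈ R', ν' y ∈ R ∧ ν (ν' y) = y) :
    ∃ D' : FusionSystem R', (D'.IsSaturated p ↔ D.IsSaturated p) ∧
      (∀ (P P' : Subgroup Ω) (f f' : Ω → Ω), Mp D P f →
        (∀ y ∈ P', ∃ x ∈ P, ν x = y ∧ f' y = ν (f x)) → Mp D' P' f') ∧
      ∀ (P P' : Subgroup Ω) (f f' : Ω → Ω), Mp D' P' f' →
        (∀ x ∈ P, x ∈ R ∧ ν x ∈ P' ∧ f x ∈ R ∧ ν (f x) = f' (ν x)) → Mp D P f := by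
  obtain ⟨γ, hγF, hγν⟩ := hν
  have hγ : Function.Injective γ := F.injective_of_mem hγF
  have hγr : R' = (⊤ : Subgroup R).map γ := by
    ext y
    constructor
    · intro hy
      exact ⟨⟨ν' y, (hr y hy).1⟩, Subgroup.mem_top _, (hγν _ _).trans (hr y hy).2⟩
    · rintro ⟨x, -, rfl⟩
      rw [show γ x = ν x from hγν x x.2]
      exact (hl x x.2).1
  obtain ⟨C, hC⟩ := H759.exists_pull' (hf := Subgroup.subtype_injective R)
    (T₁ := (⊤ : Subgroup R)) (T₂ := R) (by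
      rw [← MonoidHom.range_eq_map, Subgroup.range_subtype]) D
  obtain ⟨D', hD'⟩ := H759.exists_push' (hf := hγ) hγr C
  have hval : ∀ x : R, γ x = ν x := fun x => hγν x x.2
  refine ⟨D', ?_, ?_, ?_⟩
  · rw [hD'.isSaturated_iff, hC.isSaturated_iff]
  · intro P P' f f' hf hP
    have hPR : P ≤ R := hf.le
    have e1 : P = (P.subgroupOf R).map R.subtype := (Subgroup.map_subgroupOf_eq_of_le hPR).symm
    have hf2 := hf
    rw [e1] at hf2
    obtain ⟨g₁, hg₁, hg⟩ := (mp_push_iff hC).1 hf2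
    have h2 : Mp D' ((P.subgroupOf R).map γ) (fun y => ν (f (ν' y))) := by
      refine (mp_push_iff hD').2 ⟨g₁, hg₁, fun x hx => ?_⟩
      have h3 := hg x hx
      have h4 : (R.subtype x : Ω) = (x : Ω) := rfl
      show ν (f (ν' (γ x))) = γ (g₁ x)
      rw [hval, hval, (hl x x.2).2]
      rw [h4] at h3
      rw [h3]
      rfl
    refine (h2.res (R := P') ?_).congr ?_
    · intro y hy
      obtain ⟨x, hx, hxy, -⟩ := hP y hy
      exact ⟨⟨x, hPR hx⟩, hx, (hval _).trans hxy⟩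
    · intro y hy
      obtain ⟨x, hx, rfl, h5⟩ := hP y hy
      show f' (ν x) = ν (f (ν' (ν x)))
      rw [(hl x (hPR hx)).2, h5]
  · intro P P' f f' hf hP
    have hPR : P ≤ R := fun x hx => (hP x hx).1
    have hle : (P.subgroupOf R).map γ ≤ P' := by
      rintro _ ⟨x, hx, rfl⟩
      rw [hval]
      exact (hP x hx).2.1
    obtain ⟨g₁, hg₁, hg⟩ := (mp_push_iff hD').1 (hf.res hle)
    have h2 : Mp D ((P.subgroupOf R).map R.subtype) f := by
      refine (mp_push_iff hC).2 ⟨g₁, hg₁, fun x hx => ?_⟩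
      have h3 := hg x hx
      obtain ⟨-, -, h4, h5⟩ := hP x hx
      rw [hval, hval, ← h5] at h3
      show f (x : Ω) = (g₁ x : Ω)
      rw [← (hl _ h4).2, h3, (hl _ (g₁ x).2).2]
    rwa [Subgroup.map_subgroupOf_eq_of_le hPR] at h2

end Cfsg.Agent.H758
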