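import Cfsg.Agent.H758.AxB
import Cfsg.Agent.H753.NormModel

/-!
# Constrained systems: normalizers, and the passage from `C_M(X)` to `M` (helper758)
-/

set_option autoImplicit false

namespace Cfsg.Agent.H758

open Cfsg Cfsg.FusionSystem Cfsg.Agent.H752

variable {Ω : Type*} [Group Ω] {S T : Subgroup Ω} {p : ℕ}

/-- `Q` normal in `F`, `E` a saturated subsystem over `T`: `Q ∩ T` is normal in `E`. -/
theorem isNormal_inf' [Fact p.Prime] [Finite S] (hS : IsPGroup p S) {F : FusionSystem S}
    {E : FusionSystem T} (hEs : E.IsSaturated p) (hEF : E.IsSubsystemOf F)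
    {Q : Subgroup Ω} (hQ : F.IsNormal Q) : E.IsNormal (Q ⊓ T) := by
  have hTS : T ≤ S := le_of_isSubsystemOf hEF
  have hTf : Finite T := H802.finite_of_le hTS
  have hTp : IsPGroup p T := isPGroup_mono hS hTS
  have hQf : Finite Q := H802.finite_of_le hQ.1
  have hQp : IsPGroup p Q := isPGroup_mono hS hQ.1
  have hnil : Group.IsNilpotent Q := hQp.isNilpotent
  obtain ⟨n, hn⟩ := (Subgroup.isNilpotent_iff_lowerCentralSeries Q).1 hnil
  refine H759.isNormal_of_chain hTp hEs n (fun i => Q.lowerCentralSeries (n - i) ⊓ T) ?_ ?_ ?_ ?_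
  · show Q.lowerCentralSeries (n - 0) ⊓ T = ⊥
    rw [Nat.sub_zero, hn, bot_inf_eq]
  · show Q.lowerCentralSeries (n - n) ⊓ T = Q ⊓ T
    rw [Nat.sub_self, Subgroup.lowerCentralSeries_zero]
  · intro i _
    refine ⟨inf_le_right, fun R hR φ hφ x => ⟨?_, (E.le_of_mem hφ).2 x⟩⟩
    exact (stronglyClosed_lcs hQ (n - i)).2 R (hR.trans inf_le_left) φ (hEF R hφ) x
  · intro i hi
    show ⁅Q ⊓ T, Q.lowerCentralSeries (n - (i + 1)) ⊓ T⁆ ≤ Q.lowerCentralSeries (n - i) ⊓ T
    refine le_inf ?_ ?_
    · have h1 : n - i = (n - (i + 1)) + 1 := by omega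
      rw [h1, Subgroup.lowerCentralSeries_succ, Subgroup.commutator_comm]
      exact Subgroup.commutator_mono inf_le_left inf_le_left
    · rw [Subgroup.commutator_le]
      intro a ha b hb
      exact mul_mem (mul_mem (mul_mem ha.2 hb.2) (Subgroup.inv_mem _ ha.2)) (Subgroup.inv_mem _ hb.2)

theorem normalizerSystem_isSubsystemOf {F : FusionSystem S} {U : Subgroup Ω}
    {N : FusionSystem (normalizerIn S U)} (hN : F.IsNormalizerSystem U N) : N.IsSubsystemOf F := by
  intro P φ hφ
  rw [hN P] at hφ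
  exact hφ.1

/-- The normalizer system of a fully normalized subgroup of a constrained system is constrained. -/
theorem normalizerSystem_isConstrained [Fact p.Prime] [Finite S] (hS : IsPGroup p S)
    {F : FusionSystem S} (hF : F.IsConstrained p) {U : Subgroup Ω} (hU : F.IsFullyNormalized U)
    {N : FusionSystem (normalizerIn S U)} (hN : F.IsNormalizerSystem U N) : N.IsConstrained p := by
  obtain ⟨hFs, V, hV, hVc⟩ := hF
  have hNs := H802.normalizerSystem_isSaturated hS hFs hU hN
  have hNF := normalizerSystem_isSubsystemOf hN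
  have hfN : Finite (normalizerIn S U) := H802.finite_of_le inf_le_left
  have hNp : IsPGroup p (normalizerIn S U) := isPGroup_mono hS inf_le_left
  have hUN : N.IsNormal U := H753.isNormal_normalizerSystem hU.1 hN
  have hVN : N.IsNormal (V ⊓ normalizerIn S U) := isNormal_inf' hS hNs hNF hV
  have h1 : V ⊓ normalizerIn S U ≤ N.core := H759.IsNormal.le_core hVN
  refine isConstrained_of_axb hNp hNs hS hV hVc (B := U) (H759.IsNormal.le_core hUN) ?_ ?_
  · intro v hv hcomm
    refine h1 ⟨hv, hV.1 hv, Subgroup.mem_normalizer_iff.2 fun b => ?_⟩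
    constructor
    · intro hb
      have h2 : v * b * v⁻¹ = b := by rw [← hcomm b hb]; group
      rwa [h2]
    · intro hb
      have h2 := hcomm _ hb
      have h3 : v * b * v⁻¹ = b := by
        have h4 : v * b * v⁻¹ * v = v * (v * b * v⁻¹) := h2
        have h5 : v * b = v * (v * b * v⁻¹) := by rw [← h4]; group
        exact (mul_left_cancel h5).symm
      rwa [h3] at hb
  · intro P f _ hf _
    exact mp_mono hNF hf

/-- `M` is constrained if `C_M(X)` is, for some `X ≤ O_p(M) ∩ Z(S)`. -/
theorem isConstrained_of_centralizer [Fact p.Prime] [Finite S] (hS : IsPGroup p S)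
    {M : FusionSystem S} (hM : M.IsSaturated p) {X : Subgroup Ω} (hX : X ≤ M.core)
    (hXZ : ∀ x ∈ X, ∀ s ∈ S, s * x = x * s) {L : FusionSystem (centralizerIn S X)}
    (hL : M.IsCentralizerSystem X L) (hLc : L.IsConstrained p) : M.IsConstrained p := by
  obtain ⟨hLs, V, hV, hVc⟩ := hLc
  have hR : M.IsNormal M.core := H759.isNormal_core
  have hfC : Finite (centralizerIn S X) := H802.finite_of_le inf_le_left
  have hCp : IsPGroup p (centralizerIn S X) := isPGroup_mono hS inf_le_left
  have hSC : S ≤ centralizerIn S X := fun s hs => ⟨hs, Subgroup.mem_centralizer_iff.2 fun x hx => (hXZ x hx s hs).symm⟩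
  obtain ⟨K, hK⟩ := H802.exists_centralizerSystem M hR.1
  have hKn : K.IsNormalIn M p := centralizerSystem_isNormalIn hS hM hR hK
  -- `K = C_M(O_p(M))` is a subsystem of `L = C_M(X)`
  have hKL : K.IsSubsystemOf L := by
    intro P φ hφ
    refine Mp.mem_hom (f := ex φ) ?_ (fun x hx => (ex_apply _ hx).symm)
    obtain ⟨h1, h2, g, h3, h4, h5⟩ := (H759.mp_centralizer_iff hK).1 (mp_ex hφ)
    refine (H759.mp_centralizer_iff hL).2 ⟨fun x hx => hSC (h1 hx).1, fun x hx => hSC (h2 x hx).1, g,
      h3.res (sup_le_sup_left hX P), h4, fun t ht => h5 t (hX ht)⟩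
  have hVK : K.IsNormal (V ⊓ centralizerIn S M.core) := isNormal_inf' hCp hKn.1.1 hKL hV
  have h1 : V ⊓ centralizerIn S M.core ≤ M.core :=
    (H759.IsNormal.le_core hVK).trans (core_le_core_of_invariant hS hM hKn.1.2.2)
  refine isConstrained_of_axb hS hM hCp hV hVc (B := M.core) le_rfl ?_ ?_
  · intro v hv hcomm
    exact h1 ⟨hv, (hV.1 hv).1, Subgroup.mem_centralizer_iff.2 hcomm⟩
  · intro P f hP hf hid
    have hPS : P ≤ S := hf.le
    refine (H759.mp_centralizer_iff hL).2 ⟨hPS.trans hSC, fun x hx => hSC (hf.mem hx), f, ?_,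
      fun _ _ => rfl, fun t ht => hid t (hX ht)⟩
    have h2 : P ⊔ X = P := sup_eq_left.2 (hX.trans hP)
    rwa [h2]

end Cfsg.Agent.H758
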