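import Cfsg.Agent.H758.Chain
import Cfsg.Agent.H758.Inner
import Cfsg.Agent.H759.CentNormal
import Cfsg.Agent.H803.Constrained
import Cfsg.Agent.H802.FusKSat

/-!
# Components centralize normal `p`-subgroups (helper758)
-/

set_option autoImplicit false

namespace Cfsg.Agent.H758

open Cfsg Cfsg.FusionSystem Cfsg.Agent.H752

variable {Ω : Type*} [Group Ω] {S T : Subgroup Ω} {p : ℕ}

/-- Maps extend trivially over a central subgroup. -/
theorem exists_ext_central [Finite S] {F : FusionSystem S} {Z : Subgroup Ω} (hZ : Z ≤ F.center)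
    {P : Subgroup Ω} {f : Ω → Ω} (hf : Mp F P f) :
    ∃ g, Mp F (P ⊔ Z) g ∧ (∀ x ∈ P, g x = f x) ∧ ∀ z ∈ Z, g z = z := by
  obtain ⟨φ, hφ, hφf⟩ := hf
  obtain ⟨ψ, hψ, h1, h2⟩ := (H757.isCentral_center F).2 P φ hφ
  refine ⟨ex ψ, (mp_ex hψ).res (sup_le_sup_left hZ P), fun x hx => ?_, fun z hz => ?_⟩
  · rw [ex_apply _ ((le_sup_left : P ≤ P ⊔ F.center) hx), ← hφf x hx]
    exact h1 ⟨x, hx⟩
  · rw [ex_apply _ ((le_sup_right : F.center ≤ P ⊔ F.center) (hZ hz))]
    exact h2 ⟨z, hZ hz⟩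

/-- A `p'`-automorphism in a component extends trivially over every normal subgroup of the system. -/
theorem component_ext {T S : Subgroup Ω} {C : FusionSystem T} {F : FusionSystem S}
    [hp : Fact p.Prime] [Finite S] (hS : IsPGroup p S) (hF : F.IsSaturated p)
    (hC : C.IsComponentIn F p) {Q : Subgroup Ω} (hQ : F.IsNormal Q) {P : Subgroup Ω} {g : Ω → Ω}
    (hg : Mp C P g) (hpp : PP p P g) :
    ∃ g', Mp F (P ⊔ Q) g' ∧ PP p (P ⊔ Q) g' ∧ (∀ x ∈ P, g' x = g x) ∧ ∀ q ∈ Q, g' q = q := by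
  have hTS : T ≤ S := le_of_subnormal hC.1
  have hfT : Finite T := H802.finite_of_le hTS
  have hTp : IsPGroup p T := isPGroup_mono hS hTS
  have hN : C.IsNormal (Q ⊓ T) := isNormal_inf_of_subnormal hC.1 hp.out inferInstance hS hF hQ
  have hZ : Q ⊓ T ≤ C.center := le_center_of_quasisimple hTp hC.2 hN
  obtain ⟨g₁, hg₁, he₁, hid₁⟩ := exists_ext_central hZ hg
  have hfPQ : Finite ↥(P ⊔ Q ⊓ T) := H802.finite_of_le hg₁.le
  have hm : ∀ x ∈ P ⊔ Q ⊓ T, g₁ x ∈ P ⊔ Q ⊓ T := mp_sup_mem hg₁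
    (fun x hx => (le_sup_left : P ≤ _) (by rw [he₁ x hx]; exact hpp.1 x hx))
    (fun z hz => (le_sup_right : Q ⊓ T ≤ P ⊔ Q ⊓ T) (by rw [hid₁ z hz]; exact hz))
  obtain ⟨m, hδpp, hδ, hδe⟩ := exists_iter_pp (p := p) hg₁ hm
  have h1 : ∀ x ∈ P, g₁^[m] x = g x := hδe _ _ le_sup_left hpp he₁
  have h2 : ∀ x ∈ Q ⊓ T, g₁^[m] x = x := hδe _ (fun x => x) le_sup_right (PP.id _) hid₁
  obtain ⟨g', hg', hpp', he', hid'⟩ := chain_ext hC.1 hp.out inferInstance hS hF hQ hδ hδpp
    le_sup_right h2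
  have hsup : (P ⊔ Q ⊓ T) ⊔ Q = P ⊔ Q := by
    rw [sup_assoc, sup_eq_right.2 (inf_le_left : Q ⊓ T ≤ Q)]
  rw [hsup] at hg' hpp'
  exact ⟨g', hg', hpp', fun x hx => by rw [he' x ((le_sup_left : P ≤ _) hx), h1 x hx], hid'⟩

/-- The group of a component centralizes every normal subgroup of the system. -/
theorem component_le_centralizerIn {T S : Subgroup Ω} {C : FusionSystem T} {F : FusionSystem S}
    [hp : Fact p.Prime] [Finite S] (hS : IsPGroup p S) (hF : F.IsSaturated p)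
    (hC : C.IsComponentIn F p) {Q : Subgroup Ω} (hQ : F.IsNormal Q) : T ≤ centralizerIn S Q := by
  have hTS : T ≤ S := le_of_subnormal hC.1
  refine le_inf hTS ?_
  have hsc := H759.IsNormal.stronglyClosed hQ
  have h1 : C.hyperfocalSubgroup p ≤ Subgroup.centralizer (Q : Set Ω) := by
    refine H747.hyperfocal_le fun P hP α hα hc x => ?_
    have hfT : Finite T := H802.finite_of_le hTS
    have hfP : Finite P := H802.finite_of_le hP
    have hPS : P ≤ S := hP.trans hTS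
    have hg := (mp_iff_autGroup hP α).1 hα
    have hval : ∀ (x : Ω) (hx : x ∈ P), ex (fun x => ((α x : P) : Ω)) x = (α ⟨x, hx⟩ : P) :=
      fun x hx => ex_apply _ hx
    have hpp : PP p P (ex fun x => ((α x : P) : Ω)) := pp_of_aut hval hc
    obtain ⟨g', hg', -, he', hid'⟩ := component_ext hS hF hC hQ hg hpp
    rw [Subgroup.mem_centralizer_iff]
    intro q hq
    have hx : (x : Ω) ∈ P := x.2
    have hxPQ : (x : Ω) ∈ P ⊔ Q := (le_sup_left : P ≤ _) hx
    have hqPQ : q ∈ P ⊔ Q := (le_sup_right : Q ≤ P ⊔ Q) hq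
    have hconj : (x : Ω) * q * (x : Ω)⁻¹ ∈ Q := H759.StronglyClosed.conj_mem hsc (hPS hx) hq
    have e1 := hid' _ hconj
    rw [hg'.mul (mul_mem hxPQ hqPQ) (Subgroup.inv_mem _ hxPQ), hg'.mul hxPQ hqPQ,
      hg'.inv hxPQ, hid' q hq, he' x hx, hval x hx] at e1
    have hxx : (⟨(x : Ω), hx⟩ : P) = x := rfl
    rw [hxx] at e1
    -- `α(x) q α(x)⁻¹ = x q x⁻¹`
    have e2 : (x : Ω)⁻¹ * ((α x : P) : Ω) * q * ((x : Ω)⁻¹ * ((α x : P) : Ω))⁻¹ = q := by
      calc (x : Ω)⁻¹ * ((α x : P) : Ω) * q * ((x : Ω)⁻¹ * ((α x : P) : Ω))⁻¹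
          = (x : Ω)⁻¹ * (((α x : P) : Ω) * q * ((α x : P) : Ω)⁻¹) * x := by group
        _ = (x : Ω)⁻¹ * ((x : Ω) * q * (x : Ω)⁻¹) * x := by rw [e1]
        _ = q := by group
    have e3 := mul_inv_eq_iff_eq_mul.1 e2
    exact e3.symm
  rw [hC.2.2.1] at h1
  exact h1

theorem isFullyCentralized_of_isNormal [Finite S] {F : FusionSystem S} {Q : Subgroup Ω}
    (hQ : F.IsNormal Q) : F.IsFullyCentralized Q := by
  refine ⟨hQ.1, fun R hR => ?_⟩
  rw [H803.eq_of_isConj_of_isNormal hQ hR]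

/-- A component is contained in the centralizer system of every normal subgroup. -/
theorem component_isSubsystemOf {T S : Subgroup Ω} {C : FusionSystem T} {F : FusionSystem S}
    [hp : Fact p.Prime] [Finite S] (hS : IsPGroup p S) (hF : F.IsSaturated p)
    (hC : C.IsComponentIn F p) {Q : Subgroup Ω} (hQ : F.IsNormal Q)
    {D : FusionSystem (centralizerIn S Q)} (hD : F.IsCentralizerSystem Q D) :
    C.IsSubsystemOf D := by
  have hTS : T ≤ S := le_of_subnormal hC.1
  have hfT : Finite T := H802.finite_of_le hTS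
  have hTp : IsPGroup p T := isPGroup_mono hS hTS
  have hTD : T ≤ centralizerIn S Q := component_le_centralizerIn hS hF hC hQ
  have hfC : Finite (centralizerIn S Q) := H802.finite_of_le inf_le_left
  have key : ∀ (P : Subgroup Ω) (f : Ω → Ω), Mp C P f → Mp D P f := by
    refine mp_generation C hTp hC.2.1 (fun P f => Mp D P f) ?_ ?_ ?_ ?_ ?_ ?_
    · intro P f g _ h he
      exact h.congr he
    · intro P R f _ h hR
      exact h.res hR
    · intro P Q' f g _ _ h1 h2 h3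
      exact h1.comp h2 h3
    · intro P R f g _ h1 _ h2
      exact h1.symm h2
    · intro P hP s hs
      exact mp_conj D (hP.trans hTD) (hTD hs)
    · intro P hPa _ α hα hc f hf
      have hPT : P ≤ T := hPa.1
      have hfP : Finite P := H802.finite_of_le hPT
      have hfC' : Mp C P f := mp_of_autGroup hPT hα hf
      have hpp : PP p P f := pp_of_aut hf hc
      obtain ⟨g', hg', -, he', hid'⟩ := component_ext hS hF hC hQ hfC' hpp
      exact (H759.mp_centralizer_iff hD).2 ⟨hPT.trans hTD,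
        fun x hx => hTD (hPT (hpp.1 x hx)), g', hg', he', hid'⟩
  intro P φ hφ
  exact (key P (ex φ) (mp_ex hφ)).mem_hom fun x hx => (ex_apply _ hx).symm

/-- For `Q` normal in `F` the subgroup `C_S(Q)` is strongly closed. -/
theorem stronglyClosed_centralizerIn [Finite S] {F : FusionSystem S} {Q : Subgroup Ω}
    (hQ : F.IsNormal Q) : F.StronglyClosed (centralizerIn S Q) := by
  refine stronglyClosed_of_mp inf_le_left fun P f hf hP x hx => ⟨hf.mem hx, ?_⟩
  obtain ⟨φ, hφ, hφf⟩ := hf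
  obtain ⟨ψ, hψ, h1, h2⟩ := hQ.2 P φ hφ
  refine Subgroup.mem_centralizer_iff.2 fun q hq => ?_
  obtain ⟨q₁, hq₁, rfl⟩ := h2.ge hq
  have hq₁Q : (q₁ : Ω) ∈ Q := hq₁
  have e1 : f x = ψ ⟨x, (le_sup_left : P ≤ P ⊔ Q) hx⟩ := by
    rw [← hφf x hx]
    exact (h1 ⟨x, hx⟩).symm
  rw [e1, ← map_mul, ← map_mul]
  congr 1
  apply Subtype.ext
  exact Subgroup.mem_centralizer_iff.1 (hP hx).2 _ hq₁Q

/-- **`C_F(Q)` is a normal subsystem of `F`** for `Q` normal in `F`. -/
theorem centralizerSystem_isNormalIn [Fact p.Prime] [Finite S] (hS : IsPGroup p S)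
    {F : FusionSystem S} (hF : F.IsSaturated p) {Q : Subgroup Ω} (hQ : F.IsNormal Q)
    {D : FusionSystem (centralizerIn S Q)} (hD : F.IsCentralizerSystem Q D) :
    D.IsNormalIn F p := by
  have hDs : D.IsSaturated p :=
    H802.centralizerSystem_isSaturated hS hF (isFullyCentralized_of_isNormal hQ) hD
  have hY := stronglyClosed_centralizerIn hQ
  refine H759.isNormalIn_of_centralizer hS hF (H759.IsNormal.stronglyClosed hQ) hD hDs le_rfl hY
    (H747.hyperfocal_le_base D p) hDs ⟨fun P => Set.Subset.rfl, H747.hyperfocal_le_base D p, ?_⟩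
  intro P _
  exact Subgroup.map_subtype_le _

/-- Normal subgroups of the system centralize the layer. -/
theorem layer_le_centralizer [Fact p.Prime] [Finite S] (hS : IsPGroup p S)
    {F : FusionSystem S} (hF : F.IsSaturated p) {E : FusionSystem T} (hE : E.IsLayerOf F p)
    {Q : Subgroup Ω} (hQ : F.IsNormal Q) {D : FusionSystem (centralizerIn S Q)}
    (hD : F.IsCentralizerSystem Q D) : E.IsSubsystemOf D :=
  hE.2.2 _ D (centralizerSystem_isNormalIn hS hF hQ hD) fun _ _ hC =>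
    component_isSubsystemOf hS hF hC hQ hD

end Cfsg.Agent.H758
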