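import Cfsg.Prelude.Def_FusionComponents
import Cfsg.Agent.H802.FusNorm
import Cfsg.Agent.H759.FusLift

/-!
# Subnormal subsystems: first properties (helper758)
-/

set_option autoImplicit false

namespace Cfsg.Agent.H758

open Cfsg Cfsg.FusionSystem

variable {Ω : Type*} [Group Ω]

/-- A subnormal subsystem is a subsystem. -/
theorem isSubsystemOf_of_subnormal {T S : Subgroup Ω} {E : FusionSystem T} {F : FusionSystem S}
    {p : ℕ} (h : E.IsSubnormalIn F p) : E.IsSubsystemOf F := by
  induction h with
  | refl F p => exact fun P φ hφ => hφ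
  | step _ h2 ih => exact fun P φ hφ => h2.1.2.2.1 P (ih P hφ)

/-- The subgroup of a subsystem. -/
theorem le_of_isSubsystemOf {T S : Subgroup Ω} {E : FusionSystem T} {F : FusionSystem S}
    (h : E.IsSubsystemOf F) : T ≤ S :=
  H802.hom_le (h T (H802.subtype_mem E le_rfl))

theorem le_of_subnormal {T S : Subgroup Ω} {E : FusionSystem T} {F : FusionSystem S}
    {p : ℕ} (h : E.IsSubnormalIn F p) : T ≤ S :=
  le_of_isSubsystemOf (isSubsystemOf_of_subnormal h)

/-- A subnormal subsystem of a saturated system is saturated. -/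
theorem isSaturated_of_subnormal {T S : Subgroup Ω} {E : FusionSystem T} {F : FusionSystem S}
    {p : ℕ} (h : E.IsSubnormalIn F p) (hF : F.IsSaturated p) : E.IsSaturated p := by
  induction h with
  | refl F p => exact hF
  | step _ h2 ih => exact ih h2.1.1

theorem isSubnormalIn_of_isNormalIn {T S : Subgroup Ω} {E : FusionSystem T} {F : FusionSystem S}
    {p : ℕ} (h : E.IsNormalIn F p) : E.IsSubnormalIn F p :=
  .step (.refl E p) h

/-- Subnormality is transitive. -/
theorem isSubnormalIn_trans {T U S : Subgroup Ω} {E : FusionSystem T} {D : FusionSystem U}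
    {F : FusionSystem S} {p : ℕ} (h : E.IsSubnormalIn D p) (h' : D.IsSubnormalIn F p) :
    E.IsSubnormalIn F p := by
  induction h' with
  | refl F p => exact h
  | step _ h2 ih => exact .step (ih h) h2

theorem finite_mono {T S : Subgroup Ω} [Finite S] (h : T ≤ S) : Finite T := H802.finite_of_le h

theorem isPGroup_mono {p : ℕ} {T S : Subgroup Ω} (hS : IsPGroup p S) (h : T ≤ S) : IsPGroup p T :=
  hS.of_injective (Subgroup.inclusion h) (Subgroup.inclusion_injective h)

/-- A fully normalized subgroup of a strongly closed subgroup `T` is fully normalized in every subsystem over `T`. -/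
theorem isFullyNormalized_of_stronglyClosed {S : Subgroup Ω} [Finite S] {p : ℕ}
    [Fact p.Prime] (hS : IsPGroup p S) {F : FusionSystem S} (hF : F.IsSaturated p)
    {T : Subgroup Ω} {E : FusionSystem T} (hEF : E.IsSubsystemOf F) (hT : F.StronglyClosed T)
    {P : Subgroup Ω} (hPT : P ≤ T) (hP : F.IsFullyNormalized P) : E.IsFullyNormalized P := by
  refine ⟨hPT, fun Q hPQ => ?_⟩
  obtain ⟨φ, hφ, hr⟩ := H802.isConj_symm hPQ
  have hφF := hEF _ hφ
  obtain ⟨β, hβ, ψ, hψ, he, hN⟩ := H802.exists_extension_normalizer hS hF hφF hr hP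
  have hle : normalizerIn T Q ≤ normalizerIn S Q := inf_le_inf_right _ hT.1
  have : Finite (normalizerIn T P) := H802.finite_of_le (S := S) (inf_le_left.trans hT.1)
  refine H802.card_le_of_maps (F.injective_of_mem hψ) hle fun x hx => ?_
  exact ⟨H759.StronglyClosed.apply_mem hT hψ (x := ⟨x, hle hx⟩) hx.1, (hN _).2⟩

/-- The same for subnormal subsystems. -/
theorem isFullyNormalized_of_subnormal {T S : Subgroup Ω} {E : FusionSystem T} {F : FusionSystem S}
    {p : ℕ} (h : E.IsSubnormalIn F p) (hp : p.Prime) (hfin : Finite S) (hS : IsPGroup p S)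
    (hF : F.IsSaturated p) {P : Subgroup Ω} (hPT : P ≤ T) (hP : F.IsFullyNormalized P) :
    E.IsFullyNormalized P := by
  induction h with
  | refl F p => exact hP
  | step h1 h2 ih =>
    have := Fact.mk hp
    have hU := h2.1.2.2.2.1
    have hfU := H802.finite_of_le hU.1
    exact ih hp hfU (isPGroup_mono hS hU.1) h2.1.1
      (isFullyNormalized_of_stronglyClosed hS hF h2.1.2.2.1 hU
        (hPT.trans (le_of_subnormal h1)) hP)

end Cfsg.Agent.H758
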