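import Cfsg.Agent.H752.Inv
import Cfsg.Agent.H758.Subn
import Cfsg.Agent.H802.FusAlp
import Cfsg.Agent.H802.FusSub

/-!
# Constructing fusion systems from predicates on functions (helper758)

`subSys`: a predicate `M P f` on subgroups and functions `Ω → Ω`, implying `Mp F P f` and closed under the operations,
defines a subsystem of `F` over `T`. Also powers, restriction and extension of automorphisms in `Mp` form.
-/

set_option autoImplicit false

namespace Cfsg.Agent.H758

open Cfsg Cfsg.FusionSystem Cfsg.Agent.H752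

variable {Ω : Type*} [Group Ω] {S T : Subgroup Ω}

/-- The closure conditions on a predicate on maps. -/
structure SysPred (F : FusionSystem S) (T : Subgroup Ω) (M : Subgroup Ω → (Ω → Ω) → Prop) : Prop where
  mp : ∀ {P f}, M P f → Mp F P f
  le : ∀ {P f}, M P f → P ≤ T
  mem : ∀ {P f}, M P f → ∀ x ∈ P, f x ∈ T
  congr : ∀ {P f g}, M P f → (∀ x ∈ P, g x = f x) → M P g
  conj : ∀ {P t}, P ≤ T → t ∈ T → M P (fun x => t * x * t⁻¹)
  comp : ∀ {P Q f g}, M P f → M Q g → (∀ x ∈ P, f x ∈ Q) → M P (fun x => g (f x))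
  symm : ∀ {P R f g}, M P f → (∀ y, y ∈ R ↔ ∃ x ∈ P, f x = y) → (∀ x ∈ P, g (f x) = x) → M R g

/-- The system defined by a predicate. -/
noncomputable def subSys {F : FusionSystem S} {M : Subgroup Ω → (Ω → Ω) → Prop}
    (h : SysPred F T M) : FusionSystem T where
  Hom P := {φ | M P (ex φ)}
  le_of_mem := by
    intro P φ hφ
    exact ⟨h.le hφ, fun x => by
      have := h.mem hφ x x.2
      rwa [ex_coe] at this⟩
  injective_of_mem := by
    intro P φ hφ a b hab
    exact Subtype.ext ((h.mp hφ).inj a.2 b.2 (by rw [ex_coe, ex_coe, hab]))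
  conj_mem := by
    intro P g hP hg
    refine h.congr (h.conj hP hg) fun x hx => ?_
    rw [ex_apply _ hx]
    rfl
  comp_mem := by
    intro P Q φ ψ hφ hψ hPQ
    refine h.congr (h.comp hφ hψ fun x hx => ?_) fun x hx => ?_
    · rw [ex_apply _ hx]
      exact hPQ ⟨x, hx⟩
    · rw [ex_apply _ hx, ex_apply (φ : P → Ω) hx, ex_apply _ (hPQ ⟨x, hx⟩)]
      rfl
  inv_mem := by
    intro P φ hφ
    obtain ⟨χ, hχ, h1⟩ := F.inv_mem (show φ ∈ F.Hom P from (h.mp hφ).mem_hom fun x hx =>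
      (ex_apply _ hx).symm)
    refine ⟨χ, ?_, h1⟩
    refine h.symm hφ (R := φ.range) (fun y => ⟨?_, ?_⟩) fun x hx => ?_
    · rintro ⟨x, rfl⟩
      exact ⟨x, x.2, ex_coe _ x⟩
    · rintro ⟨x, hx, rfl⟩
      exact ⟨⟨x, hx⟩, (ex_apply _ hx).symm⟩
    · have h2 : (φ ⟨x, hx⟩ : Ω) ∈ φ.range := ⟨_, rfl⟩
      rw [ex_apply _ hx, ex_apply _ h2]
      exact h1 ⟨x, hx⟩

theorem mp_subSys {F : FusionSystem S} {M : Subgroup Ω → (Ω → Ω) → Prop} (h : SysPred F T M)
    {P : Subgroup Ω} {f : Ω → Ω} : Mp (subSys h) P f ↔ M P f := by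
  constructor
  · rintro ⟨φ, hφ, h1⟩
    exact h.congr hφ fun x hx => by rw [ex_apply _ hx, h1 x hx]
  · intro hM
    obtain ⟨φ, hφ, h1⟩ := h.mp hM
    refine ⟨φ, h.congr hM fun x hx => ?_, h1⟩
    rw [ex_apply _ hx, h1 x hx]

theorem subSys_isSubsystemOf {F : FusionSystem S} {M : Subgroup Ω → (Ω → Ω) → Prop}
    (h : SysPred F T M) : (subSys h).IsSubsystemOf F :=
  isSubsystemOf_of_mp fun _ _ hf => h.mp ((mp_subSys h).1 hf)

/-- The intersection of two systems over the same group. -/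
theorem inf_sysPred (E D : FusionSystem T) : SysPred E T (fun P f => Mp E P f ∧ Mp D P f) where
  mp h := h.1
  le h := h.1.le
  mem h _ hx := h.1.mem hx
  congr h he := ⟨h.1.congr he, h.2.congr he⟩
  conj hP ht := ⟨mp_conj E hP ht, mp_conj D hP ht⟩
  comp h h' hPQ := ⟨h.1.comp h'.1 hPQ, h.2.comp h'.2 hPQ⟩
  symm := by
    intro P R f g h hR hg
    have key : ∀ y ∈ R, ∃ x ∈ P, f x = y ∧ g y = x := fun y hy => by
      obtain ⟨x, hx, rfl⟩ := (hR y).1 hy
      exact ⟨x, hx, rfl, hg x hx⟩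
    exact ⟨h.1.symm key, h.2.symm key⟩

/-- Equality of all `Mp` predicates gives equality of systems. -/
theorem ext_of_mp {E D : FusionSystem T} (h : ∀ P f, Mp E P f ↔ Mp D P f) : E = D := by
  have h1 : E.Hom = D.Hom := by
    funext P
    ext φ
    constructor
    · intro hφ
      exact ((h P _).1 (mp_ex hφ)).mem_hom fun x hx => (ex_apply _ hx).symm
    · intro hφ
      exact ((h P _).2 (mp_ex hφ)).mem_hom fun x hx => (ex_apply _ hx).symm
  cases E
  cases D
  congr

/-- **Generation lemma** (idea of helper757). Let `E` be saturated over `T` and `D` a system over `T` such that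
`Aut_D(P)` is normalized by `Aut_E(P)` for all `P`, and containing `Aut_E(T)`. Then `E ≤ D`. -/
theorem generation {p : ℕ} [Fact p.Prime] [Finite T] (hT : IsPGroup p T) {E : FusionSystem T}
    (hE : E.IsSaturated p) {D : FusionSystem T}
    (hn : ∀ P : Subgroup Ω, P ≤ T → ∀ a ∈ E.autGroup P, ∀ b ∈ E.autGroup P, b ∈ D.autGroup P →
      a * b * a⁻¹ ∈ D.autGroup P)
    (htop : E.autGroup T ≤ D.autGroup T) (P : Subgroup Ω) : E.Hom P ⊆ D.Hom P := by
  refine H802.le_of_autGroup_le hT hE D (fun Q hQ hbig => ?_) P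
  by_cases hQT : Q = T
  · subst hQT
    exact htop
  intro α hα
  have hQle : Q ≤ T := hQ.1
  have hfQ : Finite Q := H802.finite_of_le hQle
  let I : FusionSystem T := subSys (inf_sysPred E D)
  have hIE : I ≤ E := fun R φ hφ =>
    (mp_ex (F := I) hφ |> (mp_subSys (inf_sysPred E D)).1).1.mem_hom fun x hx => (ex_apply _ hx).symm
  have hI : ∀ b : MulAut Q, b ∈ I.autGroup Q ↔ b ∈ E.autGroup Q ∧ b ∈ D.autGroup Q := by
    intro b
    rw [mp_iff_autGroup hQle, mp_iff_autGroup hQle, mp_iff_autGroup hQle]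
    exact mp_subSys (inf_sysPred E D)
  obtain ⟨β, hβ, hβn⟩ := H802.exists_frattini hT hIE
    (H802.isFullyAutomized_of_isFullyNormalized hT hE hQ) (α := α) (by
      intro ψ hψ
      obtain ⟨h1, h2⟩ := (hI ψ).1 hψ
      exact (hI _).2 ⟨mul_mem (mul_mem hα h1) (inv_mem hα), hn Q hQle α hα ψ h1 h2⟩)
  obtain ⟨hβ1, hβ2⟩ := (hI β).1 hβ
  obtain ⟨ψ, hψ, hψe⟩ := H802.exists_extension_of_normalizes
    (H802.isReceptive_of_isFullyNormalized hT hE hQ) (mul_mem hβ1 hα) hβn
  have hlt := H802.card_lt_card_normalizerIn hT hQle hQT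
  have hψD := hbig _ hlt hψ
  have hle : Q ≤ normalizerIn T Q := H802.le_normalizerIn hQle
  have h3 : β * α ∈ D.autGroup Q := by
    refine ((mp_ex hψD).res hle).mem_autGroup fun x hx => ?_
    rw [ex_apply _ (hle hx)]
    exact hψe x hx _
  have h4 : α = β⁻¹ * (β * α) := by group
  rw [h4]
  exact mul_mem (inv_mem hβ2) h3

end Cfsg.Agent.H758
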