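import Cfsg.Agent.H758.Comp
import Cfsg.Agent.H792.WeakNormal

/-!
# The `A × B`-lemma and constrained systems (helper758)
-/

set_option autoImplicit false

namespace Cfsg.Agent.H758

open Cfsg Cfsg.FusionSystem Cfsg.Agent.H752

variable {Ω : Type*} [Group Ω] {S : Subgroup Ω} {p : ℕ}

/-- A map of a fusion system carries the subgroup generated by `X` into `K` if it does so for `X`. -/
theorem mp_closure_mem {F : FusionSystem S} {W K : Subgroup Ω} {d : Ω → Ω} (hd : Mp F W d)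
    {X : Set Ω} (h : ∀ x ∈ X, x ∈ W ∧ d x ∈ K) : ∀ x ∈ Subgroup.closure X, x ∈ W ∧ d x ∈ K := by
  intro x hx
  induction hx using Subgroup.closure_induction with
  | mem x hx => exact h x hx
  | one => exact ⟨one_mem _, by rw [hd.one]; exact one_mem _⟩
  | mul x y _ _ h1 h2 => exact ⟨mul_mem h1.1 h2.1, by rw [hd.mul h1.1 h2.1]; exact mul_mem h1.2 h2.2⟩
  | inv x _ h1 => exact ⟨Subgroup.inv_mem _ h1.1, by rw [hd.inv h1.1]; exact Subgroup.inv_mem _ h1.2⟩

theorem conj_closure_mem {X : Set Ω} {K : Subgroup Ω} {b : Ω} (h : ∀ x ∈ X, b * x * b⁻¹ ∈ K) :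
    ∀ x ∈ Subgroup.closure X, b * x * b⁻¹ ∈ K := by
  intro x hx
  induction hx using Subgroup.closure_induction with
  | mem x hx => exact h x hx
  | one => simp
  | mul x y _ _ h1 h2 =>
    have : b * (x * y) * b⁻¹ = (b * x * b⁻¹) * (b * y * b⁻¹) := by group
    rw [this]
    exact mul_mem h1 h2
  | inv x _ h1 =>
    have : b * x⁻¹ * b⁻¹ = (b * x * b⁻¹)⁻¹ := by group
    rw [this]
    exact Subgroup.inv_mem _ h1

/-- **The `A × B`-lemma**, in functional form. -/
theorem axb_fix [Fact p.Prime] {F : FusionSystem S} {W : Subgroup Ω} [Finite W]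
    (hW : IsPGroup p W) {d : Ω → Ω} (hd : Mp F W d) (hpp : PP p W d) {R B : Subgroup Ω}
    (hR : R ≤ W) (hB : B ≤ W) (hBR : ∀ b ∈ B, ∀ r ∈ R, b * r * b⁻¹ ∈ R) (hRd : ∀ r ∈ R, d r ∈ R)
    (hBd : ∀ b ∈ B, d b = b) (hC : ∀ r ∈ R, (∀ b ∈ B, b * r = r * b) → d r = r) :
    ∀ r ∈ R, d r = r := by
  have hnil : Group.IsNilpotent W := hW.isNilpotent
  obtain ⟨N, hN⟩ := (Subgroup.isNilpotent_iff_lowerCentralSeries W).1 hnil
  have key : ∀ n : ℕ, n ≤ N → ∀ R' : Subgroup Ω, R' ≤ R → (∀ b ∈ B, ∀ r ∈ R', b * r * b⁻¹ ∈ R') →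
      (∀ r ∈ R', d r ∈ R') → R' ≤ W.lowerCentralSeries (N - n) → ∀ r ∈ R', d r = r := by
    intro n
    induction n with
    | zero =>
      intro _ R' _ _ _ h r hr
      have h1 := h hr
      rw [Nat.sub_zero, hN, Subgroup.mem_bot] at h1
      rw [h1, hd.one]
    | succ n ih =>
      intro hn R' hR' hBR' hRd' h
      have hR'W : R' ≤ W := hR'.trans hR
      -- the commutator subgroup `[R', B]`
      set R'' : Subgroup Ω := Subgroup.closure {x | ∃ r ∈ R', ∃ b ∈ B, x = r * b * r⁻¹ * b⁻¹} with hR''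
      have h1 : R'' ≤ R' := by
        rw [hR'', Subgroup.closure_le]
        rintro x ⟨r, hr, b, hb, rfl⟩
        have h2 : r * b * r⁻¹ * b⁻¹ = r * (b * r⁻¹ * b⁻¹) := by group
        rw [SetLike.mem_coe, h2]
        exact mul_mem hr (hBR' b hb _ (Subgroup.inv_mem _ hr))
      have h2 : ∀ b ∈ B, ∀ r ∈ R'', b * r * b⁻¹ ∈ R'' := by
        intro b hb
        refine conj_closure_mem ?_
        rintro x ⟨r, hr, c, hc, rfl⟩
        refine Subgroup.subset_closure ⟨b * r * b⁻¹, hBR' b hb r hr, b * c * b⁻¹,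
          mul_mem (mul_mem hb hc) (Subgroup.inv_mem _ hb), ?_⟩
        group
      have h3 : ∀ r ∈ R'', d r ∈ R'' := by
        intro r hr
        refine (mp_closure_mem hd (K := R'') ?_ r hr).2
        rintro x ⟨r, hr, c, hc, rfl⟩
        have hrW := hR'W hr
        have hcW := hB hc
        refine ⟨mul_mem (mul_mem (mul_mem hrW hcW) (Subgroup.inv_mem _ hrW)) (Subgroup.inv_mem _ hcW), ?_⟩
        rw [hd.mul (mul_mem (mul_mem hrW hcW) (Subgroup.inv_mem _ hrW)) (Subgroup.inv_mem _ hcW),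
          hd.mul (mul_mem hrW hcW) (Subgroup.inv_mem _ hrW), hd.mul hrW hcW, hd.inv hrW, hd.inv hcW,
          hBd c hc]
        exact Subgroup.subset_closure ⟨d r, hRd' r hr, c, hc, rfl⟩
      have h4 : R'' ≤ W.lowerCentralSeries (N - n) := by
        have h5 : N - n = (N - (n + 1)) + 1 := by omega
        rw [h5, Subgroup.lowerCentralSeries_succ, hR'', Subgroup.closure_le]
        rintro x ⟨r, hr, b, hb, rfl⟩
        exact Subgroup.commutator_mem_commutator (h hr) (hB hb)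
      have h5 := ih (by omega) R'' (h1.trans hR') h2 h3 h4
      -- `d(x) x⁻¹` centralizes `B`
      have h6 : ∀ r ∈ R', ∀ b ∈ B, b * (r⁻¹ * d r) = (r⁻¹ * d r) * b := by
        intro r hr b hb
        have hr' : r⁻¹ ∈ R' := Subgroup.inv_mem _ hr
        have hrW := hR'W hr
        have hbW := hB hb
        have e1 := h5 _ (Subgroup.subset_closure ⟨r⁻¹, hr', b, hb, rfl⟩)
        rw [inv_inv, hd.mul (mul_mem (mul_mem (Subgroup.inv_mem _ hrW) hbW) hrW) (Subgroup.inv_mem _ hbW),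
          hd.mul (mul_mem (Subgroup.inv_mem _ hrW) hbW) hrW, hd.mul (Subgroup.inv_mem _ hrW) hbW,
          hd.inv hrW, hd.inv hbW, hBd b hb] at e1
        have e2 : (d r)⁻¹ * b * d r = r⁻¹ * b * r := mul_right_cancel e1
        -- this says that `d r r⁻¹` commutes with `b`; apply it to `r⁻¹`
        have hdr : d r ∈ R' := hRd' r hr
        have e3 := h5 _ (Subgroup.subset_closure ⟨r, hr, b, hb, rfl⟩)
        rw [hd.mul (mul_mem (mul_mem hrW hbW) (Subgroup.inv_mem _ hrW)) (Subgroup.inv_mem _ hbW),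
          hd.mul (mul_mem hrW hbW) (Subgroup.inv_mem _ hrW), hd.mul hrW hbW,
          hd.inv hrW, hd.inv hbW, hBd b hb] at e3
        have e4 : d r * b * (d r)⁻¹ = r * b * r⁻¹ := mul_right_cancel e3
        have e5 : r⁻¹ * d r * b * (r⁻¹ * d r)⁻¹ = b := by
          calc r⁻¹ * d r * b * (r⁻¹ * d r)⁻¹ = r⁻¹ * (d r * b * (d r)⁻¹) * r := by group
            _ = r⁻¹ * (r * b * r⁻¹) * r := by rw [e4]
            _ = b := by group
        exact (mul_inv_eq_iff_eq_mul.1 e5).symm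
      intro r hr
      have hm : r⁻¹ * d r ∈ R' := mul_mem (Subgroup.inv_mem _ hr) (hRd' r hr)
      have h7 := hC _ (hR' hm) (h6 r hr)
      have h8 : r⁻¹ * d r ∈ (⊥ : Subgroup Ω) := by
        refine cop_mem hW hd hpp (P := ⊥) ?_ ?_ (hR'W hr) ?_
        · intro w _ x hx
          rw [Subgroup.mem_bot] at hx ⊢
          rw [hx]; group
        · intro x hx
          rw [Subgroup.mem_bot] at hx ⊢
          rw [hx, hd.one]
        · rw [h7, inv_mul_cancel]
          exact one_mem _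
      rw [Subgroup.mem_bot, inv_mul_eq_one] at h8
      exact h8.symm
  refine key N le_rfl R le_rfl hBR hRd ?_
  rw [Nat.sub_self, Subgroup.lowerCentralSeries_zero]
  exact hR

/-- A `p'`-automorphism of `W` trivial on a subgroup `V` normalized by `W` with `C_W(V) ≤ V` is trivial. -/
theorem fix_of_fix_centric [Fact p.Prime] {F : FusionSystem S} {W V : Subgroup Ω}
    (hW : IsPGroup p W) {d : Ω → Ω} (hd : Mp F W d) (hpp : PP p W d) (hV : V ≤ W)
    (hVn : ∀ w ∈ W, ∀ v ∈ V, w * v * w⁻¹ ∈ V) (hCV : ∀ w ∈ W, (∀ v ∈ V, v * w = w * v) → w ∈ V)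
    (hid : ∀ v ∈ V, d v = v) : ∀ w ∈ W, d w = w := by
  intro w hw
  have h1 : w⁻¹ * d w ∈ V := by
    refine hCV _ (mul_mem (Subgroup.inv_mem _ hw) (hpp.1 w hw)) fun v hv => ?_
    have e1 := hid _ (hVn w hw v hv)
    rw [hd.mul (mul_mem hw (hV hv)) (Subgroup.inv_mem _ hw), hd.mul hw (hV hv), hd.inv hw,
      hid v hv] at e1
    have e2 : w⁻¹ * d w * v * (w⁻¹ * d w)⁻¹ = v := by
      calc w⁻¹ * d w * v * (w⁻¹ * d w)⁻¹ = w⁻¹ * (d w * v * (d w)⁻¹) * w := by group
        _ = w⁻¹ * (w * v * w⁻¹) * w := by rw [e1]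
        _ = v := by group
    exact (mul_inv_eq_iff_eq_mul.1 e2).symm
  have h8 : w⁻¹ * d w ∈ (⊥ : Subgroup Ω) := by
    refine cop_mem hW hd hpp (P := ⊥) ?_ ?_ hw ?_
    · intro w _ x hx
      rw [Subgroup.mem_bot] at hx ⊢
      rw [hx]; group
    · intro x hx
      rw [Subgroup.mem_bot] at hx ⊢
      rw [hx, hd.one]
    · rw [hid _ h1, inv_mul_cancel]
      exact one_mem _
  rw [Subgroup.mem_bot, inv_mul_eq_one] at h8
  exact h8.symm

/-- The core of an invariant subsystem is normal. -/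
theorem isNormal_core_of_invariant [Fact p.Prime] [Finite S] (hS : IsPGroup p S)
    {F : FusionSystem S} (hF : F.IsSaturated p) {T : Subgroup Ω} {E : FusionSystem T}
    (hE : E.IsInvariantIn F) : F.IsNormal E.core := by
  have hfT : Finite T := H802.finite_of_le hE.2.1.1
  have hN : E.IsNormal E.core := H759.isNormal_core
  refine H792.isNormal_of_invariant_normal hS hF hE hN fun α hα x hx => ?_
  have h1 := H792.isNormal_image hE hα hN
  exact H759.IsNormal.le_core h1 ⟨x, hx, rfl⟩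

theorem core_le_core_of_invariant [Fact p.Prime] [Finite S] (hS : IsPGroup p S)
    {F : FusionSystem S} (hF : F.IsSaturated p) {T : Subgroup Ω} {E : FusionSystem T}
    (hE : E.IsInvariantIn F) : E.core ≤ F.core :=
  H759.IsNormal.le_core (isNormal_core_of_invariant hS hF hE)

/-- A saturated system all of whose `p'`-automorphisms are trivial: the whole group is normal. -/
theorem isNormal_top_of_trivial [Fact p.Prime] [Finite S] (hS : IsPGroup p S) {F : FusionSystem S}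
    (hF : F.IsSaturated p)
    (h : ∀ (P : Subgroup Ω) (f : Ω → Ω), Mp F P f → PP p P f → ∀ x ∈ P, f x = x) :
    F.IsNormal S := by
  have key : ∀ (P : Subgroup Ω) (f : Ω → Ω), Mp F P f → ∃ s ∈ S, ∀ x ∈ P, f x = s * x * s⁻¹ := by
    refine mp_generation F hS hF (fun P f => ∃ s ∈ S, ∀ x ∈ P, f x = s * x * s⁻¹) ?_ ?_ ?_ ?_ ?_ ?_
    · rintro P f g _ ⟨s, hs, h1⟩ he
      exact ⟨s, hs, fun x hx => (he x hx).trans (h1 x hx)⟩
    · rintro P R f _ ⟨s, hs, h1⟩ hR
      exact ⟨s, hs, fun x hx => h1 x (hR hx)⟩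
    · rintro P Q f g _ _ ⟨s, hs, h1⟩ ⟨t, ht, h2⟩ hm
      refine ⟨t * s, mul_mem ht hs, fun x hx => ?_⟩
      show g (f x) = _
      rw [h2 _ (hm x hx), h1 x hx]
      group
    · rintro P R f g _ ⟨s, hs, h1⟩ _ hinv
      refine ⟨s⁻¹, Subgroup.inv_mem _ hs, fun y hy => ?_⟩
      obtain ⟨x, hx, hxy, hgy⟩ := hinv y hy
      rw [hgy, ← hxy, h1 x hx]
      group
    · intro P _ s hs
      exact ⟨s, hs, fun x _ => rfl⟩
    · intro P hPa _ α hα hc f hf
      have hfP : Finite P := H802.finite_of_le hPa.1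
      refine ⟨1, one_mem _, fun x hx => ?_⟩
      rw [h P f (mp_of_autGroup hPa.1 hα hf) (pp_of_aut hf hc) x hx]
      group
  refine ⟨le_rfl, fun P φ hφ => ?_⟩
  have hPS : P ≤ S := (F.le_of_mem hφ).1
  obtain ⟨s, hs, h1⟩ := key P _ (mp_ex hφ)
  have hsup : P ⊔ S = S := sup_eq_right.2 hPS
  refine ⟨conjHom (P ⊔ S) s, F.conj_mem hsup.le hs, fun x => ?_, ?_⟩
  · show s * (x : Ω) * s⁻¹ = φ x
    rw [← h1 x x.2, ex_coe]
  · ext y
    constructor
    · rintro ⟨x, hx, rfl⟩
      have hx' : (x : Ω) ∈ S := hx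
      exact mul_mem (mul_mem hs hx') (Subgroup.inv_mem _ hs)
    · intro hy
      have h2 : s⁻¹ * y * s ∈ S := mul_mem (mul_mem (Subgroup.inv_mem _ hs) hy) hs
      refine ⟨⟨s⁻¹ * y * s, (le_sup_right : S ≤ P ⊔ S) h2⟩, h2, ?_⟩
      show s * (s⁻¹ * y * s) * s⁻¹ = y
      group

/-- A saturated system with `C_S(O_p(F)) ≤ O_p(F)` is constrained. -/
theorem isConstrained_of_core [Finite S] {F : FusionSystem S} (hF : F.IsSaturated p)
    (h : centralizerIn S F.core ≤ F.core) : F.IsConstrained p := by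
  have hN : F.IsNormal F.core := H759.isNormal_core
  refine ⟨hF, F.core, hN, hN.1, fun R hR => ?_⟩
  rw [H803.eq_of_isConj_of_isNormal hN hR]
  exact h

/-- The main criterion for `M` to be constrained: the `p'`-automorphisms in `C_M(O_p(M))` act on a system `L` with a
normal centric subgroup `V` such that `C_V(B) ≤ O_p(M)` for some `B ≤ O_p(M)`. -/
theorem isConstrained_of_axb [Fact p.Prime] [Finite S] (hS : IsPGroup p S) {M : FusionSystem S}
    (hM : M.IsSaturated p) {S' : Subgroup Ω} [Finite S'] (hS' : IsPGroup p S') {L : FusionSystem S'}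
    {V B : Subgroup Ω} (hV : L.IsNormal V) (hVc : L.IsCentric V) (hB : B ≤ M.core)
    (hCV : ∀ v ∈ V, (∀ b ∈ B, b * v = v * b) → v ∈ M.core)
    (hML : ∀ (P : Subgroup Ω) (f : Ω → Ω), M.core ≤ P → Mp M P f → (∀ x ∈ M.core, f x = x) →
      Mp L P f) : M.IsConstrained p := by
  have hR : M.IsNormal M.core := H759.isNormal_core
  obtain ⟨K, hK⟩ := H802.exists_centralizerSystem M hR.1
  have hKn : K.IsNormalIn M p := centralizerSystem_isNormalIn hS hM hR hK
  have hfK : Finite (centralizerIn S M.core) := H802.finite_of_le inf_le_left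
  have hKp : IsPGroup p (centralizerIn S M.core) := isPGroup_mono hS inf_le_left
  have htriv : ∀ (P : Subgroup Ω) (f : Ω → Ω), Mp K P f → PP p P f → ∀ x ∈ P, f x = x := by
    intro P f hf hpp x hx
    obtain ⟨hPC, hfC, g, hg, he, hid⟩ := (H759.mp_centralizer_iff hK).1 hf
    have hPR : P ⊔ M.core ≤ S := hg.le
    have hfPR : Finite ↥(P ⊔ M.core) := H802.finite_of_le hPR
    -- the `p'`-part of `g`
    have hm : ∀ x ∈ P ⊔ M.core, g x ∈ P ⊔ M.core := mp_sup_mem hg
      (fun x hx => (le_sup_left : P ≤ _) (by rw [he x hx]; exact hpp.1 x hx))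
      (fun z hz => (le_sup_right : M.core ≤ P ⊔ M.core) (by rw [hid z hz]; exact hz))
    obtain ⟨m, hδpp, hδ, hδe⟩ := exists_iter_pp (p := p) hg hm
    have h1 : ∀ x ∈ P, g^[m] x = f x := hδe _ _ le_sup_left hpp he
    have h2 : ∀ x ∈ M.core, g^[m] x = x := hδe _ (fun x => x) le_sup_right (PP.id _) hid
    set g₁ := g^[m] with hg₁
    have hL : Mp L (P ⊔ M.core) g₁ := hML _ _ le_sup_right hδ h2
    -- extension over `V`
    obtain ⟨h, hh, hhe, hhV⟩ := normal_ext hV hL
    have hWS : (P ⊔ M.core) ⊔ V ≤ S' := hh.le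
    have hfW : Finite ↥((P ⊔ M.core) ⊔ V) := H802.finite_of_le hWS
    have hWp : IsPGroup p ↥((P ⊔ M.core) ⊔ V) := isPGroup_mono hS' hWS
    have hm' : ∀ x ∈ (P ⊔ M.core) ⊔ V, h x ∈ (P ⊔ M.core) ⊔ V := mp_sup_mem hh
      (fun x hx => (le_sup_left : P ⊔ M.core ≤ _) (by rw [hhe x hx]; exact hδpp.1 x hx))
      (fun z hz => (le_sup_right : V ≤ (P ⊔ M.core) ⊔ V) (hhV z hz))
    obtain ⟨m', hεpp, hε, hεe⟩ := exists_iter_pp (p := p) hh hm'
    have h3 : ∀ x ∈ P ⊔ M.core, h^[m'] x = g₁ x := hεe _ _ le_sup_left hδpp hhe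
    have h4 : ∀ v ∈ V, h^[m'] v ∈ V := iter_mem hhV m'
    have hVsc := H759.IsNormal.stronglyClosed hV
    have hB' : B ≤ (P ⊔ M.core) ⊔ V := (hB.trans le_sup_right).trans le_sup_left
    have h5 : ∀ v ∈ V, h^[m'] v = v := by
      refine axb_fix hWp hε hεpp (R := V) (B := B) le_sup_right hB' ?_ h4 ?_ ?_
      · intro b hb r hr
        exact H759.StronglyClosed.conj_mem hVsc (hWS (hB' hb)) hr
      · intro b hb
        rw [h3 b ((le_sup_right : M.core ≤ _) (hB hb)), h2 b (hB hb)]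
      · intro r hr hcomm
        have h6 := hCV r hr hcomm
        rw [h3 r ((le_sup_right : M.core ≤ _) h6), h2 r h6]
    have h7 : ∀ w ∈ (P ⊔ M.core) ⊔ V, h^[m'] w = w := by
      refine fix_of_fix_centric hWp hε hεpp (V := V) le_sup_right ?_ ?_ h5
      · intro w hw v hv
        exact H759.StronglyClosed.conj_mem hVsc (hWS hw) hv
      · intro w hw hc
        exact hVc.2 V (H802.isConj_refl L hV.1) ⟨hWS hw, Subgroup.mem_centralizer_iff.2 hc⟩
    have hxP : x ∈ P ⊔ M.core := (le_sup_left : P ≤ _) hx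
    rw [← h1 x hx, ← h3 x hxP, h7 x ((le_sup_left : P ⊔ M.core ≤ _) hxP)]
  have hKN : K.IsNormal (centralizerIn S M.core) := isNormal_top_of_trivial hKp hKn.1.1 htriv
  have h1 : centralizerIn S M.core ≤ K.core := H759.IsNormal.le_core hKN
  exact isConstrained_of_core hM (h1.trans (core_le_core_of_invariant hS hM hKn.1.2.2))

end Cfsg.Agent.H758
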