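import Cfsg.Agent.H758.NormMain

/-!
# Normal subgroups and subnormal subsystems (helper758)

* `isNormal_inf_of_normal`: `Q` normal in `F`, `E` a normal subsystem over `T` give `Q ∩ T` normal in `E`;
* `isNormal_inf_of_subnormal`: the same for subnormal subsystems;
* `chain_ext`: a `p'`-automorphism `g` in a subnormal subsystem over `T`, trivial on `Q ∩ T`, extends trivially over `Q`.
-/

set_option autoImplicit false

namespace Cfsg.Agent.H758

open Cfsg Cfsg.FusionSystem Cfsg.Agent.H752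

variable {Ω : Type*} [Group Ω] {S T : Subgroup Ω}

theorem lcs_apply_mem {Q W : Subgroup Ω} (hQW : Q ≤ W) {ψ : W →* Ω}
    (hψQ : (Q.subgroupOf W).map ψ = Q) (n : ℕ) {x : Ω} (hx : x ∈ Q.lowerCentralSeries n)
    (hxW : x ∈ W) : ψ ⟨x, hxW⟩ ∈ Q.lowerCentralSeries n := by
  have h1 : (Q.subgroupOf W).map W.subtype = Q := Subgroup.map_subgroupOf_eq_of_le hQW
  have h2 := Subgroup.map_lowerCentralSeries (Q.subgroupOf W) W.subtype n
  rw [h1] at h2
  rw [← h2] at hx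
  obtain ⟨y, hy, hyx⟩ := hx
  have h3 := Subgroup.map_lowerCentralSeries (Q.subgroupOf W) ψ n
  rw [hψQ] at h3
  rw [← h3]
  refine ⟨y, hy, ?_⟩
  congr 1
  exact Subtype.ext hyx

/-- The terms of the lower central series of a normal subgroup are strongly closed. -/
theorem stronglyClosed_lcs {F : FusionSystem S} {Q : Subgroup Ω} (hQ : F.IsNormal Q) (n : ℕ) :
    F.StronglyClosed (Q.lowerCentralSeries n) := by
  have hle : Q.lowerCentralSeries n ≤ Q := Subgroup.lowerCentralSeries_le_self Q n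
  refine ⟨hle.trans hQ.1, fun R hR φ hφ x => ?_⟩
  obtain ⟨ψ, hψ, h1, h2⟩ := hQ.2 R φ hφ
  rw [← h1 x]
  exact lcs_apply_mem (le_sup_right : Q ≤ R ⊔ Q) h2 n (hR x.2) _

/-- `Q` normal in `F`, `E` a subsystem over the strongly closed `T`: `Q ∩ T` is normal in `E`. -/
theorem isNormal_inf {p : ℕ} [Fact p.Prime] [Finite S] (hS : IsPGroup p S) {F : FusionSystem S}
    {E : FusionSystem T} (hEs : E.IsSaturated p) (hEF : E.IsSubsystemOf F) (hTF : F.StronglyClosed T)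
    {Q : Subgroup Ω} (hQ : F.IsNormal Q) : E.IsNormal (Q ⊓ T) := by
  have hTS : T ≤ S := hTF.1
  have hTf : Finite T := H802.finite_of_le hTS
  have hTp : IsPGroup p T := isPGroup_mono hS hTS
  have hQf : Finite Q := H802.finite_of_le hQ.1
  have hQp : IsPGroup p Q := isPGroup_mono hS hQ.1
  have hnil : Group.IsNilpotent Q := hQp.isNilpotent
  obtain ⟨n, hn⟩ := (Subgroup.isNilpotent_iff_lowerCentralSeries Q).1 hnil
  refine H759.isNormal_of_chain hTp hEs n (fun i => Q.lowerCentralSeries (n - i) ⊓ T) ?_ ?_ ?_ ?_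
  · show Q.lowerCentralSeries (n - 0) ⊓ T = ⊥
    rw [Nat.sub_zero, hn, bot_inf_eq]
  · show Q.lowerCentralSeries (n - n) ⊓ T = Q ⊓ T
    rw [Nat.sub_self, Subgroup.lowerCentralSeries_zero]
  · intro i _
    refine ⟨inf_le_right, fun R hR φ hφ x => ⟨?_, (E.le_of_mem hφ).2 x⟩⟩
    exact (stronglyClosed_lcs hQ (n - i)).2 R (hR.trans inf_le_left) φ (hEF R hφ) x
  · intro i hi
    show ⁅Q ⊓ T, Q.lowerCentralSeries (n - (i + 1)) ⊓ T⁆ ≤ Q.lowerCentralSeries (n - i) ⊓ T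
    refine le_inf ?_ ?_
    · have h1 : n - i = (n - (i + 1)) + 1 := by omega
      rw [h1, Subgroup.lowerCentralSeries_succ, Subgroup.commutator_comm]
      exact Subgroup.commutator_mono inf_le_left inf_le_left
    · rw [Subgroup.commutator_le]
      intro a ha b hb
      exact mul_mem (mul_mem (mul_mem ha.2 hb.2) (Subgroup.inv_mem _ ha.2)) (Subgroup.inv_mem _ hb.2)

theorem isNormal_inf_of_subnormal {T S : Subgroup Ω} {C : FusionSystem T} {F : FusionSystem S}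
    {p : ℕ} (h : C.IsSubnormalIn F p) (hp : p.Prime) (hfin : Finite S) (hS : IsPGroup p S)
    (hF : F.IsSaturated p) {Q : Subgroup Ω} (hQ : F.IsNormal Q) : C.IsNormal (Q ⊓ T) := by
  have := Fact.mk hp
  induction h generalizing Q with
  | refl F p => rwa [inf_eq_left.2 hQ.1]
  | @step U S C D F p h1 h2 ih =>
    have hU := h2.1.2.2.2.1
    have hfU := H802.finite_of_le hU.1
    have h3 := ih hp hfU (isPGroup_mono hS hU.1) h2.1.1
      (isNormal_inf hS h2.1.1 h2.1.2.2.1 hU hQ) inferInstance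
    have hTU : T ≤ U := le_of_subnormal h1
    rwa [inf_assoc, inf_eq_right.2 hTU] at h3

/-- **Trivial extension along a subnormal chain.** -/
theorem chain_ext {T S : Subgroup Ω} {C : FusionSystem T} {F : FusionSystem S}
    {p : ℕ} (h : C.IsSubnormalIn F p) (hp : p.Prime) (hfin : Finite S) (hS : IsPGroup p S)
    (hF : F.IsSaturated p) {Q : Subgroup Ω} (hQ : F.IsNormal Q) {P : Subgroup Ω} {g : Ω → Ω}
    (hg : Mp C P g) (hpp : PP p P g) (hQP : Q ⊓ T ≤ P) (hid : ∀ x ∈ Q ⊓ T, g x = x) :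
    ∃ g', Mp F (P ⊔ Q) g' ∧ PP p (P ⊔ Q) g' ∧ (∀ x ∈ P, g' x = g x) ∧ ∀ q ∈ Q, g' q = q := by
  have := Fact.mk hp
  induction h generalizing Q with
  | refl F p =>
    have h1 : Q ≤ P := by rwa [inf_eq_left.2 hQ.1] at hQP
    have h2 : P ⊔ Q = P := sup_eq_left.2 h1
    rw [h2]
    rw [inf_eq_left.2 hQ.1] at hid
    exact ⟨g, hg, hpp, fun _ _ => rfl, hid⟩
  | @step U S C D F p h1 h2 ih =>
    have hU := h2.1.2.2.2.1
    have hfU := H802.finite_of_le hU.1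
    have hTU : T ≤ U := le_of_subnormal h1
    have hN : D.IsNormal (Q ⊓ U) := isNormal_inf hS h2.1.1 h2.1.2.2.1 hU hQ
    have hinf : (Q ⊓ U) ⊓ T = Q ⊓ T := by rw [inf_assoc, inf_eq_right.2 hTU]
    obtain ⟨g₁, hg₁, hpp₁, he₁, hid₁⟩ := ih hp hfU (isPGroup_mono hS hU.1) h2.1.1 hN hg hpp
      (by rw [hinf]; exact hQP) (by rw [hinf]; exact hid) inferInstance
    obtain ⟨g₂, hg₂, he₂, hQ₂⟩ := exists_ext_of_normal hS h2 hQ hg₁
    have hsup : (P ⊔ (Q ⊓ U)) ⊔ Q = P ⊔ Q := by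
      rw [sup_assoc, sup_eq_right.2 (inf_le_left : Q ⊓ U ≤ Q)]
    rw [hsup] at hg₂
    have hPU : P ⊔ Q ⊓ U ≤ P ⊔ Q := sup_le_sup_left inf_le_left P
    have hPQS : P ⊔ Q ≤ S := hg₂.le
    have hfPQ : Finite ↥(P ⊔ Q) := H802.finite_of_le hPQS
    have hm : ∀ x ∈ P ⊔ Q, g₂ x ∈ P ⊔ Q := mp_sup_mem hg₂
      (fun x hx => by
        have hx' : x ∈ P ⊔ Q ⊓ U := (le_sup_left : P ≤ _) hx
        rw [he₂ x hx']
        exact hPU (hpp₁.1 x hx'))
      (fun q hq => (le_sup_right : Q ≤ P ⊔ Q) (QPred.mem_Q hQ₂ q hq))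
    obtain ⟨m, hδpp, hδ, hδe⟩ := exists_iter_pp (p := p) hg₂ hm
    have hδ₁ : ∀ x ∈ P ⊔ Q ⊓ U, g₂^[m] x = g₁ x := hδe _ _ hPU hpp₁ he₂
    refine ⟨g₂^[m], hδ, hδpp, fun x hx => ?_, fun q hq => ?_⟩
    · rw [hδ₁ x ((le_sup_left : P ≤ _) hx), he₁ x hx]
    · have hqPQ : q ∈ P ⊔ Q := (le_sup_right : Q ≤ P ⊔ Q) hq
      have h3 : q⁻¹ * g₂^[m] q ∈ Q ⊓ U := iter_triv (QPred.mem_Q hQ₂) hQ₂ m q hq
      have h4 : q⁻¹ * g₂^[m] q ∈ (⊥ : Subgroup Ω) := by
        refine cop_mem (isPGroup_mono hS hPQS) hδ hδpp (P := ⊥) ?_ ?_ hqPQ ?_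
        · intro w _ x hx
          rw [Subgroup.mem_bot] at hx ⊢
          rw [hx]; group
        · intro x hx
          rw [Subgroup.mem_bot] at hx ⊢
          rw [hx, hδ.one]
        · rw [hδ₁ _ ((le_sup_right : Q ⊓ U ≤ _) h3), hid₁ _ h3, inv_mul_cancel]
          exact one_mem _
      rw [Subgroup.mem_bot, inv_mul_eq_one] at h4
      exact h4.symm

end Cfsg.Agent.H758
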