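import Cfsg.Agent.H758.MpSys

/-!
# Automorphisms of order prime to p, in functional form (helper758)

`PP p P f`: `f` maps `P` into itself and some iterate `f^[n]`, `n` prime to `p`, is the identity on `P`.
-/

set_option autoImplicit false

namespace Cfsg.Agent.H758

open Cfsg Cfsg.FusionSystem Cfsg.Agent.H752

variable {Ω : Type*} [Group Ω] {S T : Subgroup Ω}

/-- `f` is a `p'`-automorphism of `P`. -/
def PP (p : ℕ) (P : Subgroup Ω) (f : Ω → Ω) : Prop :=
  (∀ x ∈ P, f x ∈ P) ∧ ∃ n : ℕ, n.Coprime p ∧ ∀ x ∈ P, f^[n] x = x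

theorem iter_mem {P : Subgroup Ω} {f : Ω → Ω} (h : ∀ x ∈ P, f x ∈ P) (n : ℕ) :
    ∀ x ∈ P, f^[n] x ∈ P := by
  induction n with
  | zero => intro x hx; exact hx
  | succ n ih =>
    intro x hx
    rw [Function.iterate_succ_apply]
    exact ih _ (h x hx)

theorem iter_congr {P : Subgroup Ω} {f g : Ω → Ω} (h : ∀ x ∈ P, f x ∈ P)
    (he : ∀ x ∈ P, g x = f x) (n : ℕ) : ∀ x ∈ P, g^[n] x = f^[n] x := by
  induction n with
  | zero => intro x _; rfl
  | succ n ih =>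
    intro x hx
    rw [Function.iterate_succ_apply, Function.iterate_succ_apply, he x hx]
    exact ih _ (h x hx)

theorem Mp.iter {F : FusionSystem S} {P : Subgroup Ω} {f : Ω → Ω} (hf : Mp F P f)
    (h : ∀ x ∈ P, f x ∈ P) (n : ℕ) : Mp F P (f^[n]) := by
  induction n with
  | zero => exact mp_id F hf.le
  | succ n ih => exact (hf.comp ih h).congr fun x _ => Function.iterate_succ_apply f n x

theorem iter_aut {P : Subgroup Ω} {f : Ω → Ω} {α : MulAut P}
    (hf : ∀ (x : Ω) (hx : x ∈ P), f x = (α ⟨x, hx⟩ : P)) (n : ℕ) :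
    ∀ (x : Ω) (hx : x ∈ P), f^[n] x = ((α ^ n) ⟨x, hx⟩ : P) := by
  induction n with
  | zero => intro x hx; rfl
  | succ n ih =>
    intro x hx
    have h1 : f x ∈ P := by rw [hf x hx]; exact (α _).2
    rw [Function.iterate_succ_apply, ih _ h1, pow_succ, MulAut.mul_apply]
    congr 2
    exact Subtype.ext (hf x hx)

theorem iter_eq_id_iff {P : Subgroup Ω} {f : Ω → Ω} {α : MulAut P}
    (hf : ∀ (x : Ω) (hx : x ∈ P), f x = (α ⟨x, hx⟩ : P)) (n : ℕ) :
    (∀ x ∈ P, f^[n] x = x) ↔ orderOf α ∣ n := by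
  rw [orderOf_dvd_iff_pow_eq_one]
  constructor
  · intro h
    apply MulEquiv.ext
    intro x
    apply Subtype.ext
    rw [← iter_aut hf n x x.2, h x x.2]
    rfl
  · intro h x hx
    rw [iter_aut hf n x hx, h]
    rfl

/-- A `p'`-automorphism in functional form from one in the group of automorphisms. -/
theorem pp_of_aut {p : ℕ} {P : Subgroup Ω} {f : Ω → Ω} {α : MulAut P}
    (hf : ∀ (x : Ω) (hx : x ∈ P), f x = (α ⟨x, hx⟩ : P)) (hα : (orderOf α).Coprime p) :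
    PP p P f :=
  ⟨fun x hx => by rw [hf x hx]; exact (α _).2, orderOf α, hα, (iter_eq_id_iff hf _).2 dvd_rfl⟩

theorem PP.orderOf_coprime {p : ℕ} {P : Subgroup Ω} {f : Ω → Ω} {α : MulAut P}
    (h : PP p P f) (hf : ∀ (x : Ω) (hx : x ∈ P), f x = (α ⟨x, hx⟩ : P)) :
    (orderOf α).Coprime p := by
  obtain ⟨-, n, hn, h1⟩ := h
  exact Nat.Coprime.of_dvd_left ((iter_eq_id_iff hf n).1 h1) hn

theorem PP.res {p : ℕ} {P R : Subgroup Ω} {f : Ω → Ω} (h : PP p P f) (hR : R ≤ P)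
    (hm : ∀ x ∈ R, f x ∈ R) : PP p R f := by
  obtain ⟨-, n, hn, h1⟩ := h
  exact ⟨hm, n, hn, fun x hx => h1 x (hR hx)⟩

theorem PP.congr {p : ℕ} {P : Subgroup Ω} {f g : Ω → Ω} (h : PP p P f)
    (he : ∀ x ∈ P, g x = f x) : PP p P g := by
  obtain ⟨hm, n, hn, h1⟩ := h
  exact ⟨fun x hx => by rw [he x hx]; exact hm x hx, n, hn, fun x hx => by
    rw [iter_congr hm he n x hx, h1 x hx]⟩

theorem PP.id {p : ℕ} (P : Subgroup Ω) : PP p P (fun x => x) :=
  ⟨fun _ hx => hx, 1, Nat.coprime_one_left p, fun _ _ => rfl⟩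

/-- The exponent used to pass to the `p'`-part. -/
theorem exists_pow_cop (p : ℕ) [hp : Fact p.Prime] {N : ℕ} (hN : N ≠ 0) :
    ∃ m N' : ℕ, N'.Coprime p ∧ N ∣ m * N' ∧ m ≡ 1 [MOD N'] ∧ (∀ d, d ∣ N → d.Coprime p → d ∣ N') := by
  obtain ⟨a, N', hN', rfl⟩ := Nat.exists_eq_pow_mul_and_not_dvd hN p hp.out.ne_one
  have hc : N'.Coprime p := ((Nat.Prime.coprime_iff_not_dvd hp.out).2 hN').symm
  have hc2 : (p ^ a).Coprime N' := (Nat.Coprime.pow_right a hc).symm
  obtain ⟨m, hm1, hm2⟩ := Nat.chineseRemainder hc2 0 1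
  refine ⟨m, N', hc, ?_, hm2, fun d hd hdc => ?_⟩
  · exact Nat.mul_dvd_mul ((Nat.modEq_zero_iff_dvd).1 hm1) dvd_rfl
  · exact Nat.Coprime.dvd_of_dvd_mul_left (Nat.Coprime.pow_right a hdc) hd

/-- **Passing to the `p'`-part.** If `g` is an automorphism of `W` in `F` whose restriction to `P ≤ W` is the
`p'`-automorphism `f` of `P`, some iterate of `g` is a `p'`-automorphism of `W` and restricts to `f`. -/
theorem exists_iter_pp {p : ℕ} [Fact p.Prime] {F : FusionSystem S} {W : Subgroup Ω} [Finite W]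
    {g : Ω → Ω} (hg : Mp F W g) (hgW : ∀ x ∈ W, g x ∈ W) :
    ∃ m : ℕ, PP p W (g^[m]) ∧ Mp F W (g^[m]) ∧
      ∀ (P : Subgroup Ω) (f : Ω → Ω), P ≤ W → PP p P f → (∀ x ∈ P, g x = f x) →
        ∀ x ∈ P, g^[m] x = f x := by
  obtain ⟨γ, hγ, hγg⟩ := hg.exists_aut hgW
  have hfin : Finite (MulAut W) := by
    have : Finite (W ≃ W) := inferInstance
    exact Finite.of_injective (fun α : MulAut W => α.toEquiv) (fun a b h => by
      ext x; exact congrArg (fun e : W ≃ W => ((e x : W) : Ω)) h)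
  obtain ⟨m, N', hN', h1, h2, h3⟩ := exists_pow_cop p (orderOf_pos γ).ne'
  refine ⟨m, ⟨iter_mem hgW m, N', hN', fun x hx => ?_⟩, Mp.iter hg hgW m, ?_⟩
  · rw [← Function.iterate_mul]
    exact (iter_eq_id_iff hγg _).2 h1 x hx
  · intro P f hPW hf hfg x hx
    have hfP : ∀ x ∈ P, g x ∈ P := fun x hx => by rw [hfg x hx]; exact hf.1 x hx
    have hfinP : Finite P := H802.finite_of_le hPW
    obtain ⟨α, -, hαg⟩ := (hg.res hPW).exists_aut hfP
    have hαf : ∀ (x : Ω) (hx : x ∈ P), f x = (α ⟨x, hx⟩ : P) := fun x hx => by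
      rw [← hfg x hx, hαg x hx]
    have hc := hf.orderOf_coprime hαf
    have hd : orderOf α ∣ orderOf γ := by
      rw [← iter_eq_id_iff hαg]
      intro y hy
      exact (iter_eq_id_iff hγg _).2 dvd_rfl y (hPW hy)
    have hd' := h3 _ hd hc
    have h4 : m ≡ 1 [MOD orderOf α] := h2.of_dvd hd'
    rw [iter_aut hαg m x hx, hαf x hx]
    have h5 : α ^ m = α := by
      conv_rhs => rw [← pow_one α]
      exact pow_eq_pow_iff_modEq.2 h4
    rw [h5]

/-- **Coprime action.** If `δ` is a `p'`-automorphism of the finite `p`-group `W` leaving the normal subgroup `P`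
invariant and `m = c⁻¹ δ(c)` is fixed by `δ` modulo `P`, then `m ∈ P`. -/
theorem cop_mem {p : ℕ} [Fact p.Prime] {F : FusionSystem S} {W P : Subgroup Ω}
    (hW : IsPGroup p W) {d : Ω → Ω} (hd : Mp F W d) (hpp : PP p W d)
    (hPn : ∀ w ∈ W, ∀ x ∈ P, w * x * w⁻¹ ∈ P) (hinv : ∀ x ∈ P, d x ∈ P) {c : Ω} (hc : c ∈ W)
    (hm : (c⁻¹ * d c)⁻¹ * d (c⁻¹ * d c) ∈ P) : c⁻¹ * d c ∈ P := by
  obtain ⟨hdW, n, hn, hid⟩ := hpp
  set m := c⁻¹ * d c with hmdef
  have hmW : m ∈ W := mul_mem (inv_mem hc) (hdW c hc)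
  -- d^[j] c ∈ c m^j P
  have hmod : ∀ j : ℕ, (m ^ j)⁻¹ * d (m ^ j) ∈ P := by
    intro j
    induction j with
    | zero => rw [pow_zero, hd.one, inv_one, one_mul]; exact one_mem P
    | succ j ih =>
      rw [pow_succ, hd.mul (pow_mem hmW j) hmW]
      have h1 := hPn m⁻¹ (inv_mem hmW) _ ih
      have h2 := mul_mem h1 hm
      have h3 : m⁻¹ * ((m ^ j)⁻¹ * d (m ^ j)) * m⁻¹⁻¹ * (m⁻¹ * d m) =
          (m ^ j * m)⁻¹ * (d (m ^ j) * d m) := by group
      rwa [h3] at h2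
  have key : ∀ j : ℕ, (c * m ^ j)⁻¹ * d^[j] c ∈ P := by
    intro j
    induction j with
    | zero => simp
    | succ j ih =>
      rw [Function.iterate_succ_apply']
      have hjW : d^[j] c ∈ W := iter_mem hdW j c hc
      have hcm : c * m ^ j ∈ W := mul_mem hc (pow_mem hmW j)
      have h1 := hinv _ ih
      rw [hd.mul (inv_mem hcm) hjW, hd.inv hcm, hd.mul hc (pow_mem hmW j)] at h1
      -- d c = c m, d (m^j) = m^j v
      have hv := hmod j
      have hdc : d c = c * m := by rw [hmdef]; group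
      rw [hdc] at h1
      have h2 : (c * m ^ (j + 1))⁻¹ * d (d^[j] c) =
          ((m ^ j)⁻¹ * d (m ^ j)) * ((c * m * d (m ^ j))⁻¹ * d (d^[j] c)) := by
        rw [pow_succ']
        group
      rw [h2]
      exact mul_mem hv h1
  have h1 := key n
  rw [hid c hc] at h1
  have h2 : m ^ n ∈ P := by
    have h3 : (c * m ^ n)⁻¹ * c = (m ^ n)⁻¹ := by group
    rw [h3] at h1
    exact inv_mem_iff.1 h1
  obtain ⟨k, hk⟩ := hW ⟨m, hmW⟩
  have hk' : m ^ p ^ k = 1 := congrArg Subtype.val hk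
  have hcop : n.Coprime (p ^ k) := Nat.Coprime.pow_right k hn
  have h4 : m ∈ Subgroup.zpowers (m ^ n) := by
    rw [← orderOf_dvd_iff_pow_eq_one] at hk'
    have h5 : (orderOf m).Coprime n := (Nat.Coprime.of_dvd_right hk' hcop).symm
    obtain ⟨u, hu⟩ := exists_pow_eq_self_of_coprime (n := n) h5.symm
    exact ⟨u, by simpa using hu⟩
  exact (Subgroup.zpowers_le.2 h2) h4

end Cfsg.Agent.H758
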