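import Cfsg.Agent.H758.SIStar
import Cfsg.Agent.Lib.ProductSet
import Cfsg.Agent.S5140
import Cfsg.Agent.S5141

/-!
# The normal subsystem of `N_F(X)` inside a normal subsystem `E` of `F` (helper758)

`E` normal in `F` over `T`, `D` its family of product systems, `X` fully normalized, `M = N_F(X)`. Then
`N₁ = N_{D(XT)}(X)` is weakly normal in `M`, and so is its subsystem `D_X` of `p`-power index over `N_T(X)`, which is
contained in `E`.
-/

set_option autoImplicit false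

namespace Cfsg.Agent.H758

open Cfsg Cfsg.FusionSystem Cfsg.Agent.H752

variable {Ω : Type*} [Group Ω] {S T X : Subgroup Ω} {p : ℕ}

variable {F : FusionSystem S} {E : FusionSystem T} {D : ∀ R : Subgroup Ω, FusionSystem R}

/-- `X T = X' T` for a conjugate `X'` of `X` contained in `X T`. -/
theorem sup_eq_of_isConj [Finite S] (hT : F.StronglyClosed T) {X' : Subgroup Ω}
    (hc : F.IsConj X X') (hle : X' ≤ X ⊔ T) (hXS : X ≤ S) : X' ⊔ T = X ⊔ T := by
  have hTS := hT.1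
  have hX'S : X' ≤ S := hle.trans (sup_le hXS hTS)
  have hn := H759.StronglyClosed.le_normalizer hT
  have hfS : Finite ↥(X ⊔ T) := H802.finite_of_le (sup_le hXS hTS)
  have hfT : Finite T := H802.finite_of_le hTS
  refine Subgroup.eq_of_le_of_card_ge (sup_le hle le_sup_right) ?_
  have key : ∀ Y : Subgroup Ω, Y ≤ S → Nat.card ↥(Y ⊔ T) * Nat.card ↥(Y ⊓ T) =
      Nat.card Y * Nat.card T := by
    intro Y hY
    rw [← Lib.ProductSet.card_mul_card_inf Y T,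
      ← Subgroup.coe_mul_of_left_le_normalizer_right Y T (hY.trans hn)]
    rfl
  obtain ⟨φ, hφ, hφr⟩ := hc
  have hφm := mp_ex hφ
  -- `φ (X ∩ T) = X' ∩ T`
  obtain ⟨V, hV, -, hVc⟩ := hφm.exists_image (R := X ⊓ T) inf_le_left
  obtain ⟨V', hV', -, hV'c⟩ := hφm.exists_image (R := X) le_rfl
  have h1 : V' = X' := by
    ext y
    rw [hV', ← hφr]
    constructor
    · rintro ⟨x, hx, rfl⟩
      rw [ex_apply _ hx]
      exact ⟨_, rfl⟩
    · rintro ⟨x, rfl⟩
      exact ⟨x, x.2, ex_coe _ x⟩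
  have h2 : V = X' ⊓ T := by
    ext y
    rw [hV, ← h1]
    constructor
    · rintro ⟨x, hx, rfl⟩
      exact ⟨(hV' _).2 ⟨x, hx.1, rfl⟩, mp_mem_of_stronglyClosed hT hφm hx.1 hx.2⟩
    · rintro ⟨hy, hyT⟩
      obtain ⟨x, hx, rfl⟩ := (hV' _).1 hy
      exact ⟨x, ⟨hx, mp_mem_of_stronglyClosed' hT hφm hx hyT⟩, rfl⟩
  have h3 := key X hXS
  have h4 := key X' hX'S
  rw [← h2, hVc, ← h1, hV'c, ← h3] at h4
  rw [h1] at h4
  have hpos : 0 < Nat.card ↥(X ⊓ T) := by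
    have hf : Finite ↥(X ⊓ T) := H802.finite_of_le (inf_le_left.trans hXS)
    exact Nat.card_pos
  exact (Nat.eq_of_mul_eq_mul_right hpos h4).ge

/-- `X` is fully normalized in every subsystem over `X T`. -/
theorem isFullyNormalized_prod [Fact p.Prime] [Finite S] (hS : IsPGroup p S) (hF : F.IsSaturated p)
    (hT : F.StronglyClosed T) (hX : F.IsFullyNormalized X) {DX : FusionSystem (X ⊔ T : Subgroup Ω)}
    (hD : DX.IsSubsystemOf F) : DX.IsFullyNormalized X := by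
  have hXS := hX.1
  have hTS := hT.1
  refine ⟨le_sup_left, fun X' hc => ?_⟩
  have hle : X' ≤ X ⊔ T := by
    obtain ⟨φ, hφ, hr⟩ := hc
    rw [← hr]
    exact H802.range_le_of_mem hφ
  have hcF : F.IsConj X X' := by
    obtain ⟨φ, hφ, hr⟩ := hc
    exact ⟨φ, hD _ hφ, hr⟩
  have he := sup_eq_of_isConj hT hcF hle hXS
  obtain ⟨g, hg, hg1, hg2⟩ := exists_mp_normalizer hS hF (H802.isConj_symm hcF) hX
  have hle2 : normalizerIn (X ⊔ T) X' ≤ normalizerIn S X' :=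
    inf_le_inf_right _ (sup_le hXS hTS)
  have hX'S : X' ≤ S := hle.trans (sup_le hXS hTS)
  have hX'N : X' ≤ normalizerIn S X' := le_inf hX'S Subgroup.le_normalizer
  obtain ⟨V, hV, -, hVc⟩ := hg.exists_image hle2
  rw [← hVc]
  have hVle : V ≤ normalizerIn (X ⊔ T) X := by
    intro y hy
    obtain ⟨x, hx, rfl⟩ := (hV y).1 hy
    refine ⟨?_, (hg2 x (hle2 hx)).2⟩
    have hxs : x ∈ X' ⊔ T := by rw [he]; exact hx.1
    rw [sup_comm] at hxs
    obtain ⟨t, ht, a, ha, rfl⟩ := (H757.mem_sup_of_normalizes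
      (hX'S.trans (H759.StronglyClosed.le_normalizer hT))).1 hxs
    have htN : t ∈ normalizerIn S X' := by
      have h1 := mul_mem (hle2 hx) (Subgroup.inv_mem _ (hX'N ha))
      rwa [mul_inv_cancel_right] at h1
    rw [hg.mul htN (hX'N ha)]
    exact mul_mem ((le_sup_right : T ≤ X ⊔ T) (mp_mem_of_stronglyClosed hT hg htN ht))
      ((le_sup_left : X ≤ X ⊔ T) ((hg1 _).2 ⟨a, ha, rfl⟩))
  have hfN : Finite ↥(normalizerIn (X ⊔ T) X) :=
    H802.finite_of_le (inf_le_left.trans (sup_le hXS hTS))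
  exact Subgroup.card_le_of_le hVle

variable {M : FusionSystem (normalizerIn S X)}

/-- `N_T(X)` is strongly closed in `N_F(X)`. -/
theorem stronglyClosed_normalizerIn (hT : F.StronglyClosed T) (hM : F.IsNormalizerSystem X M) :
    M.StronglyClosed (normalizerIn T X) := by
  refine stronglyClosed_of_mp (inf_le_inf_right _ hT.1) fun P f hf hP x hx => ?_
  obtain ⟨h1, h2, h3, -⟩ := (H753.mp_normalizerSystem_iff hM).1 hf
  exact ⟨mp_mem_of_stronglyClosed hT h1 hx (hP hx).1, (h3 x hx).2⟩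

/-- `N_{XT}(X)` is strongly closed in `N_F(X)`. -/
theorem stronglyClosed_normalizerIn_sup (hT : F.StronglyClosed T) (hXS : X ≤ S)
    (hM : F.IsNormalizerSystem X M) : M.StronglyClosed (normalizerIn (X ⊔ T) X) := by
  refine stronglyClosed_of_mp (inf_le_inf_right _ (sup_le hXS hT.1)) fun P f hf hP x hx => ?_
  obtain ⟨h1, h2, h3, g, hg, hge, hgX, -⟩ := (H753.mp_normalizerSystem_iff hM).1 hf
  refine ⟨?_, (h3 x hx).2⟩
  have hxs : x ∈ T ⊔ X := by rw [sup_comm]; exact (hP hx).1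
  obtain ⟨t, ht, a, ha, rfl⟩ := (H757.mem_sup_of_normalizes
    (hXS.trans (H759.StronglyClosed.le_normalizer hT))).1 hxs
  have haP : a ∈ P ⊔ X := (le_sup_right : X ≤ P ⊔ X) ha
  have htP : t ∈ P ⊔ X := by
    have h4 := mul_mem ((le_sup_left : P ≤ P ⊔ X) hx) (Subgroup.inv_mem _ haP)
    rwa [mul_inv_cancel_right] at h4
  rw [← hge _ hx, hg.mul htP haP]
  exact mul_mem ((le_sup_right : T ≤ X ⊔ T) (mp_mem_of_stronglyClosed hT hg htP ht))
    ((le_sup_left : X ≤ X ⊔ T) (hgX a ha))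

/-- `N₁` is strongly invariant in `M`. -/
theorem strongInvC_normalizer [Fact p.Prime] [Finite S] (hS : IsPGroup p S) (hF : F.IsSaturated p)
    (hE : E.IsInvariantIn F) (hEs : E.IsSaturated p) (h : ESys p F E D) (hXS : X ≤ S)
    (hM : F.IsNormalizerSystem X M) {N₁ : FusionSystem (normalizerIn (X ⊔ T) X)}
    (hN₁ : (D (X ⊔ T)).IsNormalizerSystem X N₁) : StrongInvC N₁ M := by
  have hT := hE.2.1
  have hTS := hT.1
  have hsc := stronglyClosed_normalizerIn_sup hT hXS hM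
  intro P Q R f g h' hPQ hQW hf hfQ hg hR
  obtain ⟨f1, f2, f3, f', hf', hfe, hfX, hfX'⟩ := (H753.mp_normalizerSystem_iff hN₁).1 hf
  obtain ⟨g1, g2, g3, g', hg', hge, hgX, hgX'⟩ := (H753.mp_normalizerSystem_iff hM).1 hg
  obtain ⟨Y', k, hk⟩ := exists_ip hg'
  have hgW : ∀ x ∈ Q, g x ∈ normalizerIn (X ⊔ T) X := fun x hx =>
    mp_mem_of_stronglyClosed hsc hg hx (hQW hx)
  have hXY' : X ≤ Y' := by
    intro y hy
    obtain ⟨x, hx, rfl⟩ := hgX' y hy
    exact (hk.l x ((le_sup_right : X ≤ Q ⊔ X) hx)).1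
  have e1 : Q ⊔ X ⊔ T = X ⊔ T := by
    rw [sup_assoc]
    exact sup_eq_right.2 (hQW.trans inf_le_left)
  have e2 : Y' ⊔ T = X ⊔ T := by
    apply le_antisymm
    · refine sup_le (fun y hy => ?_) le_sup_right
      obtain ⟨x, hx, rfl⟩ := hk.mem_iff.1 hy
      exact mp_sup_mem hg' (fun x hx => by rw [hge x hx]; exact (hgW x hx).1)
        (fun x hx => (le_sup_left : X ≤ X ⊔ T) (hgX x hx)) x hx
    · exact sup_le_sup_right hXY' T
  obtain ⟨hTp, -⟩ := siStar hS hF hE hEs h _ g' hg' (Q ⊔ X) Y' k le_rfl hk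
  have hPX : P ⊔ X ≤ Q ⊔ X := sup_le_sup_right hPQ X
  obtain ⟨R', hR', -, -⟩ := hg'.exists_image hPX
  have hf'Y : ∀ x ∈ P ⊔ X, f' x ∈ Q ⊔ X := mp_sup_mem hf'
    (fun x hx => (le_sup_left : Q ≤ _) (by rw [hfe x hx]; exact hfQ x hx))
    (fun x hx => (le_sup_right : X ≤ Q ⊔ X) (hfX x hx))
  have hβ : Mp (D (X ⊔ T)) R' (fun y => g' (f' (k y))) := by
    have h1 := hTp (P ⊔ X) R' f' (fun y => g' (f' (k y))) (by rw [e1]; exact hf') hPX hf'Y
      (fun y hy => by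
        obtain ⟨x, hx, rfl⟩ := (hR' y).1 hy
        exact ⟨x, hx, rfl, by rw [(hk.l x (hPX hx)).2]⟩)
    rwa [e2] at h1
  have hRR' : ∀ y ∈ R, y ∈ R' ∧ h' y = g' (f' (k y)) := by
    intro y hy
    obtain ⟨x, hx, h1, h2⟩ := hR y hy
    have h3 : g' x = y := by rw [hge x (hPQ hx), h1]
    have h4 : k y = x := by rw [← h3]; exact (hk.l x (hPX ((le_sup_left : P ≤ P ⊔ X) hx))).2
    refine ⟨(hR' y).2 ⟨x, (le_sup_left : P ≤ P ⊔ X) hx, h3⟩, ?_⟩
    rw [h2, h4, hfe x hx, hge _ (hfQ x hx)]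
  have hXR' : X ≤ R' := by
    intro y hy
    obtain ⟨x, hx, rfl⟩ := hgX' y hy
    exact (hR' _).2 ⟨x, (le_sup_right : X ≤ P ⊔ X) hx, rfl⟩
  have hRle : R ≤ R' := fun y hy => (hRR' y hy).1
  refine (H753.mp_normalizerSystem_iff hN₁).2 ⟨(hβ.res hRle).congr fun y hy => (hRR' y hy).2,
    fun y hy => ?_, fun y hy => ?_, fun y => g' (f' (k y)), hβ.res (sup_le hRle hXR'),
    fun y hy => (hRR' y hy).2.symm, fun y hy => ?_, fun y hy => ?_⟩
  · obtain ⟨x, hx, rfl, -⟩ := hR y hy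
    exact hgW x (hPQ hx)
  · obtain ⟨x, hx, -, h2⟩ := hR y hy
    rw [h2]
    exact hgW _ (hfQ x hx)
  · obtain ⟨x, hx, rfl⟩ := hgX' y hy
    have h4 : k (g' x) = x := (hk.l x ((le_sup_right : X ≤ Q ⊔ X) hx)).2
    show g' (f' (k (g' x))) ∈ X
    rw [h4]
    exact hgX _ (hfX x hx)
  · obtain ⟨x, hx, rfl⟩ := hgX' y hy
    obtain ⟨z, hz, rfl⟩ := hfX' x hx
    refine ⟨g' z, hgX z hz, ?_⟩
    show g' (f' (k (g' z))) = g' (f' z)
    rw [(hk.l z ((le_sup_right : X ≤ Q ⊔ X) hz)).2]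

/-- **The weakly normal subsystem of `N_F(X)` inside `E`.** -/
theorem exists_weaklyNormal [Fact p.Prime] [Finite S] (hS : IsPGroup p S) (hF : F.IsSaturated p)
    (hE : E.IsInvariantIn F) (hEs : E.IsSaturated p) (h : ESys p F E D)
    (hX : F.IsFullyNormalized X) (hM : F.IsNormalizerSystem X M) :
    ∃ DX : FusionSystem (normalizerIn T X), DX.IsWeaklyNormalIn M p ∧ DX.IsSubsystemOf E := by
  have hT := hE.2.1
  have hTS := hT.1
  have hXS := hX.1
  have hXT : X ⊔ T ≤ S := sup_le hXS hTS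
  have hfT : Finite T := H802.finite_of_le hTS
  have hfXT : Finite ↥(X ⊔ T) := H802.finite_of_le hXT
  have hXTp : IsPGroup p ↥(X ⊔ T) := isPGroup_mono hS hXT
  have hMs : M.IsSaturated p := H802.normalizerSystem_isSaturated hS hF hX hM
  have hfM : Finite (normalizerIn S X) := H802.finite_of_le inf_le_left
  have hMp : IsPGroup p (normalizerIn S X) := isPGroup_mono hS inf_le_left
  have hDs := h.sat _ (le_sup_right : T ≤ X ⊔ T) hXT
  have hDF := h.le _ (le_sup_right : T ≤ X ⊔ T) hXT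
  have hXn := isFullyNormalized_prod hS hF hT hX hDF
  obtain ⟨N₁, hN₁⟩ := H802.exists_normalizerSystem (D (X ⊔ T)) (le_sup_left : X ≤ X ⊔ T)
  have hN₁s : N₁.IsSaturated p := H802.normalizerSystem_isSaturated hXTp hDs hXn hN₁
  have hfW : Finite ↥(normalizerIn (X ⊔ T) X) := H802.finite_of_le (inf_le_left.trans hXT)
  have hWp : IsPGroup p ↥(normalizerIn (X ⊔ T) X) := isPGroup_mono hS (inf_le_left.trans hXT)
  have hN₁D : N₁.IsSubsystemOf (D (X ⊔ T)) := isSubsystemOf_of_mp fun P f hf =>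
    ((H753.mp_normalizerSystem_iff hN₁).1 hf).1
  have hN₁M : N₁.IsSubsystemOf M := by
    refine isSubsystemOf_of_mp fun P f hf => ?_
    obtain ⟨f1, f2, f3, f', hf', hfe, hfX, hfX'⟩ := (H753.mp_normalizerSystem_iff hN₁).1 hf
    have hle : normalizerIn (X ⊔ T) X ≤ normalizerIn S X := inf_le_inf_right _ hXT
    exact (H753.mp_normalizerSystem_iff hM).2 ⟨mp_mono hDF f1, f2.trans hle,
      fun x hx => hle (f3 x hx), f', mp_mono hDF hf', hfe, hfX, hfX'⟩
  have hsc := stronglyClosed_normalizerIn_sup hT hXS hM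
  have hN₁I : N₁.IsInvariantIn M :=
    (isInvariantIn_iff_strongInvC hMp hMs hN₁M hsc).2
      (strongInvC_normalizer hS hF hE hEs h hXS hM hN₁)
  -- the `p`-power index subsystem
  obtain ⟨hE1, hE2, hE3⟩ := (pPower_iff (le_sup_right : T ≤ X ⊔ T)).1
    (h.idx _ (le_sup_right : T ≤ X ⊔ T) hXT)
  have hhyp : N₁.hyperfocalSubgroup p ≤ normalizerIn T X := by
    refine H747.hyperfocal_le fun P hP α hα hc x => ?_
    have hfP : Finite P := H802.finite_of_le hP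
    have hval : ∀ (x : Ω) (hx : x ∈ P), ex (fun x => ((α x : P) : Ω)) x = (α ⟨x, hx⟩ : P) :=
      fun x hx => ex_apply _ hx
    have h4 := hE2 P _ (mp_mono hN₁D ((mp_iff_autGroup hP α).1 hα)) (pp_of_aut hval hc) x x.2
    rw [ex_coe] at h4
    exact ⟨h4, mul_mem (Subgroup.inv_mem _ (hP x.2).2) (hP (α x).2).2⟩
  have hle : normalizerIn T X ≤ normalizerIn (X ⊔ T) X := inf_le_inf_right _ le_sup_right
  obtain ⟨DX, ⟨hDXs, hDXi⟩, -⟩ := S5113.result p hWp N₁ hN₁s (normalizerIn T X) hle hhyp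
  have hfWT : Finite (normalizerIn T X) := H802.finite_of_le (inf_le_left.trans hTS)
  have hWTp : IsPGroup p (normalizerIn T X) := isPGroup_mono hS (inf_le_left.trans hTS)
  obtain ⟨hX1, hX2, hX3⟩ := (pPower_iff hle).1 hDXi
  have hscW := stronglyClosed_normalizerIn hT hM
  have hDXM : DX.IsSubsystemOf M := fun P φ hφ => hN₁M P (hX1 P hφ)
  have hDXE : DX.IsSubsystemOf E := isSubsystemOf_of_pp hWTp hDXs inf_le_left
    fun P f hf hpp => hE3 P f (hf.le.trans inf_le_left) (mp_mono hN₁D (mp_mono hX1 hf)) hpp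
  -- invariance
  have hScN₁ : N₁.StronglyClosed (normalizerIn T X) :=
    ⟨hle, fun P hP φ hφ x => hscW.2 P hP φ (hN₁M P hφ) x⟩
  have hnW : ∀ s ∈ normalizerIn (X ⊔ T) X, ∀ t ∈ normalizerIn T X, s * t * s⁻¹ ∈ normalizerIn T X :=
    fun s hs t ht => H759.StronglyClosed.conj_mem hScN₁ hs ht
  have hDXN : DX.IsNormalIn N₁ p := isNormalIn_of_pPowerIndex hWp hN₁s hle hnW hhyp hDXs hDXi
  obtain ⟨-, -, hI1, hFr1⟩ := isInvariantIn_iff.1 hN₁I
  obtain ⟨-, -, hI2, hFr2⟩ := isInvariantIn_iff.1 hDXN.1.2.2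
  have hSI : StrongInvC N₁ M := strongInvC_of_invC hI1 hFr1
  have hIM : InvC DX M := by
    intro P R f a h' hf ha hR
    obtain ⟨a', ha', hl, hr⟩ := exists_aut_inv hscW ha
    have ham : ∀ x ∈ normalizerIn T X, a x ∈ normalizerIn T X := fun x hx =>
      mp_mem_of_stronglyClosed hscW ha hx hx
    obtain ⟨D', hD's, h1, h2⟩ := exists_transport_sys (p := p) DX ha
      (fun x hx => ⟨ham x hx, hl x hx⟩) hr
    have hD' : D'.IsSubsystemOf DX := by
      refine isSubsystemOf_of_pp hWTp (hD's.2 hDXs) le_rfl fun P' f' hf' hpp => ?_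
      have hP'W : P' ≤ normalizerIn T X := hf'.le
      obtain ⟨P₀, hP₀, hP₀S, -⟩ := (ha'.res hP'W).exists_image le_rfl
      have hP₀W : P₀ ≤ normalizerIn T X := by
        intro x hx
        obtain ⟨y, hy, rfl⟩ := (hP₀ x).1 hx
        exact (hr y (hP'W hy)).1
      have h3 : Mp DX P₀ (fun x => a' (f' (a x))) := by
        refine h2 P₀ P' _ f' hf' fun x hx => ?_
        obtain ⟨y, hy, rfl⟩ := (hP₀ x).1 hx
        have hy' := hr y (hP'W hy)
        refine ⟨hy'.1, by rw [hy'.2]; exact hy, ?_, ?_⟩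
        · rw [hy'.2]; exact (hr _ (hP'W (hpp.1 y hy))).1
        · rw [hy'.2]; exact (hr _ (hP'W (hpp.1 y hy))).2
      have h4 : Mp N₁ P' f' := by
        refine hSI P₀ P₀ P' (fun x => a' (f' (a x))) a f' le_rfl (hP₀W.trans hle)
          (mp_mono hX1 h3) (fun x hx => ?_) (ha.res hP₀W) fun y hy => ?_
        · obtain ⟨y, hy, rfl⟩ := (hP₀ x).1 hx
          rw [(hr y (hP'W hy)).2]
          exact (hP₀ _).2 ⟨f' y, hpp.1 y hy, rfl⟩
        · refine ⟨a' y, (hP₀ _).2 ⟨y, hy, rfl⟩, (hr y (hP'W hy)).2, ?_⟩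
          rw [(hr y (hP'W hy)).2, (hr _ (hP'W (hpp.1 y hy))).2]
      exact hX3 P' f' hP'W h4 hpp
    exact mp_mono hD' (h1 P R f h' hf hR)
  refine ⟨DX, ⟨hDXs, hMs, isInvariantIn_iff.2 ⟨hDXM, hscW, hIM, fun P f hP hf => ?_⟩⟩, hDXE⟩
  obtain ⟨a, ha, f₀, hf₀, he⟩ := hFr1 P f (hP.trans hle) hf
  obtain ⟨b, hb, f₁, hf₁, he₁⟩ := hFr2 P f₀ hP hf₀
  refine ⟨fun x => a (b x), (mp_mono hN₁M hb).comp ha (fun x hx => hle
    (mp_mem_of_stronglyClosed hScN₁ hb hx hx)), f₁, hf₁, fun x hx => ?_⟩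
  rw [he x hx, he₁ x hx]

end Cfsg.Agent.H758
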