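import Cfsg.Agent.H758.NConj
import Cfsg.Agent.Lib.NormalAbelian

/-!
# The dichotomy theorem for fusion systems, from "no component implies constrained" (helper758)
-/

set_option autoImplicit false

namespace Cfsg.Agent.H758

open Cfsg Cfsg.FusionSystem Cfsg.Agent.H752

variable {Ω : Type*} [Group Ω] {S : Subgroup Ω} {p : ℕ}

theorem isConstrained_congr {S S' : Subgroup Ω} (h : S = S') {F : FusionSystem S}
    {F' : FusionSystem S'} (hh : ∀ P, F.Hom P = F'.Hom P) (hc : F.IsConstrained p) :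
    F'.IsConstrained p := by
  subst h
  have : F = F' := H759.fusionSystem_ext hh
  rwa [← this]

theorem hom_eq_of_mp {S S' : Subgroup Ω} {F : FusionSystem S} {F' : FusionSystem S'}
    {P : Subgroup Ω} (h : ∀ f : Ω → Ω, Mp F P f ↔ Mp F' P f) : F.Hom P = F'.Hom P := by
  ext φ
  constructor
  · intro hφ
    exact ((h _).1 (mp_ex hφ)).mem_hom fun x hx => (ex_apply _ hx).symm
  · intro hφ
    exact ((h _).2 (mp_ex hφ)).mem_hom fun x hx => (ex_apply _ hx).symm

/-- `C_{N_F(U)}(X) = N_{C_F(X)}(U)` for `X ≤ U` with `U ≤ C_S(X)`. -/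
theorem centralizer_normalizer_mp {F : FusionSystem S} {U X : Subgroup Ω} (hXU : X ≤ U)
    (hUX : U ≤ centralizerIn S X) {N : FusionSystem (normalizerIn S U)}
    (hN : F.IsNormalizerSystem U N) {L : FusionSystem (centralizerIn (normalizerIn S U) X)}
    (hL : N.IsCentralizerSystem X L) {C : FusionSystem (centralizerIn S X)}
    (hC : F.IsCentralizerSystem X C) {D : FusionSystem (normalizerIn (centralizerIn S X) U)}
    (hD : C.IsNormalizerSystem U D) {P : Subgroup Ω} {f : Ω → Ω} : Mp D P f ↔ Mp L P f := by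
  have hUN : U ≤ normalizerIn S U := le_inf (hUX.trans inf_le_left) Subgroup.le_normalizer
  have s1 : (P ⊔ X) ⊔ U = P ⊔ U := by rw [sup_assoc, sup_eq_right.2 hXU]
  have s2 : (P ⊔ U) ⊔ X = P ⊔ U := sup_eq_left.2 (hXU.trans le_sup_right)
  rw [H759.mp_centralizer_iff hL, H753.mp_normalizerSystem_iff hD]
  constructor
  · rintro ⟨h1, h2, h3, g, h4, h5, h6, h7⟩
    obtain ⟨h8, h9, h, h10, h11, h12⟩ := (H759.mp_centralizer_iff hC).1 h4
    rw [s2] at h10
    have e1 : P ≤ centralizerIn (normalizerIn S U) X := fun x hx =>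
      ⟨⟨(h2 hx).1.1, (h2 hx).2⟩, (h2 hx).1.2⟩
    have e2 : ∀ x ∈ P, f x ∈ centralizerIn (normalizerIn S U) X := fun x hx =>
      ⟨⟨(h3 x hx).1.1, (h3 x hx).2⟩, (h3 x hx).1.2⟩
    have e3 : ∀ x ∈ P, h x = f x := fun x hx => by
      rw [h11 x ((le_sup_left : P ≤ _) hx), h5 x hx]
    have e4 : ∀ x ∈ U, h x ∈ U := fun x hx => by
      rw [h11 x ((le_sup_right : U ≤ _) hx)]; exact h6 x hx
    have e5 : ∀ y ∈ U, ∃ x ∈ U, h x = y := fun y hy => by
      obtain ⟨x, hx, hxy⟩ := h7 y hy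
      exact ⟨x, hx, by rw [h11 x ((le_sup_right : U ≤ _) hx), hxy]⟩
    refine ⟨e1, e2, h, ?_, e3, h12⟩
    refine (H753.mp_normalizerSystem_iff hN).2 ⟨h10.res (sup_le_sup_left hXU P),
      sup_le (fun x hx => (e1 hx).1) (hXU.trans hUN), ?_, h, by rwa [s1], fun _ _ => rfl, e4, e5⟩
    exact mp_sup_mem (h10.res (sup_le_sup_left hXU P)) (fun x hx => by rw [e3 x hx]; exact (e2 x hx).1)
      (fun x hx => by rw [h12 x hx]; exact hUN (hXU hx))
  · rintro ⟨h1, h2, g, h3, h4, h5⟩
    obtain ⟨h6, h7, h8, h, h9, h10, h11, h12⟩ := (H753.mp_normalizerSystem_iff hN).1 h3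
    rw [s1] at h9
    have e1 : P ≤ normalizerIn (centralizerIn S X) U := fun x hx =>
      ⟨⟨(h1 hx).1.1, (h1 hx).2⟩, (h1 hx).1.2⟩
    have e2 : ∀ x ∈ P, f x ∈ normalizerIn (centralizerIn S X) U := fun x hx =>
      ⟨⟨(h2 x hx).1.1, (h2 x hx).2⟩, (h2 x hx).1.2⟩
    have e3 : ∀ x ∈ P, h x = f x := fun x hx => by
      rw [h10 x ((le_sup_left : P ≤ P ⊔ X) hx), h4 x hx]
    have e4 : ∀ x ∈ X, h x = x := fun x hx => by
      rw [h10 x ((le_sup_right : X ≤ P ⊔ X) hx), h5 x hx]
    have e5 : Mp C (P ⊔ U) h := by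
      refine (H759.mp_centralizer_iff hC).2 ⟨sup_le (fun x hx => (e1 hx).1) hUX, ?_, h, by rwa [s2],
        fun _ _ => rfl, e4⟩
      exact mp_sup_mem h9 (fun x hx => by rw [e3 x hx]; exact (e2 x hx).1) (fun x hx => hUX (h11 x hx))
    exact ⟨(e5.res le_sup_left).congr fun x hx => (e3 x hx).symm, e1, e2, h, e5, e3, h11, h12⟩

/-- **The dichotomy theorem**, given that saturated systems without components are constrained. -/
theorem dichotomy_of [Fact p.Prime] [Finite S] (hS : IsPGroup p S) (F : FusionSystem S)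
    (hF : F.IsSaturated p)
    (H : ∀ (R : Subgroup Ω) (_ : Finite R) (_ : IsPGroup p R) (E : FusionSystem R),
      E.IsSaturated p → (¬ ∃ (T : Subgroup Ω) (C : FusionSystem T), C.IsComponentIn E p) →
      E.IsConstrained p) :
    F.IsOfCharacteristicPType p ∨ F.IsOfComponentType p := by
  have hp : p.Prime := Fact.out
  by_cases hct : F.IsOfComponentType p
  · exact Or.inr hct
  refine Or.inl fun U hU1 hU N hN => ?_
  set A := normalizerIn S U with hA
  have hAS : A ≤ S := inf_le_left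
  have hfA : Finite A := H802.finite_of_le hAS
  have hAp : IsPGroup p A := isPGroup_mono hS hAS
  have hUA : U ≤ A := le_inf hU.1 Subgroup.le_normalizer
  have hfU : Finite U := H802.finite_of_le hU.1
  -- a subgroup of order `p` in `U ∩ Z(A)`
  obtain ⟨x, hxU, hxA, hxo⟩ : ∃ x ∈ U, (∀ a ∈ A, a * x = x * a) ∧ orderOf x = p := by
    have hnil : Group.IsNilpotent A := hAp.isNilpotent
    have hn : (U.subgroupOf A).Normal := by
      refine ⟨fun n hn g => ?_⟩
      exact (Subgroup.mem_normalizer_iff.1 g.2.2 (n : Ω)).1 hn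
    have hne : U.subgroupOf A ≠ ⊥ := by
      intro h
      apply hU1
      rw [eq_bot_iff]
      intro u hu
      have h1 : (⟨u, hUA hu⟩ : A) ∈ U.subgroupOf A := hu
      rw [h, Subgroup.mem_bot] at h1
      exact congrArg Subtype.val h1
    have h1 := Lib.NormalAbelian.normal_inf_center_ne_bot (U.subgroupOf A) hne
    obtain ⟨z, hz1⟩ := Subgroup.ne_bot_iff_exists_ne_one.1 h1
    have h2 : IsPGroup p ↥(U.subgroupOf A ⊓ Subgroup.center A) := hAp.to_subgroup _
    have hnt : Nontrivial ↥(U.subgroupOf A ⊓ Subgroup.center A) := ⟨z, 1, hz1⟩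
    obtain ⟨n, hn0, hcard⟩ := IsPGroup.nontrivial_iff_card h2 |>.1 hnt
    have h3 : p ∣ Nat.card ↥(U.subgroupOf A ⊓ Subgroup.center A) := by
      rw [hcard]
      exact dvd_pow_self p (by omega)
    obtain ⟨y, hy⟩ := exists_prime_orderOf_dvd_card' p h3
    refine ⟨((y : A) : Ω), y.2.1, fun a ha => ?_, ?_⟩
    · have h4 := Subgroup.mem_center_iff.1 y.2.2 ⟨a, ha⟩
      exact congrArg Subtype.val h4
    · rw [Subgroup.orderOf_coe, Subgroup.orderOf_coe, hy]
  set X := Subgroup.zpowers x with hX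
  have hXU : X ≤ U := Subgroup.zpowers_le.2 hxU
  have hXS : X ≤ S := hXU.trans hU.1
  have hXcard : Nat.card X = p := by rw [hX, Nat.card_zpowers, hxo]
  have hXA : ∀ a ∈ A, ∀ y ∈ X, a * y = y * a := by
    rintro a ha y ⟨i, rfl⟩
    have h1 : Commute a x := hxA a ha
    exact (h1.zpow_right i).eq
  have hANX : A ≤ normalizerIn S X := by
    intro a ha
    refine ⟨hAS ha, Subgroup.mem_normalizer_iff.2 fun y => ⟨fun hy => ?_, fun hy => ?_⟩⟩
    · have h1 : a * y * a⁻¹ = y := by rw [hXA a ha y hy]; group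
      rwa [h1]
    · have h1 := hXA a⁻¹ (Subgroup.inv_mem _ ha) _ hy
      have h2 : a⁻¹ * (a * y * a⁻¹) * a = y := by group
      rw [h1] at h2
      have h3 : a * y * a⁻¹ = y := by
        have h4 : a * y * a⁻¹ * a⁻¹ * a = y := h2
        rwa [inv_mul_cancel_right] at h4
      rwa [h3] at hy
  -- a fully normalized conjugate
  obtain ⟨X', hXX', hX'⟩ := H802.exists_isFullyNormalized hS hF hXS
  obtain ⟨g, hg, hgX, hgN⟩ := exists_mp_normalizer hS hF hXX' hX'
  have hgA : Mp F A g := hg.res hANX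
  obtain ⟨U', hU'm, hU'S, hU'c⟩ := hgA.exists_image hUA
  obtain ⟨g', hg'', hinv1, hinv2⟩ := hgA.exists_symm hUA hU'm
  have hUU' : F.IsConj U U' := by
    obtain ⟨φ, hφ, hφg⟩ := hgA.res hUA
    refine ⟨φ, hφ, ?_⟩
    ext y
    rw [hU'm]
    constructor
    · rintro ⟨u, rfl⟩
      exact ⟨u, u.2, (hφg u u.2).symm⟩
    · rintro ⟨u, hu, rfl⟩
      exact ⟨⟨u, hu⟩, hφg u hu⟩
  have hgAN : ∀ a ∈ A, g a ∈ normalizerIn S U' := by
    intro a ha
    refine ⟨hgA.mem ha, Subgroup.mem_normalizer_iff.2 fun y => ?_⟩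
    have ha' : ∀ u, u ∈ U ↔ a * u * a⁻¹ ∈ U := Subgroup.mem_normalizer_iff.1 ha.2
    constructor
    · intro hy
      obtain ⟨u, hu, rfl⟩ := (hU'm y).1 hy
      exact (hU'm _).2 ⟨a * u * a⁻¹, (ha' u).1 hu, mp_conj_eq hgA ha (hUA hu)⟩
    · intro hy
      obtain ⟨u, hu, hu'⟩ := (hU'm _).1 hy
      have h2 : a⁻¹ * u * a ∈ U := (ha' _).2 (by
        have h3 : a * (a⁻¹ * u * a) * a⁻¹ = u := by group
        rwa [h3])
      refine (hU'm _).2 ⟨a⁻¹ * u * a, h2, ?_⟩
      have h3 := mp_conj_eq hgA ha (hUA h2)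
      have h4 : a * (a⁻¹ * u * a) * a⁻¹ = u := by group
      rw [h4, hu'] at h3
      exact (mul_left_cancel (mul_right_cancel h3)).symm
  have hfN' : Finite (normalizerIn S U') := H802.finite_of_le inf_le_left
  obtain ⟨A', hA'm, hA'S, hA'c⟩ := hgA.exists_image le_rfl
  have hA'N : A' ≤ normalizerIn S U' := by
    intro y hy
    obtain ⟨a, ha, rfl⟩ := (hA'm y).1 hy
    exact hgAN a ha
  have hcard1 : Nat.card A ≤ Nat.card (normalizerIn S U') := by
    rw [← hA'c]
    exact Nat.card_le_card_of_injective (Subgroup.inclusion hA'N) (Subgroup.inclusion_injective hA'N)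
  have hU'fn : F.IsFullyNormalized U' := by
    refine ⟨hU'S, fun R hR => ?_⟩
    exact (hU.2 R (H802.isConj_trans hUU' hR)).trans hcard1
  have hA'e : A' = normalizerIn S U' :=
    Subgroup.eq_of_le_of_card_ge hA'N (hA'c ▸ hU.2 U' hUU')
  subst hA'e
  obtain ⟨k, hk, hk1, hk2⟩ := hgA.exists_symm le_rfl hA'm
  have hiso : NIso F U U' g k := by
    refine ⟨hgA, hk, fun a ha => ⟨hgAN a ha, hk1 a ha⟩, hk2, fun u hu => (hU'm _).2 ⟨u, hu, rfl⟩,
      fun y hy => ?_⟩
    obtain ⟨u, hu, rfl⟩ := (hU'm y).1 hy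
    rw [hk1 u (hUA hu)]
    exact hu
  -- `X' ≤ U'` is central in `N_S(U')`
  have hX'U' : X' ≤ U' := by
    intro y hy
    obtain ⟨z, hz, rfl⟩ := (hgX y).1 hy
    exact (hU'm _).2 ⟨z, hXU hz, rfl⟩
  have hX'Z : ∀ y ∈ X', ∀ s ∈ normalizerIn S U', s * y = y * s := by
    intro y hy s hs
    obtain ⟨z, hz, rfl⟩ := (hgX y).1 hy
    obtain ⟨a, ha, rfl⟩ := (hA'm s).1 hs
    rw [← hgA.mul ha (hUA (hXU hz)), ← hgA.mul (hUA (hXU hz)) ha, hXA a ha z hz]
  have hU'A' : U' ≤ normalizerIn S U' := le_inf hU'S Subgroup.le_normalizer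
  have hU'C : U' ≤ centralizerIn S X' := fun u hu =>
    ⟨hU'S hu, Subgroup.mem_centralizer_iff.2 fun y hy => (hX'Z y hy u (hU'A' hu)).symm⟩
  obtain ⟨N', hN'⟩ := H802.exists_normalizerSystem F hU'S
  refine hiso.isConstrained hU.1 hU'S hN hN' ?_
  have hA'p : IsPGroup p (normalizerIn S U') := isPGroup_mono hS inf_le_left
  have hN's := H802.normalizerSystem_isSaturated hS hF hU'fn hN'
  have hU'core : U' ≤ N'.core := H759.IsNormal.le_core (H753.isNormal_normalizerSystem hU'S hN')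
  obtain ⟨L, hL⟩ := H802.exists_centralizerSystem N' (hX'U'.trans hU'A')
  refine isConstrained_of_centralizer hA'p hN's (hX'U'.trans hU'core) hX'Z hL ?_
  -- `C_F(X')` is constrained
  obtain ⟨C, hC⟩ := H802.exists_centralizerSystem F hX'.1
  have hCs := H802.centralizerSystem_isSaturated hS hF
    (H802.isFullyCentralized_of_isFullyNormalized hS hF hX') hC
  have hfC : Finite (centralizerIn S X') := H802.finite_of_le inf_le_left
  have hCp : IsPGroup p (centralizerIn S X') := isPGroup_mono hS inf_le_left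
  have hX'card : Nat.card X' = p := by rw [← hXcard]; exact (H802.isConj_card_eq hXX').symm
  have hCc : C.IsConstrained p := by
    refine H _ hfC hCp C hCs ?_
    rintro ⟨T, D, hD⟩
    exact hct ⟨X', hX'card, hX', C, hC, T, D, hD⟩
  -- `U'` is fully normalized in `C`
  have hgrp : centralizerIn (normalizerIn S U') X' = normalizerIn (centralizerIn S X') U' :=
    inf_right_comm _ _ _
  have hN'C : normalizerIn S U' ≤ normalizerIn (centralizerIn S X') U' := fun s hs =>
    ⟨⟨hs.1, Subgroup.mem_centralizer_iff.2 fun y hy => (hX'Z y hy s hs).symm⟩, hs.2⟩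
  have hU'C' : C.IsFullyNormalized U' := by
    refine ⟨hU'C, fun R hR => ?_⟩
    obtain ⟨φ, hφ, hφr⟩ := hR
    have hR' : F.IsConj U' R := ⟨φ, H759.isSubsystemOf_centralizer hC _ hφ, hφr⟩
    have hfR : Finite (normalizerIn S R) := H802.finite_of_le inf_le_left
    have hfR' : Finite (normalizerIn (centralizerIn S X') U') :=
      H802.finite_of_le (inf_le_left.trans inf_le_left)
    have c1 : Nat.card (normalizerIn (centralizerIn S X') R) ≤ Nat.card (normalizerIn S R) :=
      Nat.card_le_card_of_injective (Subgroup.inclusion (inf_le_inf_right _ inf_le_left))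
        (Subgroup.inclusion_injective _)
    have c2 := hU'fn.2 R hR'
    have c3 : Nat.card (normalizerIn S U') ≤ Nat.card (normalizerIn (centralizerIn S X') U') :=
      Nat.card_le_card_of_injective (Subgroup.inclusion hN'C) (Subgroup.inclusion_injective _)
    exact (c1.trans c2).trans c3
  obtain ⟨D, hD⟩ := H802.exists_normalizerSystem C hU'C
  have hDc := normalizerSystem_isConstrained hCp hCc hU'C' hD
  refine isConstrained_congr hgrp.symm (fun P => hom_eq_of_mp fun f => ?_) hDc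
  exact centralizer_normalizer_mp hX'U' hU'C hN' hL hC hD

end Cfsg.Agent.H758
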