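import Cfsg.Agent.H758.NConj
import Cfsg.Agent.H757.AutExt

/-!
# Lemma B: trivial extension over a strongly closed subgroup (helper758)

`T` strongly closed in the saturated `F`, `X ≤ Y ≤ S`, `|C_T(X)|` maximal among the conjugates of `X`, `C_T(X) ≤ Y`.
A `p'`-automorphism of `Y` in `F` trivial on `X` and on `Y ∩ T` extends to `Y T`, trivially on `T`.
-/

set_option autoImplicit false

namespace Cfsg.Agent.H758

open Cfsg Cfsg.FusionSystem Cfsg.Agent.H752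

variable {Ω : Type*} [Group Ω] {S T : Subgroup Ω} {p : ℕ}

/-- Automorphisms of `Y` in `F`, trivial on `Y ∩ T` and modulo `T`. -/
def trG (F : FusionSystem S) (T Y : Subgroup Ω) : Subgroup (MulAut Y) where
  carrier := {γ | γ ∈ F.autGroup Y ∧ (∀ x : Y, (x : Ω) ∈ T → γ x = x) ∧
    ∀ x : Y, (x : Ω)⁻¹ * (γ x : Y) ∈ T}
  one_mem' := ⟨one_mem _, fun _ _ => rfl, fun x => by simp⟩
  mul_mem' := by
    rintro a b ⟨ha, ha1, ha2⟩ ⟨hb, hb1, hb2⟩
    refine ⟨mul_mem ha hb, fun x hx => ?_, fun x => ?_⟩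
    · rw [MulAut.mul_apply, hb1 x hx, ha1 x hx]
    · have h3 := mul_mem (hb2 x) (ha2 (b x))
      have h4 : (x : Ω)⁻¹ * (b x : Y) * (((b x : Y) : Ω)⁻¹ * (a (b x) : Y)) =
          (x : Ω)⁻¹ * (a (b x) : Y) := by group
      rw [h4] at h3
      exact h3
  inv_mem' := by
    rintro a ⟨ha, ha1, ha2⟩
    refine ⟨Subgroup.inv_mem _ ha, fun x hx => ?_, fun x => ?_⟩
    · have h1 := ha1 x hx
      conv_lhs => rw [← h1]
      exact MulAut.inv_apply_self _ a x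
    · have h1 := ha2 (a⁻¹ x)
      rw [MulAut.apply_inv_self] at h1
      have h2 := Subgroup.inv_mem _ h1
      simpa using h2

theorem mem_trG {F : FusionSystem S} {Y : Subgroup Ω} {γ : MulAut Y} :
    γ ∈ trG F T Y ↔ γ ∈ F.autGroup Y ∧ (∀ x : Y, (x : Ω) ∈ T → γ x = x) ∧
    ∀ x : Y, (x : Ω)⁻¹ * (γ x : Y) ∈ T := Iff.rfl

theorem aut_mem_T {F : FusionSystem S} (hT : F.StronglyClosed T) {Y : Subgroup Ω} (hY : Y ≤ S)
    {a : MulAut Y} (ha : a ∈ F.autGroup Y) (x : Y) (hx : (x : Ω) ∈ T) : ((a x : Y) : Ω) ∈ T :=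
  H759.StronglyClosed.apply_mem hT ((H802.mem_autGroup_iff F hY a).1 ha) (x := x) hx

theorem trG_normal {F : FusionSystem S} (hT : F.StronglyClosed T) {Y : Subgroup Ω} (hY : Y ≤ S)
    {a k : MulAut Y} (ha : a ∈ F.autGroup Y) (hk : k ∈ trG F T Y) : a * k * a⁻¹ ∈ trG F T Y := by
  obtain ⟨hk0, hk1, hk2⟩ := hk
  have hai := Subgroup.inv_mem _ ha
  refine ⟨mul_mem (mul_mem ha hk0) hai, fun x hx => ?_, fun x => ?_⟩
  · rw [MulAut.mul_apply, MulAut.mul_apply, hk1 _ (aut_mem_T hT hY hai x hx), MulAut.apply_inv_self]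
  · set y := a⁻¹ x with hy
    have hxy : a y = x := by rw [hy, MulAut.apply_inv_self]
    have h1 : (x : Ω)⁻¹ * ((a * k * a⁻¹) x : Y) = ((a (y⁻¹ * k y) : Y) : Ω) := by
      rw [MulAut.mul_apply, MulAut.mul_apply, ← hy, map_mul, map_inv, hxy]
      rfl
    rw [h1]
    refine aut_mem_T hT hY ha _ ?_
    exact hk2 y

theorem trG_isPGroup [Fact p.Prime] [Finite S] (hS : IsPGroup p S) {F : FusionSystem S}
    {Y : Subgroup Ω} (hY : Y ≤ S) : IsPGroup p (trG F T Y) := by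
  have hfY : Finite Y := H802.finite_of_le hY
  have hfM := finite_mulAut Y
  refine H757.isPGroup_of_coprime fun γ hγ hc => ?_
  refine H757.aut_eq_one_of_coprime (isPGroup_mono hS hY) hc (T.subgroupOf Y) ?_ ?_
  · intro x hx
    exact hγ.2.1 x hx
  · intro x
    exact hγ.2.2 x

/-- For `Y` fully automized these automorphisms are induced by `S`. -/
theorem trG_le [Fact p.Prime] [Finite S] (hS : IsPGroup p S) {F : FusionSystem S}
    (hT : F.StronglyClosed T) {Y : Subgroup Ω} (hY : F.IsFullyAutomized p Y) :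
    trG F T Y ≤ autInducedBy S Y := by
  have hfY : Finite Y := H802.finite_of_le hY.1
  exact H759.le_autInducedBy_of_normal hY _ (fun γ hγ => hγ.1)
    (fun a ha k hk => trG_normal hT hY.1 ha hk) (trG_isPGroup hS hY.1)

/-- Lemma B, one step, for fully normalized `Y`. -/
theorem lemB_step [Fact p.Prime] [Finite S] (hS : IsPGroup p S) {F : FusionSystem S}
    (hF : F.IsSaturated p) (hT : F.StronglyClosed T) {X Y : Subgroup Ω}
    (hYn : F.IsFullyNormalized Y) (hXY : X ≤ Y) (hCY : centralizerIn T X ≤ Y) {d : Ω → Ω}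
    (hd : Mp F Y d) (hpp : PP p Y d) (hX : ∀ x ∈ X, d x = x) (hdT : ∀ x ∈ Y, x ∈ T → d x = x) :
    ∃ d', Mp F (Y ⊔ (T ⊓ Subgroup.normalizer (Y : Set Ω))) d' ∧
      PP p (Y ⊔ (T ⊓ Subgroup.normalizer (Y : Set Ω))) d' ∧ (∀ y ∈ Y, d' y = d y) ∧
      ∀ t ∈ T ⊓ Subgroup.normalizer (Y : Set Ω), d' t = t := by
  have hYS : Y ≤ S := hYn.1
  have hfY : Finite Y := H802.finite_of_le hYS
  have hYa := H802.isFullyAutomized_of_isFullyNormalized hS hF hYn
  have hYr := H802.isReceptive_of_isFullyNormalized hS hF hYn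
  obtain ⟨α, hα, hαd⟩ := hd.exists_aut hpp.1
  obtain ⟨N, ψ, hψ, hYN, hψe, hN⟩ := H753.mp_extend hYr hd (fun y =>
    ⟨fun hy => hd.surj hpp.1 hy, fun ⟨x, hx, h⟩ => h ▸ hpp.1 x hx⟩)
  -- `N_T(Y)` lies in the extender
  have hVN : T ⊓ Subgroup.normalizer (Y : Set Ω) ≤ N := by
    rintro t ⟨htT, htn⟩
    have htS : t ∈ S := hT.1 htT
    refine hN t htS htn ?_
    obtain ⟨c, hc⟩ := H757.exists_cj htn
    have hcF : c ∈ F.autGroup Y := hc.mem_autGroup hYS htS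
    have hγ : α * c * α⁻¹ * c⁻¹ ∈ trG F T Y := by
      refine ⟨mul_mem (mul_mem (mul_mem hα hcF) (Subgroup.inv_mem _ hα)) (Subgroup.inv_mem _ hcF),
        fun x hx => ?_, fun x => ?_⟩
      · have hci := Subgroup.inv_mem _ hcF
        have h1 : ((c⁻¹ x : Y) : Ω) ∈ T := aut_mem_T hT hYS hci x hx
        have hαT : ∀ y : Y, (y : Ω) ∈ T → α y = y := fun y hy => Subtype.ext (by
          rw [← hαd y y.2]; exact hdT y y.2 hy)
        have hαi : ∀ y : Y, (y : Ω) ∈ T → α⁻¹ y = y := fun y hy => by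
          conv_lhs => rw [← hαT y hy]
          exact MulAut.inv_apply_self _ α y
        rw [MulAut.mul_apply, MulAut.mul_apply, MulAut.mul_apply, hαi _ h1, MulAut.apply_inv_self,
          hαT x hx]
      · -- modulo `T`
        set z := α⁻¹ (c⁻¹ x) with hz
        have h1 : α z = c⁻¹ x := by rw [hz, MulAut.apply_inv_self]
        have h2 : ((c z : Y) : Ω) = t * z * t⁻¹ := hc z
        have h3 : ((c⁻¹ x : Y) : Ω) = t⁻¹ * x * t := by
          have := hc.inv x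
          simpa using this
        -- `c z = z * (z⁻¹ t z t⁻¹)`
        have h4 : (z : Ω)⁻¹ * (c z : Y) ∈ T := by
          rw [h2]
          have h5 : (z : Ω)⁻¹ * (t * z * t⁻¹) = ((z : Ω)⁻¹ * t * (z : Ω)⁻¹⁻¹) * t⁻¹ := by group
          rw [h5]
          exact mul_mem (H759.StronglyClosed.conj_mem hT (Subgroup.inv_mem _ (hYS z.2)) htT)
            (Subgroup.inv_mem _ htT)
        have h5 : ((α (z⁻¹ * c z) : Y) : Ω) ∈ T := aut_mem_T hT hYS hα _ h4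
        have h6 : ((α * c * α⁻¹ * c⁻¹) x : Y) = α (c z) := by
          rw [MulAut.mul_apply, MulAut.mul_apply, MulAut.mul_apply]
        have h7 : α (c z) = α z * α (z⁻¹ * c z) := by rw [← map_mul]; congr 1; group
        rw [h6, h7, h1]
        have h8 : (x : Ω)⁻¹ * ((c⁻¹ x * α (z⁻¹ * c z) : Y) : Ω) =
            ((x : Ω)⁻¹ * t⁻¹ * (x : Ω)⁻¹⁻¹) * t * ((α (z⁻¹ * c z) : Y) : Ω) := by
          rw [Subgroup.coe_mul, h3]
          group
        rw [h8]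
        exact mul_mem (mul_mem (H759.StronglyClosed.conj_mem hT (Subgroup.inv_mem _ (hYS x.2))
          (Subgroup.inv_mem _ htT)) htT) h5
    obtain ⟨g, hg, hgc⟩ := H757.exists_cj_of_mem (trG_le hS hT hYa hγ)
    refine ⟨g * t, mul_mem hg htS, fun x hx => ?_⟩
    have h9 := (hgc.mul hc) (α ⟨x, hx⟩)
    have h10 : (α * c * α⁻¹ * c⁻¹ * c) (α ⟨x, hx⟩) = α (c ⟨x, hx⟩) := by
      simp [MulAut.mul_apply]
    rw [h10] at h9
    have h11 : t * x * t⁻¹ ∈ Y := (Subgroup.mem_normalizer_iff.1 htn x).1 hx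
    rw [hαd _ h11, hαd x hx]
    have h12 : (⟨t * x * t⁻¹, h11⟩ : Y) = c ⟨x, hx⟩ := Subtype.ext (hc ⟨x, hx⟩).symm
    rw [h12, h9]
  set V := T ⊓ Subgroup.normalizer (Y : Set Ω) with hV
  have hVS : V ≤ S := inf_le_left.trans hT.1
  have hRS : Y ⊔ V ≤ S := sup_le hYS hVS
  have hfR : Finite ↥(Y ⊔ V) := H802.finite_of_le hRS
  have hψR : Mp F (Y ⊔ V) ψ := hψ.res (sup_le hYN hVN)
  have hVV : ∀ t ∈ V, ψ t ∈ V := by
    intro t ht
    refine ⟨mp_mem_of_stronglyClosed hT hψ (hVN ht) ht.1, ?_⟩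
    refine H757.mem_normalizer_of_conj_mem fun y hy => ?_
    obtain ⟨x, hx, rfl⟩ := hd.surj hpp.1 hy
    have h1 : t * x * t⁻¹ ∈ Y := (Subgroup.mem_normalizer_iff.1 ht.2 x).1 hx
    rw [← hψe x hx, ← mp_conj_eq hψ (hVN ht) (hYN hx), hψe _ h1]
    exact hpp.1 _ h1
  have hm : ∀ x ∈ Y ⊔ V, ψ x ∈ Y ⊔ V := mp_sup_mem hψR
    (fun x hx => (le_sup_left : Y ≤ _) (by rw [hψe x hx]; exact hpp.1 x hx))
    (fun x hx => (le_sup_right : V ≤ Y ⊔ V) (hVV x hx))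
  obtain ⟨m, hδpp, hδ, hδe⟩ := exists_iter_pp (p := p) hψR hm
  have h1 : ∀ y ∈ Y, ψ^[m] y = d y := hδe _ _ le_sup_left hpp hψe
  refine ⟨ψ^[m], hδ, hδpp, h1, ?_⟩
  refine axb_fix (isPGroup_mono hS hRS) hδ hδpp (R := V) (B := X) le_sup_right
    (hXY.trans le_sup_left) ?_ (iter_mem hVV m) ?_ ?_
  · intro b hb r hr
    have hbY := hXY hb
    refine ⟨H759.StronglyClosed.conj_mem hT (hYS hbY) hr.1, ?_⟩
    exact mul_mem (mul_mem (Subgroup.le_normalizer hbY) hr.2)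
      (Subgroup.inv_mem _ (Subgroup.le_normalizer hbY))
  · intro b hb
    rw [h1 b (hXY hb), hX b hb]
  · intro r hr hcomm
    have h2 : r ∈ Y := hCY ⟨hr.1, Subgroup.mem_centralizer_iff.2 hcomm⟩
    rw [h1 r h2, hdT r h2 hr.1]

/-- Transport of a `p'`-automorphism. -/
theorem pp_transport {F : FusionSystem S} {W Y Y' : Subgroup Ω} {ψ d : Ω → Ω} (hψ : Mp F W ψ)
    (hYW : Y ≤ W) (hY' : ∀ y, y ∈ Y' ↔ ∃ x ∈ Y, ψ x = y) (hd : Mp F Y d) (hpp : PP p Y d) :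
    ∃ d', Mp F Y' d' ∧ PP p Y' d' ∧ ∀ x ∈ Y, d' (ψ x) = ψ (d x) := by
  obtain ⟨ψ', hψ', h1, h2⟩ := hψ.exists_symm hYW hY'
  have h3 : ∀ x ∈ Y, ψ (d (ψ' (ψ x))) = ψ (d x) := fun x hx => by rw [h1 x hx]
  have h4 : ∀ y ∈ Y', ψ (d (ψ' y)) ∈ Y' := fun y hy =>
    (hY' _).2 ⟨_, hpp.1 _ (h2 y hy).1, rfl⟩
  refine ⟨fun y => ψ (d (ψ' y)), ?_, ⟨h4, ?_⟩, h3⟩
  · exact (hψ'.comp hd (fun y hy => (h2 y hy).1)).comp hψ
      (fun y hy => hYW (hpp.1 _ (h2 y hy).1))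
  · obtain ⟨hm, n, hn, hid⟩ := hpp
    refine ⟨n, hn, fun y hy => ?_⟩
    have key : ∀ k : ℕ, ∀ x ∈ Y, (fun y => ψ (d (ψ' y)))^[k] (ψ x) = ψ (d^[k] x) := by
      intro k
      induction k with
      | zero => intro x _; rfl
      | succ k ih =>
        intro x hx
        rw [Function.iterate_succ_apply, Function.iterate_succ_apply]
        show (fun y => ψ (d (ψ' y)))^[k] (ψ (d (ψ' (ψ x)))) = _
        rw [h3 x hx]
        exact ih _ (hm x hx)
    obtain ⟨x, hx, rfl⟩ := (hY' y).1 hy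
    rw [key n x hx, hid x hx]

/-- **Lemma B.** -/
theorem lemB [Fact p.Prime] [Finite S] (hS : IsPGroup p S) {F : FusionSystem S}
    (hF : F.IsSaturated p) (hT : F.StronglyClosed T) {X : Subgroup Ω}
    (hmax : ∀ V : Subgroup Ω, F.IsConj X V →
      Nat.card (centralizerIn T V) ≤ Nat.card (centralizerIn T X)) {Y : Subgroup Ω}
    (hXY : X ≤ Y) (hCY : centralizerIn T X ≤ Y) {d : Ω → Ω}
    (hd : Mp F Y d) (hpp : PP p Y d) (hX : ∀ x ∈ X, d x = x) (hdT : ∀ x ∈ Y, x ∈ T → d x = x) :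
    ∃ d', Mp F (Y ⊔ T) d' ∧ PP p (Y ⊔ T) d' ∧ (∀ y ∈ Y, d' y = d y) ∧ ∀ t ∈ T, d' t = t := by
  -- induction on the index
  induction hn : Nat.card S - Nat.card Y using Nat.strong_induction_on generalizing Y d with
  | _ n IH =>
    by_cases hTY : T ≤ Y
    · refine ⟨d, ?_, ?_, fun _ _ => rfl, fun t ht => hdT t (hTY ht) ht⟩
      · rwa [sup_eq_left.2 hTY]
      · rwa [sup_eq_left.2 hTY]
    have hYS : Y ≤ S := hd.le
    obtain ⟨Y', hYY', hY'n⟩ := H802.exists_isFullyNormalized hS hF hYS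
    obtain ⟨ψ, hψ, hψY, hψN⟩ := exists_mp_normalizer hS hF hYY' hY'n
    have hYN : Y ≤ normalizerIn S Y := le_inf hYS Subgroup.le_normalizer
    obtain ⟨d₁, hd₁, hpp₁, he₁⟩ := pp_transport hψ hYN hψY hd hpp
    -- the image of `X`
    obtain ⟨X', hX', hX'S, hX'c⟩ := hψ.exists_image (hXY.trans hYN)
    have hXX' : F.IsConj X X' := by
      obtain ⟨φ, hφ, hφψ⟩ := hψ.res (hXY.trans hYN)
      refine ⟨φ, hφ, ?_⟩
      ext y
      rw [hX']
      constructor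
      · rintro ⟨x, rfl⟩
        exact ⟨x, x.2, (hφψ x x.2).symm⟩
      · rintro ⟨x, hx, rfl⟩
        exact ⟨⟨x, hx⟩, hφψ x hx⟩
    have hX'Y' : X' ≤ Y' := by
      intro y hy
      obtain ⟨x, hx, rfl⟩ := (hX' y).1 hy
      exact (hψY _).2 ⟨x, hXY hx, rfl⟩
    -- `C_T(X') = ψ(C_T(X))`
    have hCN : centralizerIn T X ≤ normalizerIn S Y := hCY.trans hYN
    obtain ⟨C', hC', hC'S, hC'c⟩ := hψ.exists_image hCN
    have hC'le : C' ≤ centralizerIn T X' := by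
      intro y hy
      obtain ⟨c, hc, rfl⟩ := (hC' y).1 hy
      refine ⟨mp_mem_of_stronglyClosed hT hψ (hCN hc) hc.1, Subgroup.mem_centralizer_iff.2 ?_⟩
      intro z hz
      obtain ⟨x, hx, rfl⟩ := (hX' z).1 hz
      have hxN := hYN (hXY hx)
      rw [← hψ.mul hxN (hCN hc), ← hψ.mul (hCN hc) hxN, Subgroup.mem_centralizer_iff.1 hc.2 x hx]
    have hfC : Finite (centralizerIn T X') := H802.finite_of_le (inf_le_left.trans hT.1)
    have hC'e : C' = centralizerIn T X' :=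
      Subgroup.eq_of_le_of_card_ge hC'le (hC'c ▸ hmax X' hXX')
    have hCY' : centralizerIn T X' ≤ Y' := by
      rw [← hC'e]
      intro y hy
      obtain ⟨c, hc, rfl⟩ := (hC' y).1 hy
      exact (hψY _).2 ⟨c, hCY hc, rfl⟩
    obtain ⟨e, he, hepp, hee, heT⟩ := lemB_step hS hF hT hY'n hX'Y' hCY' hd₁ hpp₁
      (by
        intro y hy
        obtain ⟨x, hx, rfl⟩ := (hX' y).1 hy
        rw [he₁ x (hXY hx), hX x hx])
      (by
        intro y hy hyT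
        obtain ⟨x, hx, rfl⟩ := (hψY y).1 hy
        have hxT := mp_mem_of_stronglyClosed' hT hψ (hYN hx) hyT
        rw [he₁ x hx, hdT x hx hxT])
    -- pull back
    set V := T ⊓ Subgroup.normalizer (Y : Set Ω) with hV
    have hVN : V ≤ normalizerIn S Y := fun t ht => ⟨hT.1 ht.1, ht.2⟩
    have hRN : Y ⊔ V ≤ normalizerIn S Y := sup_le hYN hVN
    obtain ⟨R', hR', hR'S, -⟩ := hψ.exists_image hRN
    obtain ⟨ψ', hψ', hl, hr⟩ := hψ.exists_symm hRN hR'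
    have hVV' : ∀ t ∈ V, ψ t ∈ T ⊓ Subgroup.normalizer (Y' : Set Ω) := fun t ht =>
      ⟨mp_mem_of_stronglyClosed hT hψ (hVN ht) ht.1, (hψN t (hVN ht)).2⟩
    have hψR : Mp F (Y ⊔ V) ψ := hψ.res hRN
    have hR'le : R' ≤ Y' ⊔ (T ⊓ Subgroup.normalizer (Y' : Set Ω)) := by
      intro y hy
      obtain ⟨x, hx, rfl⟩ := (hR' y).1 hy
      exact mp_sup_mem hψR (fun a ha => (le_sup_left : Y' ≤ _) ((hψY _).2 ⟨a, ha, rfl⟩))
        (fun a ha => (le_sup_right : T ⊓ Subgroup.normalizer (Y' : Set Ω) ≤ _) (hVV' a ha)) x hx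
    have hecomp : Mp F (Y ⊔ V) (fun x => e (ψ x)) := hψR.comp he (fun x hx =>
      hR'le ((hR' _).2 ⟨x, hx, rfl⟩))
    have heR' : ∀ x ∈ Y ⊔ V, e (ψ x) ∈ R' := mp_sup_mem hecomp
      (fun a ha => by
        show e (ψ a) ∈ R'
        rw [hee _ ((hψY _).2 ⟨a, ha, rfl⟩), he₁ a ha]
        exact (hR' _).2 ⟨_, (le_sup_left : Y ≤ _) (hpp.1 a ha), rfl⟩)
      (fun a ha => by
        show e (ψ a) ∈ R'
        rw [heT _ (hVV' a ha)]
        exact (hR' _).2 ⟨_, (le_sup_right : V ≤ Y ⊔ V) ha, rfl⟩)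
    have heR'' : ∀ y ∈ R', e y ∈ R' := fun y hy => by
      obtain ⟨x, hx, rfl⟩ := (hR' y).1 hy
      exact heR' x hx
    have hfR : Finite ↥(Y ⊔ V) := H802.finite_of_le hψR.le
    obtain ⟨f, hf, hfpp, hfe⟩ := pp_transport (p := p) (Y := R') (Y' := Y ⊔ V) hψ' le_rfl
      (fun x => ⟨fun hx => ⟨ψ x, (hR' _).2 ⟨x, hx, rfl⟩, hl x hx⟩, fun ⟨y, hy, h⟩ => h ▸ (hr y hy).1⟩)
      (he.res hR'le) (hepp.res hR'le heR'')
    have hf1 : ∀ x ∈ Y ⊔ V, f x = ψ' (e (ψ x)) := fun x hx => by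
      have h1 := hfe (ψ x) ((hR' _).2 ⟨x, hx, rfl⟩)
      rwa [hl x hx] at h1
    have hfY : ∀ y ∈ Y, f y = d y := fun y hy => by
      rw [hf1 y ((le_sup_left : Y ≤ _) hy), hee _ ((hψY _).2 ⟨y, hy, rfl⟩), he₁ y hy,
        hl _ ((le_sup_left : Y ≤ _) (hpp.1 y hy))]
    have hfV : ∀ t ∈ V, f t = t := fun t ht => by
      have htR : t ∈ Y ⊔ V := (le_sup_right : V ≤ _) ht
      rw [hf1 t htR, heT _ (hVV' t ht), hl t htR]
    have hlt : Nat.card Y < Nat.card ↥(Y ⊔ V) := card_lt_card_sup hS hT hYS hTY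
    have hle : Nat.card ↥(Y ⊔ V) ≤ Nat.card S :=
      Nat.card_le_card_of_injective (Subgroup.inclusion hψR.le) (Subgroup.inclusion_injective _)
    obtain ⟨d', h1, h2, h3, h4⟩ := IH (Nat.card S - Nat.card ↥(Y ⊔ V)) (by omega)
      (hXY.trans le_sup_left) (hCY.trans le_sup_left) hf hfpp
      (fun x hx => by rw [hfY x (hXY hx), hX x hx])
      (fun x hx hxT => by
        obtain ⟨y, hy, t, ht, rfl⟩ := (H757.mem_sup_of_normalizes (fun t ht => ht.2 :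
          V ≤ Subgroup.normalizer (Y : Set Ω))).1 hx
        have hyT : y ∈ T := by
          have h5 := mul_mem hxT (Subgroup.inv_mem _ ht.1)
          rwa [mul_inv_cancel_right] at h5
        rw [hf.mul ((le_sup_left : Y ≤ _) hy) ((le_sup_right : V ≤ _) ht), hfY y hy, hfV t ht,
          hdT y hy hyT]) rfl
    have hsup : (Y ⊔ V) ⊔ T = Y ⊔ T := by
      rw [sup_assoc, sup_eq_right.2 (inf_le_left : V ≤ T)]
    rw [hsup] at h1 h2
    exact ⟨d', h1, h2, fun y hy => by rw [h3 y ((le_sup_left : Y ≤ _) hy), hfY y hy], h4⟩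

end Cfsg.Agent.H758
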