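import Cfsg.Agent.H758.Cop
import Cfsg.Agent.H759.FusNormal

/-!
# Maps of a normal subsystem and normal subgroups (helper758)

For `Q` normal in `F` and `E` a normal subsystem of `F` over `T`, every map of `E` with source `P` extends to a map of `F`
with source `P Q` which is the identity on `Q` modulo `Q ∩ T`.
-/

set_option autoImplicit false

namespace Cfsg.Agent.H758

open Cfsg Cfsg.FusionSystem Cfsg.Agent.H752

variable {Ω : Type*} [Group Ω] {S T : Subgroup Ω}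

/-! ### Tools -/

theorem mp_sup_mem {F : FusionSystem S} {A B R : Subgroup Ω} {g : Ω → Ω} (hg : Mp F (A ⊔ B) g)
    (hA : ∀ a ∈ A, g a ∈ R) (hB : ∀ b ∈ B, g b ∈ R) : ∀ x ∈ A ⊔ B, g x ∈ R := by
  obtain ⟨φ, hφ, h1⟩ := hg
  have h2 : A ⊔ B ≤ (R.comap φ).map (A ⊔ B).subtype := by
    refine sup_le ?_ ?_
    · intro a ha
      have ha' : a ∈ A ⊔ B := (le_sup_left : A ≤ A ⊔ B) ha
      exact ⟨⟨a, ha'⟩, by
        show φ ⟨a, ha'⟩ ∈ R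
        rw [h1 a ha']; exact hA a ha, rfl⟩
    · intro b hb
      have hb' : b ∈ A ⊔ B := (le_sup_right : B ≤ A ⊔ B) hb
      exact ⟨⟨b, hb'⟩, by
        show φ ⟨b, hb'⟩ ∈ R
        rw [h1 b hb']; exact hB b hb, rfl⟩
  intro x hx
  obtain ⟨y, hy, rfl⟩ := h2 hx
  have h3 : φ y ∈ R := hy
  have h4 := h1 (y : Ω) y.2
  have h5 : (⟨(y : Ω), y.2⟩ : ↥(A ⊔ B)) = y := rfl
  rw [h5] at h4
  rw [Subgroup.subtype_apply, ← h4]
  exact h3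

/-- Two maps agreeing on `A` and on `B` agree on `A ⊔ B`. -/
theorem mp_sup_eq {F F' : FusionSystem S} {A B : Subgroup Ω} {g h : Ω → Ω} (hg : Mp F (A ⊔ B) g)
    (hh : Mp F' (A ⊔ B) h) (hA : ∀ a ∈ A, g a = h a) (hB : ∀ b ∈ B, g b = h b) :
    ∀ x ∈ A ⊔ B, g x = h x := by
  obtain ⟨φ, hφ, h1⟩ := hg
  obtain ⟨ψ, hψ, h2⟩ := hh
  have h3 : A ⊔ B ≤ (MonoidHom.eqLocus φ ψ).map (A ⊔ B).subtype := by
    refine sup_le ?_ ?_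
    · intro a ha
      have ha' : a ∈ A ⊔ B := (le_sup_left : A ≤ A ⊔ B) ha
      exact ⟨⟨a, ha'⟩, by
        show φ ⟨a, ha'⟩ = ψ ⟨a, ha'⟩
        rw [h1 a ha', h2 a ha', hA a ha], rfl⟩
    · intro b hb
      have hb' : b ∈ A ⊔ B := (le_sup_right : B ≤ A ⊔ B) hb
      exact ⟨⟨b, hb'⟩, by
        show φ ⟨b, hb'⟩ = ψ ⟨b, hb'⟩
        rw [h1 b hb', h2 b hb', hB b hb], rfl⟩
  intro x hx
  obtain ⟨y, hy, rfl⟩ := h3 hx
  have h4 : φ y = ψ y := hy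
  rw [Subgroup.subtype_apply, ← h1 (y : Ω) y.2, ← h2 (y : Ω) y.2]
  exact h4

/-- The action of `s` on `P`, transported by a map defined on `s` and `P`. -/
theorem mp_conj_eq {F : FusionSystem S} {W : Subgroup Ω} {g : Ω → Ω} (hg : Mp F W g) {s x : Ω}
    (hs : s ∈ W) (hx : x ∈ W) : g (s * x * s⁻¹) = g s * g x * (g s)⁻¹ := by
  rw [hg.mul (mul_mem hs hx) (Subgroup.inv_mem _ hs), hg.mul hs hx, hg.inv hs]

/-- Extension over a normal subgroup. -/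
theorem normal_ext {F : FusionSystem S} {Q : Subgroup Ω} (hQ : F.IsNormal Q) {P : Subgroup Ω}
    {f : Ω → Ω} (hf : Mp F P f) :
    ∃ g, Mp F (P ⊔ Q) g ∧ (∀ x ∈ P, g x = f x) ∧ ∀ q ∈ Q, g q ∈ Q := by
  obtain ⟨φ, hφ, h1⟩ := hf
  obtain ⟨ψ, hψ, h2, h3⟩ := hQ.2 P φ hφ
  refine ⟨ex ψ, mp_ex hψ, fun x hx => ?_, fun q hq => ?_⟩
  · have hx' : x ∈ P ⊔ Q := (le_sup_left : P ≤ P ⊔ Q) hx
    rw [ex_apply _ hx', ← h1 x hx]
    exact h2 ⟨x, hx⟩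
  · have hq' : q ∈ P ⊔ Q := (le_sup_right : Q ≤ P ⊔ Q) hq
    rw [ex_apply _ hq']
    exact (SetLike.ext_iff.1 h3 _).1 ⟨⟨q, hq'⟩, hq, rfl⟩

/-- Invariance on the level of automorphism groups. -/
theorem aut_conj_mem {F : FusionSystem S} {E : FusionSystem T} (hI : StrongInvC E F)
    {P : Subgroup Ω} (hPT : P ≤ T) (hPS : P ≤ S) {a b : MulAut P} (ha : a ∈ F.autGroup P)
    (hb : b ∈ E.autGroup P) : a * b * a⁻¹ ∈ E.autGroup P := by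
  rw [mp_iff_autGroup hPT]
  refine hI P P P _ _ _ le_rfl hPT ((mp_iff_autGroup hPT b).1 hb) (fun x hx => ?_)
    ((mp_iff_autGroup hPS a).1 ha) fun y hy => ⟨(a⁻¹ ⟨y, hy⟩ : P), (a⁻¹ ⟨y, hy⟩).2, ?_, ?_⟩
  · rw [ex_apply _ hx]
    exact (b _).2
  · rw [ex_apply _ (a⁻¹ ⟨y, hy⟩).2]
    show ((a (a⁻¹ ⟨y, hy⟩) : P) : Ω) = y
    rw [MulAut.apply_inv_self]
  · rw [ex_apply _ hy, ex_apply (fun x => ((b x : P) : Ω)) (a⁻¹ ⟨y, hy⟩).2, ex_apply _ (b _).2]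
    rfl

theorem strongInvC_of_isInvariantIn [Finite T] {F : FusionSystem S} {E : FusionSystem T}
    (h : E.IsInvariantIn F) : StrongInvC E F := by
  obtain ⟨-, -, h1, h2⟩ := isInvariantIn_iff.1 h
  exact strongInvC_of_invC h1 h2

/-- The extension condition in functional form. -/
theorem n1_mp {p : ℕ} [Finite S] {F : FusionSystem S} {E : FusionSystem T} (hE : E.IsNormalIn F p)
    {f : Ω → Ω} (hf : Mp E T f) :
    ∃ g, Mp F (T ⊔ centralizerIn S T) g ∧ (∀ x ∈ T, g x = f x) ∧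
      (∀ c ∈ centralizerIn S T, c⁻¹ * g c ∈ T ⊓ Subgroup.centralizer (T : Set Ω)) ∧
      (∀ c ∈ centralizerIn S T, g c ∈ centralizerIn S T) ∧
      ∀ x ∈ T ⊔ centralizerIn S T, g x ∈ T ⊔ centralizerIn S T := by
  have hTS : T ≤ S := hE.1.2.2.2.1.1
  have hTf : Finite T := H802.finite_of_le hTS
  obtain ⟨α, hα, hαf⟩ := hf.exists_aut fun x hx => hf.mem hx
  obtain ⟨β, hβ, h1, h2⟩ := hE.2 α hα
  have hW : T ⊔ centralizerIn S T ≤ S := sup_le hTS inf_le_left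
  have hβm := (mp_iff_autGroup hW β).1 hβ
  have key : ∀ c ∈ centralizerIn S T, c⁻¹ * ex (fun x => ((β x : ↥(T ⊔ centralizerIn S T)) : Ω)) c ∈
      T ⊓ Subgroup.centralizer (T : Set Ω) := by
    intro c hc
    have hc' : c ∈ T ⊔ centralizerIn S T := (le_sup_right : centralizerIn S T ≤ _) hc
    rw [ex_apply _ hc']
    exact h2 ⟨c, hc'⟩ hc
  refine ⟨_, hβm, fun x hx => ?_, key, fun c hc => ?_, fun x hx => ?_⟩
  · have hx' : x ∈ T ⊔ centralizerIn S T := (le_sup_left : T ≤ _) hx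
    rw [ex_apply _ hx', hαf x hx]
    exact h1 ⟨x, hx⟩
  · have h3 := key c hc
    have h4 := mul_mem hc (⟨hTS h3.1, h3.2⟩ : _ ∈ centralizerIn S T)
    rwa [mul_inv_cancel_left] at h4
  · rw [ex_apply _ hx]
    exact (β _).2

/-- Iterates of a map trivial modulo `T` on `C`. -/
theorem iter_triv {C P : Subgroup Ω} {G : Ω → Ω} (h : ∀ c ∈ C, G c ∈ C)
    (h' : ∀ c ∈ C, c⁻¹ * G c ∈ P) (j : ℕ) : ∀ c ∈ C, c⁻¹ * G^[j] c ∈ P := by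
  induction j with
  | zero => intro c _; simp
  | succ j ih =>
    intro c hc
    rw [Function.iterate_succ_apply]
    have h1 := mul_mem (h' c hc) (ih (G c) (h c hc))
    have h2 : c⁻¹ * G c * ((G c)⁻¹ * G^[j] (G c)) = c⁻¹ * G^[j] (G c) := by group
    rwa [h2] at h1

/-- Surjectivity on an invariant finite subgroup. -/
theorem mp_surj_of_mapsTo {F : FusionSystem S} {W Q : Subgroup Ω} [Finite Q] {g : Ω → Ω}
    (hg : Mp F W g) (hQW : Q ≤ W) (hgQ : ∀ q ∈ Q, g q ∈ Q) {q : Ω} (hq : q ∈ Q) :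
    ∃ r ∈ Q, g r = q := (hg.res hQW).surj hgQ hq

/-! ### The system of maps trivial on `Q` modulo `Q ∩ T` -/

/-- Maps over `T` that extend over `Q`, being the identity on `Q` modulo `Q ∩ T`. -/
def QPred (F : FusionSystem S) (Q T P : Subgroup Ω) (f : Ω → Ω) : Prop :=
  Mp F P f ∧ P ≤ T ∧ ∃ g, Mp F (P ⊔ Q) g ∧ (∀ x ∈ P, g x = f x) ∧ ∀ q ∈ Q, q⁻¹ * g q ∈ Q ⊓ T

theorem QPred.mem_Q {Q T : Subgroup Ω} {g : Ω → Ω}
    (h : ∀ q ∈ Q, q⁻¹ * g q ∈ Q ⊓ T) : ∀ q ∈ Q, g q ∈ Q := fun q hq => by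
  have h1 := mul_mem hq (h q hq).1
  rwa [mul_inv_cancel_left] at h1

theorem qPred_sys [Finite S] {F : FusionSystem S} {Q : Subgroup Ω} (hQ : F.IsNormal Q)
    (hT : F.StronglyClosed T) : SysPred F T (QPred F Q T) where
  mp h := h.1
  le h := h.2.1
  mem h x hx := mp_mem_of_stronglyClosed hT h.1 hx (h.2.1 hx)
  congr := by
    rintro P f g ⟨h1, h2, k, h3, h4, h5⟩ he
    exact ⟨h1.congr he, h2, k, h3, fun x hx => by rw [h4 x hx, he x hx], h5⟩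
  conj := by
    intro P t hP ht
    have hQs := H759.IsNormal.stronglyClosed hQ
    refine ⟨mp_conj F (hP.trans hT.1) (hT.1 ht), hP, _,
      mp_conj F (sup_le (hP.trans hT.1) hQ.1) (hT.1 ht), fun _ _ => rfl, fun q hq => ⟨?_, ?_⟩⟩
    · exact mul_mem (Subgroup.inv_mem _ hq) (H759.StronglyClosed.conj_mem hQs (hT.1 ht) hq)
    · have h1 := H759.StronglyClosed.conj_mem' hT (hQ.1 hq) ht
      have h2 := mul_mem h1 (Subgroup.inv_mem _ ht)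
      have h3 : q⁻¹ * t * q * t⁻¹ = q⁻¹ * (t * q * t⁻¹) := by group
      rwa [h3] at h2
  comp := by
    rintro P R f g ⟨hf, hPT, f', hf', hff, hfQ⟩ ⟨hg, hRT, g', hg', hgg, hgQ⟩ hPR
    have hm : ∀ x ∈ P ⊔ Q, f' x ∈ R ⊔ Q := mp_sup_mem hf'
      (fun x hx => by rw [hff x hx]; exact (le_sup_left : R ≤ R ⊔ Q) (hPR x hx))
      (fun q hq => (le_sup_right : Q ≤ R ⊔ Q) (QPred.mem_Q hfQ q hq))
    refine ⟨hf.comp hg hPR, hPT, _, hf'.comp hg' hm, fun x hx => ?_, fun q hq => ?_⟩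
    · show g' (f' x) = g (f x)
      rw [hff x hx, hgg _ (hPR x hx)]
    · have h1 := mul_mem (hfQ q hq) (hgQ (f' q) (QPred.mem_Q hfQ q hq))
      have h2 : q⁻¹ * f' q * ((f' q)⁻¹ * g' (f' q)) = q⁻¹ * g' (f' q) := by group
      rwa [h2] at h1
  symm := by
    rintro P R f g ⟨hf, hPT, f', hf', hff, hfQ⟩ hR hg
    have hfinQ : Finite Q := H802.finite_of_le hQ.1
    have hRT : R ≤ T := by
      intro y hy
      obtain ⟨x, hx, rfl⟩ := (hR y).1 hy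
      exact mp_mem_of_stronglyClosed hT hf hx (hPT hx)
    obtain ⟨V, hV, hVS, -⟩ := hf'.exists_image le_rfl
    obtain ⟨k, hk, hk1, hk2⟩ := hf'.exists_symm le_rfl hV
    have hRV : R ⊔ Q ≤ V := by
      refine sup_le ?_ ?_
      · intro y hy
        obtain ⟨x, hx, rfl⟩ := (hR y).1 hy
        exact (hV _).2 ⟨x, (le_sup_left : P ≤ P ⊔ Q) hx, hff x hx⟩
      · intro q hq
        obtain ⟨r, hr, hrq⟩ := mp_surj_of_mapsTo hf' le_sup_right (QPred.mem_Q hfQ) hq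
        exact (hV _).2 ⟨r, (le_sup_right : Q ≤ P ⊔ Q) hr, hrq⟩
    refine ⟨hf.symm fun y hy => ?_, hRT, k, hk.res hRV, fun y hy => ?_, fun q hq => ?_⟩
    · obtain ⟨x, hx, rfl⟩ := (hR y).1 hy
      exact ⟨x, hx, rfl, hg x hx⟩
    · obtain ⟨x, hx, rfl⟩ := (hR y).1 hy
      rw [hg x hx, ← hff x hx]
      exact hk1 x ((le_sup_left : P ≤ P ⊔ Q) hx)
    · obtain ⟨r, hr, rfl⟩ := mp_surj_of_mapsTo hf' le_sup_right (QPred.mem_Q hfQ) hq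
      rw [hk1 r ((le_sup_right : Q ≤ P ⊔ Q) hr)]
      have h1 := Subgroup.inv_mem _ (hfQ r hr)
      rwa [mul_inv_rev, inv_inv] at h1

/-- `Aut_D(P)` for the system `D` of maps trivial on `Q` modulo `Q ∩ T`. -/
theorem mem_autGroup_qSys [Finite S] {F : FusionSystem S} {Q : Subgroup Ω} (hQ : F.IsNormal Q)
    (hT : F.StronglyClosed T) {P : Subgroup Ω} (hP : P ≤ T) (b : MulAut P) :
    b ∈ (subSys (qPred_sys hQ hT)).autGroup P ↔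
      ∃ B ∈ F.autGroup (P ⊔ Q), (∀ (x : Ω) (hx : x ∈ P) (hx' : x ∈ P ⊔ Q),
        ((B ⟨x, hx'⟩ : ↥(P ⊔ Q)) : Ω) = (b ⟨x, hx⟩ : P)) ∧
        ∀ (q : Ω) (_ : q ∈ Q) (hq' : q ∈ P ⊔ Q), q⁻¹ * (B ⟨q, hq'⟩ : ↥(P ⊔ Q)) ∈ Q ⊓ T := by
  have hPQ : P ⊔ Q ≤ S := sup_le (hP.trans hT.1) hQ.1
  have hfin : Finite ↥(P ⊔ Q) := H802.finite_of_le hPQ
  rw [mp_iff_autGroup hP, mp_subSys]
  constructor
  · rintro ⟨h1, -, g, hg, hge, hgQ⟩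
    have hm : ∀ x ∈ P ⊔ Q, g x ∈ P ⊔ Q := mp_sup_mem hg
      (fun x hx => by
        rw [hge x hx, ex_apply _ hx]
        exact (le_sup_left : P ≤ P ⊔ Q) (b _).2)
      (fun q hq => (le_sup_right : Q ≤ P ⊔ Q) (QPred.mem_Q hgQ q hq))
    obtain ⟨B, hB, hBg⟩ := hg.exists_aut hm
    refine ⟨B, hB, fun x hx hx' => ?_, fun q hq hq' => ?_⟩
    · rw [← hBg x hx', hge x hx, ex_apply _ hx]
    · rw [← hBg q hq']
      exact hgQ q hq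
  · rintro ⟨B, hB, h1, h2⟩
    have hBm := (mp_iff_autGroup hPQ B).1 hB
    have h3 : ∀ x ∈ P, ex (fun x => ((B x : ↥(P ⊔ Q)) : Ω)) x = ex (fun x => ((b x : P) : Ω)) x := by
      intro x hx
      have hx' : x ∈ P ⊔ Q := (le_sup_left : P ≤ P ⊔ Q) hx
      rw [ex_apply _ hx', ex_apply _ hx]
      exact h1 x hx hx'
    refine ⟨(hBm.res le_sup_left).congr fun x hx => (h3 x hx).symm, hP, _, hBm, h3,
      fun q hq => ?_⟩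
    have hq' : q ∈ P ⊔ Q := (le_sup_right : Q ≤ P ⊔ Q) hq
    rw [ex_apply _ hq']
    exact h2 q hq hq'

/-- `Aut_F(P)` normalizes `Aut_D(P)`. -/
theorem qSys_conj_mem [Finite S] {F : FusionSystem S} {Q : Subgroup Ω} (hQ : F.IsNormal Q)
    (hT : F.StronglyClosed T) {P : Subgroup Ω} (hP : P ≤ T) {a b : MulAut P}
    (ha : a ∈ F.autGroup P) (hb : b ∈ (subSys (qPred_sys hQ hT)).autGroup P) :
    a * b * a⁻¹ ∈ (subSys (qPred_sys hQ hT)).autGroup P := by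
  have hPS : P ≤ S := hP.trans hT.1
  have hPQ : P ⊔ Q ≤ S := sup_le hPS hQ.1
  have hfin : Finite ↥(P ⊔ Q) := H802.finite_of_le hPQ
  have hfinQ : Finite Q := H802.finite_of_le hQ.1
  obtain ⟨g, hg, hge, hgQ⟩ := normal_ext hQ ((mp_iff_autGroup hPS a).1 ha)
  have hm : ∀ x ∈ P ⊔ Q, g x ∈ P ⊔ Q := mp_sup_mem hg
    (fun x hx => by
      rw [hge x hx, ex_apply _ hx]
      exact (le_sup_left : P ≤ P ⊔ Q) (a _).2)
    (fun q hq => (le_sup_right : Q ≤ P ⊔ Q) (hgQ q hq))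
  obtain ⟨A, hA, hAg⟩ := hg.exists_aut hm
  have hAa : ∀ (x : Ω) (hx : x ∈ P) (hx' : x ∈ P ⊔ Q),
      A ⟨x, hx'⟩ = ⟨(a ⟨x, hx⟩ : P), (le_sup_left : P ≤ P ⊔ Q) (a ⟨x, hx⟩).2⟩ := by
    intro x hx hx'
    apply Subtype.ext
    show ((A ⟨x, hx'⟩ : ↥(P ⊔ Q)) : Ω) = (a ⟨x, hx⟩ : P)
    rw [← hAg x hx', hge x hx, ex_apply _ hx]
  have hAinv : ∀ (x : Ω) (hx : x ∈ P) (hx' : x ∈ P ⊔ Q),
      A⁻¹ ⟨x, hx'⟩ = ⟨(a⁻¹ ⟨x, hx⟩ : P), (le_sup_left : P ≤ P ⊔ Q) (a⁻¹ ⟨x, hx⟩).2⟩ := by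
    intro x hx hx'
    have h1 := hAa (a⁻¹ ⟨x, hx⟩ : P) (a⁻¹ ⟨x, hx⟩).2
      ((le_sup_left : P ≤ P ⊔ Q) (a⁻¹ ⟨x, hx⟩).2)
    have h2 : (⟨(a ⟨((a⁻¹ ⟨x, hx⟩ : P) : Ω), (a⁻¹ ⟨x, hx⟩).2⟩ : P),
        (le_sup_left : P ≤ P ⊔ Q) (a ⟨((a⁻¹ ⟨x, hx⟩ : P) : Ω), (a⁻¹ ⟨x, hx⟩).2⟩).2⟩ :
        ↥(P ⊔ Q)) = ⟨x, hx'⟩ := by
      apply Subtype.ext
      show ((a (a⁻¹ ⟨x, hx⟩) : P) : Ω) = x
      rw [MulAut.apply_inv_self]
    rw [h2] at h1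
    rw [← h1, MulAut.inv_apply_self]
  obtain ⟨B, hB, hBb, hBQ⟩ := (mem_autGroup_qSys hQ hT hP b).1 hb
  refine (mem_autGroup_qSys hQ hT hP _).2 ⟨A * B * A⁻¹, mul_mem (mul_mem hA hB) (Subgroup.inv_mem _ hA),
    fun x hx hx' => ?_, fun q hq hq' => ?_⟩
  · rw [MulAut.mul_apply, MulAut.mul_apply, hAinv x hx hx']
    have h1 := hBb (a⁻¹ ⟨x, hx⟩ : P) (a⁻¹ ⟨x, hx⟩).2
      ((le_sup_left : P ≤ P ⊔ Q) (a⁻¹ ⟨x, hx⟩).2)
    have h2 : B ⟨((a⁻¹ ⟨x, hx⟩ : P) : Ω), (le_sup_left : P ≤ P ⊔ Q) (a⁻¹ ⟨x, hx⟩).2⟩ =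
        ⟨(b (a⁻¹ ⟨x, hx⟩) : P), (le_sup_left : P ≤ P ⊔ Q) (b (a⁻¹ ⟨x, hx⟩)).2⟩ :=
      Subtype.ext h1
    rw [h2, hAa _ (b (a⁻¹ ⟨x, hx⟩)).2]
    rfl
  · -- `q = A r`
    obtain ⟨r, hr, hrq⟩ := mp_surj_of_mapsTo hg le_sup_right hgQ hq
    have hr' : r ∈ P ⊔ Q := (le_sup_right : Q ≤ P ⊔ Q) hr
    have h1 : A⁻¹ ⟨q, hq'⟩ = ⟨r, hr'⟩ := by
      have h2 : A ⟨r, hr'⟩ = ⟨q, hq'⟩ := Subtype.ext (by rw [← hAg r hr', hrq])
      rw [← h2, MulAut.inv_apply_self]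
    have hu := hBQ r hr hr'
    set u : Ω := r⁻¹ * (B ⟨r, hr'⟩ : ↥(P ⊔ Q)) with hu'
    have huPQ : u ∈ P ⊔ Q := (le_sup_right : Q ≤ P ⊔ Q) hu.1
    have h3 : B ⟨r, hr'⟩ = ⟨r, hr'⟩ * ⟨u, huPQ⟩ := by
      apply Subtype.ext
      show ((B ⟨r, hr'⟩ : ↥(P ⊔ Q)) : Ω) = r * u
      rw [hu']
      group
    have h4 : (((A * B * A⁻¹) ⟨q, hq'⟩ : ↥(P ⊔ Q)) : Ω) = q * g u := by
      rw [MulAut.mul_apply, MulAut.mul_apply, h1, h3, map_mul, Subgroup.coe_mul, ← hAg r hr',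
        ← hAg u huPQ, hrq]
    rw [h4, inv_mul_cancel_left]
    exact ⟨hgQ u hu.1, mp_mem_of_stronglyClosed hT hg huPQ hu.2⟩

end Cfsg.Agent.H758
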