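import Cfsg.Agent.H758.NormExt

/-!
# Extension of maps of a normal subsystem over a normal subgroup (helper758)
-/

set_option autoImplicit false

namespace Cfsg.Agent.H758

open Cfsg Cfsg.FusionSystem Cfsg.Agent.H752

variable {Ω : Type*} [Group Ω] {S T : Subgroup Ω}

theorem finite_mulAut (W : Subgroup Ω) [Finite W] : Finite (MulAut W) := by
  have : Finite (W ≃ W) := inferInstance
  exact Finite.of_injective (fun α : MulAut W => α.toEquiv) (fun a b h => by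
    ext x; exact congrArg (fun e : W ≃ W => ((e x : W) : Ω)) h)

/-- An element of `p`-power order of `Aut_E(T)` is induced by an element of `T`. -/
theorem mem_autInducedBy_top {p : ℕ} [Fact p.Prime] [Finite T] {E : FusionSystem T}
    (hE : E.IsSaturated p) {α : MulAut T} (hα : α ∈ E.autGroup T) {k : ℕ} (hk : α ^ p ^ k = 1) :
    ∃ t ∈ T, ∀ x : T, ((α x : T) : Ω) = t * x * t⁻¹ := by
  obtain ⟨φ, hφ, g, hg, h⟩ := H802.exists_conj_of_orderOf hE le_rfl hα hk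
  have hm : Mp E T (ex φ) := mp_ex hφ
  obtain ⟨t, ht, htg⟩ := hm.surj (fun x hx => hm.mem hx) hg
  refine ⟨t, ht, fun x => ?_⟩
  have h1 := h x
  rw [← ex_coe (φ : T → Ω), ← ex_coe (φ : T → Ω) x, ← htg] at h1
  rw [← mp_conj_eq hm ht x.2] at h1
  exact hm.inj (α x).2 (mul_mem (mul_mem ht x.2) (Subgroup.inv_mem _ ht)) h1

/-- Decomposition of an element of a group of automorphisms into its `p'`-part and an element of `p`-power order. -/
theorem exists_pparts (p : ℕ) [Fact p.Prime] {G : Type*} [Group G] [Finite G] (a : G) :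
    ∃ m k : ℕ, (orderOf (a ^ m)).Coprime p ∧ (a * (a ^ m)⁻¹) ^ p ^ k = 1 := by
  obtain ⟨m, N', hN', h1, h2, h3⟩ := exists_pow_cop p (orderOf_pos a).ne'
  obtain ⟨k, N'', hN'', hN⟩ := Nat.exists_eq_pow_mul_and_not_dvd (orderOf_pos a).ne' p
    (Fact.out : p.Prime).ne_one
  refine ⟨m, k, Nat.Coprime.of_dvd_left (orderOf_dvd_of_pow_eq_one ?_) hN', ?_⟩
  · rw [← pow_mul]
    exact orderOf_dvd_iff_pow_eq_one.1 h1
  · have hc : N''.Coprime p := ((Nat.Prime.coprime_iff_not_dvd Fact.out).2 hN'').symm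
    have hd : N'' ∣ N' := h3 N'' (hN ▸ Dvd.intro_left _ rfl) hc
    have hcomm : Commute a (a ^ m)⁻¹ := (Commute.self_pow a m).inv_right
    rw [hcomm.mul_pow]
    have h4 : a ^ p ^ k = (a ^ m) ^ p ^ k := by
      rw [← pow_mul]
      refine pow_eq_pow_iff_modEq.2 ?_
      rw [hN]
      have h5 : m ≡ 1 [MOD N''] := h2.of_dvd hd
      have h6 := (h5.symm.mul_left' (p ^ k))
      rw [mul_one] at h6
      rw [mul_comm m]
      exact h6
    rw [h4, inv_pow, mul_inv_cancel]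

/-- The key computation: a `p'`-automorphism of `T` in `E` extends over `Q`, trivially modulo `Q ∩ T`. -/
theorem top_ext {p : ℕ} [Fact p.Prime] [Finite S] (hS : IsPGroup p S) {F : FusionSystem S}
    {E : FusionSystem T} (hE : E.IsNormalIn F p) {Q : Subgroup Ω} (hQ : F.IsNormal Q)
    {κ : MulAut T} (hκ : κ ∈ E.autGroup T) (hκo : (orderOf κ).Coprime p) :
    κ ∈ (subSys (qPred_sys hQ hE.1.2.2.2.1)).autGroup T := by
  have hT := hE.1.2.2.2.1
  have hTS : T ≤ S := hT.1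
  have hTf : Finite T := H802.finite_of_le hTS
  have hEF := hE.1.2.2.1
  have hTp : IsPGroup p T := isPGroup_mono hS hTS
  have hI := strongInvC_of_isInvariantIn hE.1.2.2
  have hQs := H759.IsNormal.stronglyClosed hQ
  set C := centralizerIn S T with hC
  have hκm := (mp_iff_autGroup le_rfl κ).1 hκ
  set f : Ω → Ω := ex fun x => ((κ x : T) : Ω) with hf
  have hfT : ∀ (x : Ω) (hx : x ∈ T), f x = (κ ⟨x, hx⟩ : T) := fun x hx => ex_apply _ hx
  obtain ⟨g, hg, hge, hgC, hgCC, hgm⟩ := n1_mp hE hκm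
  obtain ⟨G, hG, hGe, hGQ⟩ := normal_ext hQ hg
  have hWS : (T ⊔ C) ⊔ Q ≤ S := sup_le (sup_le hTS inf_le_left) hQ.1
  have hfinW : Finite ↥((T ⊔ C) ⊔ Q) := H802.finite_of_le hWS
  have hTC : T ⊔ C ≤ (T ⊔ C) ⊔ Q := le_sup_left
  have hTW : T ≤ (T ⊔ C) ⊔ Q := le_sup_left.trans hTC
  have hCW : C ≤ (T ⊔ C) ⊔ Q := le_sup_right.trans hTC
  have hQW : Q ≤ (T ⊔ C) ⊔ Q := le_sup_right
  have hGm : ∀ x ∈ (T ⊔ C) ⊔ Q, G x ∈ (T ⊔ C) ⊔ Q := mp_sup_mem hG
    (fun x hx => by rw [hGe x hx]; exact hTC (hgm x hx)) (fun q hq => hQW (hGQ q hq))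
  have hfpp : PP p T f := pp_of_aut hfT hκo
  obtain ⟨m, hδpp, hδ, hδe⟩ := exists_iter_pp (p := p) hG hGm
  set δ : Ω → Ω := G^[m] with hδdef
  have hδT : ∀ x ∈ T, δ x = f x := hδe T f hTW hfpp fun x hx => by
    rw [hGe x ((le_sup_left : T ≤ T ⊔ C) hx), hge x hx]
  have hδTT : ∀ x ∈ T, δ x ∈ T := fun x hx => mp_mem_of_stronglyClosed hT hδ (hTW hx) hx
  have hδC : ∀ c ∈ C, c⁻¹ * δ c ∈ T := by
    have h1 : ∀ c ∈ C, G c ∈ C := fun c hc => by
      rw [hGe c ((le_sup_right : C ≤ T ⊔ C) hc)]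
      exact hgCC c hc
    refine iter_triv h1 (fun c hc => ?_) m
    rw [hGe c ((le_sup_right : C ≤ T ⊔ C) hc)]
    exact (hgC c hc).1
  have hδQ : ∀ q ∈ Q, δ q ∈ Q := iter_mem hGQ m
  -- the automorphisms of `T` induced by `Q` and lying in `E`
  let K : Subgroup (MulAut T) := autInducedBy Q T ⊓ E.autGroup T
  have hKp : IsPGroup p K := by
    have h1 : IsPGroup p (autInducedBy Q T) :=
      H802.isPGroup_autInducedBy (isPGroup_mono hS hQ.1) T
    exact h1.of_injective (Subgroup.inclusion inf_le_left) (Subgroup.inclusion_injective _)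
  have hKn : ∀ a ∈ E.autGroup T, ∀ k ∈ K, a * k * a⁻¹ ∈ K := by
    intro a ha k hk
    refine ⟨?_, mul_mem (mul_mem ha hk.2) (Subgroup.inv_mem _ ha)⟩
    obtain ⟨q, hq, hqk⟩ := (H802.mem_autInducedBy_iff Q T k).1 hk.1
    have haF : Mp F T (ex fun x => ((a x : T) : Ω)) := mp_mono hEF ((mp_iff_autGroup le_rfl a).1 ha)
    obtain ⟨A, hA, hAe, hAQ⟩ := normal_ext hQ haF
    refine (H802.mem_autInducedBy_iff Q T _).2 ⟨A q, hAQ q hq, fun x => ?_⟩
    have hAx : ∀ y : T, A y = ((a y : T) : Ω) := fun y => by rw [hAe y y.2, ex_coe]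
    rw [MulAut.mul_apply, MulAut.mul_apply, ← hAx, hqk]
    have hqW : q ∈ T ⊔ Q := (le_sup_right : Q ≤ T ⊔ Q) hq
    have hxW : ((a⁻¹ x : T) : Ω) ∈ T ⊔ Q := (le_sup_left : T ≤ T ⊔ Q) (a⁻¹ x).2
    rw [mp_conj_eq hA hqW hxW, hAx, MulAut.apply_inv_self]
  have hTa : E.IsFullyAutomized p T := by
    refine H802.isFullyAutomized_of_isFullyNormalized hTp hE.1.1 ⟨le_rfl, fun R hR => ?_⟩
    have h1 : normalizerIn T R ≤ T := inf_le_left
    have h2 : normalizerIn T T = T := le_antisymm inf_le_left (H802.le_normalizerIn le_rfl)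
    rw [h2]
    exact Subgroup.card_le_of_le h1
  have hKT : K ≤ autInducedBy T T := H759.le_autInducedBy_of_normal hTa K inf_le_right hKn hKp
  -- `q⁻¹ δ(q) ∈ T C`
  have hstep : ∀ q ∈ Q, ∃ t ∈ T, ∃ c ∈ C, q⁻¹ * δ q = t * c := by
    intro q hq
    have hqn : q ∈ Subgroup.normalizer (T : Set Ω) :=
      H759.StronglyClosed.le_normalizer hT (hQ.1 hq)
    have hdn : δ q ∈ Subgroup.normalizer (T : Set Ω) :=
      H759.StronglyClosed.le_normalizer hT (hQ.1 (hδQ q hq))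
    have hun : q⁻¹ * δ q ∈ Subgroup.normalizer (T : Set Ω) :=
      mul_mem (Subgroup.inv_mem _ hqn) hdn
    have hκδ : ∀ y : T, δ y = ((κ y : T) : Ω) := fun y => by rw [hδT y y.2, hfT y y.2]
    have huE : H759.conjAut T (q⁻¹ * δ q) hun ∈ E.autGroup T := by
      have h1 : H759.conjAut T (q⁻¹ * δ q) hun =
          (H759.conjAut T q⁻¹ (Subgroup.inv_mem _ hqn) * κ *
            (H759.conjAut T q⁻¹ (Subgroup.inv_mem _ hqn))⁻¹) * κ⁻¹ := by
        rw [eq_mul_inv_iff_mul_eq, eq_mul_inv_iff_mul_eq]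
        apply MulEquiv.ext
        intro x
        apply Subtype.ext
        rw [MulAut.mul_apply, MulAut.mul_apply, H759.coe_conjAut, ← hκδ, H759.coe_conjAut,
          MulAut.mul_apply, H759.coe_conjAut, ← hκδ]
        have h2 : δ (q⁻¹ * (x : Ω) * q⁻¹⁻¹) = (δ q)⁻¹ * δ x * δ q := by
          have h3 := mp_conj_eq hδ (Subgroup.inv_mem _ (hQW hq)) (hTW x.2)
          rw [h3, hδ.inv (hQW hq), inv_inv]
        rw [h2]
        group
      rw [h1]
      refine mul_mem (aut_conj_mem hI le_rfl hTS ?_ hκ) (Subgroup.inv_mem _ hκ)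
      exact H759.autGroup_map F (H759.conj_mem' F hTS (Subgroup.inv_mem _ (hQ.1 hq))
        (fun x => rfl))
    have huQ : H759.conjAut T (q⁻¹ * δ q) hun ∈ autInducedBy Q T :=
      (H802.mem_autInducedBy_iff Q T _).2
        ⟨q⁻¹ * δ q, mul_mem (Subgroup.inv_mem _ hq) (hδQ q hq), fun x => rfl⟩
    obtain ⟨t, ht, htu⟩ := (H802.mem_autInducedBy_iff T T _).1 (hKT ⟨huQ, huE⟩)
    refine ⟨t, ht, t⁻¹ * (q⁻¹ * δ q), ⟨?_, ?_⟩, by group⟩
    · exact mul_mem (Subgroup.inv_mem _ (hTS ht))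
        (mul_mem (Subgroup.inv_mem _ (hQ.1 hq)) (hQ.1 (hδQ q hq)))
    · refine Subgroup.mem_centralizer_iff.2 fun x hx => ?_
      have h1 := htu ⟨x, hx⟩
      rw [H759.coe_conjAut] at h1
      have h2 : (q⁻¹ * δ q) * x * (q⁻¹ * δ q)⁻¹ = t * x * t⁻¹ := h1
      calc x * (t⁻¹ * (q⁻¹ * δ q)) = t⁻¹ * (t * x * t⁻¹) * (q⁻¹ * δ q) := by group
        _ = t⁻¹ * ((q⁻¹ * δ q) * x * (q⁻¹ * δ q)⁻¹) * (q⁻¹ * δ q) := by rw [h2]
        _ = t⁻¹ * (q⁻¹ * δ q) * x := by group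
  -- coprime action
  have hfinal : ∀ q ∈ Q, q⁻¹ * δ q ∈ T := by
    intro q hq
    refine cop_mem (isPGroup_mono hS hWS) hδ hδpp (P := T)
      (fun w hw x hx => H759.StronglyClosed.conj_mem hT (hWS hw) hx) hδTT (hQW hq) ?_
    obtain ⟨t, ht, c, hc, h1⟩ := hstep q hq
    rw [h1, hδ.mul (hTW ht) (hCW hc)]
    have h2 : t⁻¹ * δ t ∈ T := mul_mem (Subgroup.inv_mem _ ht) (hδTT t ht)
    have h3 := H759.StronglyClosed.conj_mem' hT (inf_le_left (a := S) hc) h2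
    have h4 := mul_mem h3 (hδC c hc)
    have h5 : c⁻¹ * (t⁻¹ * δ t) * c * (c⁻¹ * δ c) = (t * c)⁻¹ * (δ t * δ c) := by group
    rwa [h5] at h4
  rw [mp_iff_autGroup le_rfl, mp_subSys]
  refine ⟨mp_mono hEF hκm, le_rfl, δ, hδ.res (sup_le hTW hQW), hδT, fun q hq => ⟨?_, hfinal q hq⟩⟩
  exact mul_mem (Subgroup.inv_mem _ hq) (hδQ q hq)

/-- **Extension of the maps of a normal subsystem over a normal subgroup.** -/
theorem exists_ext_of_normal {p : ℕ} [Fact p.Prime] [Finite S] (hS : IsPGroup p S)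
    {F : FusionSystem S} {E : FusionSystem T} (hE : E.IsNormalIn F p) {Q : Subgroup Ω}
    (hQ : F.IsNormal Q) {P : Subgroup Ω} {f : Ω → Ω} (hf : Mp E P f) :
    ∃ g, Mp F (P ⊔ Q) g ∧ (∀ x ∈ P, g x = f x) ∧ ∀ q ∈ Q, q⁻¹ * g q ∈ Q ⊓ T := by
  have hT := hE.1.2.2.2.1
  have hTS : T ≤ S := hT.1
  have hTf : Finite T := H802.finite_of_le hTS
  have hTp : IsPGroup p T := isPGroup_mono hS hTS
  have hEF := hE.1.2.2.1
  have hsub := generation hTp hE.1.1 (D := subSys (qPred_sys hQ hT))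
    (fun P hP a ha b _ hb => qSys_conj_mem hQ hT hP
      ((mp_iff_autGroup (hP.trans hTS) a).2 (mp_mono hEF ((mp_iff_autGroup hP a).1 ha))) hb)
    (by
      intro α hα
      have := finite_mulAut T
      obtain ⟨m, k, h1, h2⟩ := exists_pparts p α
      have h3 : α = (α * (α ^ m)⁻¹) * α ^ m := by group
      rw [h3]
      refine mul_mem ?_ (top_ext hS hE hQ (pow_mem hα m) h1)
      obtain ⟨t, ht, hte⟩ := mem_autInducedBy_top hE.1.1
        (mul_mem hα (Subgroup.inv_mem _ (pow_mem hα m))) h2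
      refine H802.autInducedBy_le_autGroup _ le_rfl ((H802.mem_autInducedBy_iff T T _).2
        ⟨t, ht, hte⟩))
  obtain ⟨-, -, h⟩ := (mp_subSys (qPred_sys hQ hT)).1 (mp_mono hsub hf)
  exact h

end Cfsg.Agent.H758
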