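import Cfsg.Agent.H758.SIStar
import Cfsg.Agent.H756.TCen
import Cfsg.Agent.H757.ExtMain

/-!
# The product `E S`: generators and the system they generate (helper758)

`GD`: the `p'`-automorphisms of `Q`, `Q ∩ T` centric in `E`, trivial modulo `T`, with restriction to `Q ∩ T` in `E`.
`NN`: composites of restrictions of such automorphisms. `prodSys`: the system generated by these and `S`.
(Construction due to E. Henke.)
-/

set_option autoImplicit false

namespace Cfsg.Agent.H758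

open Cfsg Cfsg.FusionSystem Cfsg.Agent.H752

variable {Ω : Type*} [Group Ω] {S T : Subgroup Ω} {p : ℕ}

/-- The generators. -/
structure GD (p : ℕ) (F : FusionSystem S) (E : FusionSystem T) (Q : Subgroup Ω) (κ : Ω → Ω) :
    Prop where
  mp : Mp F Q κ
  pp : PP p Q κ
  tr : ∀ x ∈ Q, x⁻¹ * κ x ∈ T
  e : Mp E (Q ⊓ T) κ
  cen : H756.TC F T (Q ⊓ T)

/-- Composites of restrictions of generators. -/
inductive NN (p : ℕ) (F : FusionSystem S) (E : FusionSystem T) (P : Subgroup Ω) : (Ω → Ω) → Prop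
  | id (g : Ω → Ω) : P ≤ S → (∀ x ∈ P, g x = x) → NN p F E P g
  | step (Q : Subgroup Ω) (f κ g : Ω → Ω) : NN p F E P f → GD p F E Q κ →
      (∀ x ∈ P, f x ∈ Q) → (∀ x ∈ P, g x = κ (f x)) → NN p F E P g

variable {F : FusionSystem S} {E : FusionSystem T}

/-! ### Generators -/

theorem GD.congr {Q : Subgroup Ω} {κ κ' : Ω → Ω} (h : GD p F E Q κ) (he : ∀ x ∈ Q, κ' x = κ x) :
    GD p F E Q κ' where
  mp := h.mp.congr he
  pp := h.pp.congr he
  tr := fun x hx => by rw [he x hx]; exact h.tr x hx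
  e := h.e.congr fun x hx => he x hx.1
  cen := h.cen

/-- Restriction to a subgroup `Q ∩ R`, `T ≤ R`. -/
theorem GD.inf {Q R : Subgroup Ω} {κ : Ω → Ω} (h : GD p F E Q κ) (hR : T ≤ R) :
    GD p F E (Q ⊓ R) κ := by
  have hm : ∀ x ∈ Q ⊓ R, κ x ∈ Q ⊓ R := fun x hx => by
    refine ⟨h.pp.1 x hx.1, ?_⟩
    have h1 : κ x = x * (x⁻¹ * κ x) := by group
    rw [h1]
    exact mul_mem hx.2 (hR (h.tr x hx.1))
  have he : (Q ⊓ R) ⊓ T = Q ⊓ T := by rw [inf_assoc, inf_eq_right.2 hR]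
  exact ⟨h.mp.res inf_le_left, h.pp.res inf_le_left hm, fun x hx => h.tr x hx.1,
    by rw [he]; exact h.e, by rw [he]; exact h.cen⟩

theorem GD.mem_T {Q : Subgroup Ω} {κ : Ω → Ω} (h : GD p F E Q κ) {x : Ω} (hx : x ∈ Q) :
    κ x ∈ T ↔ x ∈ T := by
  have h1 := h.tr x hx
  constructor
  · intro h2
    have h3 := mul_mem h2 (Subgroup.inv_mem _ h1)
    simpa using h3
  · intro h2
    have h3 := mul_mem h2 h1
    simpa using h3

/-- The inverse of a generator. -/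
theorem GD.exists_inv [Fact p.Prime] {Q : Subgroup Ω} {κ : Ω → Ω} (h : GD p F E Q κ) :
    ∃ κ', GD p F E Q κ' ∧ (∀ x ∈ Q, κ' (κ x) = x) ∧ ∀ x ∈ Q, κ (κ' x) = x := by
  obtain ⟨hm, n, hn, hid⟩ := h.pp
  have hn0 : n ≠ 0 := by
    rintro rfl
    rw [Nat.coprime_zero_left] at hn
    exact (Fact.out : p.Prime).ne_one hn
  obtain ⟨n, rfl⟩ := Nat.exists_eq_succ_of_ne_zero hn0
  have h1 : ∀ x ∈ Q, κ^[n] (κ x) = x := fun x hx => by
    rw [← Function.iterate_succ_apply]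
    exact hid x hx
  have h2 : ∀ x ∈ Q, κ (κ^[n] x) = x := fun x hx => by
    rw [← Function.iterate_succ_apply' κ n x]
    exact hid x hx
  have hmn := iter_mem hm n
  have hmT : ∀ x ∈ Q ⊓ T, κ x ∈ Q ⊓ T := fun x hx => ⟨hm x hx.1, (h.mem_T hx.1).2 hx.2⟩
  refine ⟨κ^[n], ⟨Mp.iter h.mp hm n, ⟨hmn, n + 1, hn, fun x hx => ?_⟩, fun x hx => ?_,
    Mp.iter h.e hmT n, h.cen⟩, h1, h2⟩
  · rw [← Function.iterate_mul, Nat.mul_comm, Function.iterate_mul]
    have h3 : ∀ m : ℕ, (κ^[n + 1])^[m] x = x := by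
      intro m
      induction m with
      | zero => rfl
      | succ m ih => rw [Function.iterate_succ_apply, hid x hx, ih]
    exact h3 n
  · have h3 := Subgroup.inv_mem _ (h.tr (κ^[n] x) (hmn x hx))
    rw [h2 x hx] at h3
    have h4 : ((κ^[n] x)⁻¹ * x)⁻¹ = x⁻¹ * κ^[n] x := by group
    rwa [h4] at h3

theorem cen_image [Finite S] (hT : F.StronglyClosed T) {W P R : Subgroup Ω} {f : Ω → Ω}
    (hf : Mp F W f) (hP : P ≤ W) (hR : ∀ y, y ∈ R ↔ ∃ x ∈ P, f x = y)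
    (h : H756.TC F T (P ⊓ T)) : H756.TC F T (R ⊓ T) := by
  refine h.image hT (hf.res (inf_le_left.trans hP)) fun y => ?_
  constructor
  · rintro ⟨hy, hyT⟩
    obtain ⟨x, hx, rfl⟩ := (hR y).1 hy
    exact ⟨x, ⟨hx, mp_mem_of_stronglyClosed' hT hf (hP hx) hyT⟩, rfl⟩
  · rintro ⟨x, hx, rfl⟩
    exact ⟨(hR _).2 ⟨x, hx.1, rfl⟩, mp_mem_of_stronglyClosed hT hf (hP hx.1) hx.2⟩

/-- Transport of a generator by a map of `F`. -/
theorem GD.transport [Finite S] (hT : F.StronglyClosed T) (hI : StrongInvC E F)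
    {W Q Q' : Subgroup Ω} {f κ : Ω → Ω} (hf : Mp F W f) (hQ : Q ≤ W)
    (hQ' : ∀ y, y ∈ Q' ↔ ∃ x ∈ Q, f x = y) (h : GD p F E Q κ) :
    ∃ κ', GD p F E Q' κ' ∧ ∀ x ∈ Q, κ' (f x) = f (κ x) := by
  obtain ⟨κ', hκ', hpp', he⟩ := pp_transport hf hQ hQ' h.mp h.pp
  have hT1 : ∀ x ∈ Q, (f x ∈ T ↔ x ∈ T) := fun x hx =>
    ⟨mp_mem_of_stronglyClosed' hT hf (hQ hx), mp_mem_of_stronglyClosed hT hf (hQ hx)⟩
  refine ⟨κ', ⟨hκ', hpp', fun y hy => ?_, ?_, cen_image hT hf hQ hQ' h.cen⟩, he⟩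
  · obtain ⟨x, hx, rfl⟩ := (hQ' y).1 hy
    rw [he x hx, ← hf.inv (hQ hx), ← hf.mul (Subgroup.inv_mem _ (hQ hx)) (hQ (h.pp.1 x hx))]
    exact mp_mem_of_stronglyClosed hT hf
      (mul_mem (Subgroup.inv_mem _ (hQ hx)) (hQ (h.pp.1 x hx))) (h.tr x hx)
  · refine hI (Q ⊓ T) (Q ⊓ T) (Q' ⊓ T) κ f κ' le_rfl inf_le_right h.e (fun x hx =>
      ⟨h.pp.1 x hx.1, (h.mem_T hx.1).2 hx.2⟩) (hf.res (inf_le_left.trans hQ)) fun y hy => ?_
    obtain ⟨x, hx, rfl⟩ := (hQ' y).1 hy.1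
    exact ⟨x, ⟨hx, (hT1 x hx).1 hy.2⟩, rfl, he x hx⟩

/-! ### Composites -/

namespace NN

variable {P R : Subgroup Ω} {f g : Ω → Ω}

theorem mp (h : NN p F E P f) : Mp F P f := by
  induction h with
  | id g hP hg => exact (mp_id F hP).congr hg
  | step Q f κ g _ hκ hm hg ih => exact (ih.comp hκ.mp hm).congr hg

theorem tr (h : NN p F E P f) : ∀ x ∈ P, x⁻¹ * f x ∈ T := by
  induction h with
  | id g hP hg => intro x hx; rw [hg x hx]; simp
  | step Q f κ g _ hκ hm hg ih =>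
    intro x hx
    rw [hg x hx]
    have h1 : x⁻¹ * κ (f x) = (x⁻¹ * f x) * ((f x)⁻¹ * κ (f x)) := by group
    rw [h1]
    exact mul_mem (ih x hx) (hκ.tr _ (hm x hx))

theorem mem_T (h : NN p F E P f) {x : Ω} (hx : x ∈ P) : f x ∈ T ↔ x ∈ T := by
  have h1 := h.tr x hx
  constructor
  · intro h2
    have h3 := mul_mem h2 (Subgroup.inv_mem _ h1)
    simpa using h3
  · intro h2
    have h3 := mul_mem h2 h1
    simpa using h3

theorem mem_sup (h : NN p F E P f) {x : Ω} (hx : x ∈ P) : f x ∈ P ⊔ T := by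
  have h1 : f x = x * (x⁻¹ * f x) := by group
  rw [h1]
  exact mul_mem ((le_sup_left : P ≤ _) hx) ((le_sup_right : T ≤ P ⊔ T) (h.tr x hx))

theorem e (h : NN p F E P f) : Mp E (P ⊓ T) f := by
  induction h with
  | id g hP hg => exact (mp_id E inf_le_right).congr fun x hx => hg x hx.1
  | step Q f κ g hf hκ hm hg ih =>
    exact (ih.comp hκ.e fun x hx => ⟨hm x hx.1, (hf.mem_T hx.1).2 hx.2⟩).congr fun x hx => hg x hx.1

theorem congr (h : NN p F E P f) (he : ∀ x ∈ P, g x = f x) : NN p F E P g := by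
  cases h with
  | id _ hP hg => exact NN.id g hP fun x hx => (he x hx).trans (hg x hx)
  | step Q f₀ κ _ hf hκ hm hg =>
    exact NN.step Q f₀ κ g hf hκ hm fun x hx => (he x hx).trans (hg x hx)

theorem res (h : NN p F E P f) (hR : R ≤ P) : NN p F E R f := by
  induction h with
  | id g hP hg => exact NN.id g (hR.trans hP) fun x hx => hg x (hR hx)
  | step Q f κ g _ hκ hm hg ih =>
    exact NN.step Q f κ g ih hκ (fun x hx => hm x (hR hx)) fun x hx => hg x (hR hx)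

theorem comp {Q : Subgroup Ω} (h : NN p F E P f) (h' : NN p F E Q g) (hm : ∀ x ∈ P, f x ∈ Q) :
    NN p F E P (fun x => g (f x)) := by
  induction h' with
  | id g hQ hg => exact h.congr fun x hx => hg _ (hm x hx)
  | step R g κ g' _ hκ hm' hg' ih =>
    exact NN.step R _ κ _ ih hκ (fun x hx => hm' _ (hm x hx)) fun x hx => hg' _ (hm x hx)

theorem of_gd {Q : Subgroup Ω} {κ : Ω → Ω} (h : GD p F E Q κ) : NN p F E Q κ :=
  NN.step Q (fun x => x) κ κ (NN.id _ h.mp.le fun _ _ => rfl) h (fun _ hx => hx) fun _ _ => rfl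

theorem symm [Fact p.Prime] (h : NN p F E P f) :
    ∀ (R : Subgroup Ω) (g : Ω → Ω), (∀ y ∈ R, ∃ x ∈ P, f x = y ∧ g y = x) → NN p F E R g := by
  induction h with
  | id f hP hf =>
    intro R g hg
    refine NN.id g (fun y hy => ?_) fun y hy => ?_
    · obtain ⟨x, hx, h1, -⟩ := hg y hy
      rw [← h1, hf x hx]
      exact hP hx
    · obtain ⟨x, hx, h1, h2⟩ := hg y hy
      rw [h2, ← h1, hf x hx]
  | step Q f κ g' hf hκ hm hg' ih =>
    intro R g hg
    obtain ⟨κ', hκ', h1, h2⟩ := hκ.exists_inv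
    have hRQ : R ≤ Q := fun y hy => by
      obtain ⟨x, hx, h3, -⟩ := hg y hy
      rw [← h3, hg' x hx]
      exact hκ.pp.1 _ (hm x hx)
    obtain ⟨R₁, hR₁, -, -⟩ := hκ'.mp.exists_image hRQ
    have h3 : NN p F E R₁ (fun z => g (κ z)) := by
      refine ih R₁ _ fun z hz => ?_
      obtain ⟨y, hy, rfl⟩ := (hR₁ z).1 hz
      obtain ⟨x, hx, h4, h5⟩ := hg y hy
      refine ⟨x, hx, ?_, ?_⟩
      · rw [← h4, hg' x hx, h1 _ (hm x hx)]
      · rw [h2 y (hRQ hy), h5]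
    refine (((NN.of_gd hκ').res hRQ).comp h3 fun y hy => (hR₁ _).2 ⟨y, hy, rfl⟩).congr fun y hy => ?_
    show g y = g (κ (κ' y))
    rw [h2 y (hRQ hy)]

/-- Transport of a composite by a map of `F` defined on `P T`. -/
theorem transport [Finite S] (hT : F.StronglyClosed T) (hI : StrongInvC E F) {W : Subgroup Ω}
    {χ : Ω → Ω} (hχ : Mp F W χ) (h : NN p F E P f) (hPW : P ≤ W) (hTW : T ≤ W)
    (hR : ∀ y ∈ R, ∃ x ∈ P, χ x = y ∧ g y = χ (f x)) : NN p F E R g := by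
  induction h generalizing R g with
  | id f hP hf =>
    refine NN.id g (fun y hy => ?_) fun y hy => ?_
    · obtain ⟨x, hx, h1, -⟩ := hR y hy
      rw [← h1]
      exact hχ.mem (hPW hx)
    · obtain ⟨x, hx, h1, h2⟩ := hR y hy
      rw [h2, hf x hx, h1]
  | step Q f κ g' hf hκ hm hg' ih =>
    have hκ' := hκ.inf hTW
    obtain ⟨Q', hQ', -, -⟩ := hκ'.mp.exists_image (le_refl (Q ⊓ W))
    obtain ⟨Q₁, hQ₁, -, -⟩ := hχ.exists_image (inf_le_right : Q ⊓ W ≤ W)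
    obtain ⟨κ₁, hκ₁, he⟩ := hκ'.transport hT hI hχ inf_le_right hQ₁
    have hfW : ∀ x ∈ P, f x ∈ Q ⊓ W := fun x hx =>
      ⟨hm x hx, (sup_le hPW hTW) (hf.mem_sup hx)⟩
    classical
    have hch : ∀ y ∈ R, ∃ x, x ∈ P ∧ χ x = y ∧ g y = χ (g' x) := fun y hy => by
      obtain ⟨x, hx, h1, h2⟩ := hR y hy
      exact ⟨x, hx, h1, h2⟩
    choose! inv hi1 hi2 hi3 using hch
    have h1 : NN p F E R (fun y => χ (f (inv y))) := ih fun y hy =>
      ⟨inv y, hi1 y hy, hi2 y hy, rfl⟩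
    refine NN.step Q₁ _ κ₁ g h1 hκ₁ (fun y hy => (hQ₁ _).2 ⟨_, hfW _ (hi1 y hy), rfl⟩)
      fun y hy => ?_
    rw [he _ (hfW _ (hi1 y hy)), hi3 y hy, hg' _ (hi1 y hy)]

end NN

/-! ### The system -/

/-- A composite of generators followed by conjugation by `s`. -/
def DPs (p : ℕ) (F : FusionSystem S) (E : FusionSystem T) (s : Ω) (P : Subgroup Ω)
    (f : Ω → Ω) : Prop :=
  ∃ ν, NN p F E P ν ∧ ∀ x ∈ P, f x = s * ν x * s⁻¹

/-- The maps of the product system. -/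
def DP (p : ℕ) (F : FusionSystem S) (E : FusionSystem T) (P : Subgroup Ω) (f : Ω → Ω) : Prop :=
  ∃ s ∈ S, DPs p F E s P f

theorem NN.dp [Finite S] {P : Subgroup Ω} {f : Ω → Ω} (h : NN p F E P f) : DP p F E P f :=
  ⟨1, one_mem S, f, h, fun x _ => by simp⟩

theorem DPs.comp [Finite S] (hT : F.StronglyClosed T) (hI : StrongInvC E F) {s t : Ω} (hs : s ∈ S)
    {P Q : Subgroup Ω} {f g : Ω → Ω} (h : DPs p F E s P f) (h' : DPs p F E t Q g)
    (hPQ : ∀ x ∈ P, f x ∈ Q) : DPs p F E (t * s) P (fun x => g (f x)) := by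
  obtain ⟨ν, hν, h⟩ := h
  obtain ⟨μ, hμ, h'⟩ := h'
  obtain ⟨R, hR, hRS, -⟩ := hν.mp.exists_image le_rfl
  have h1 : NN p F E R (fun y => s⁻¹ * μ (s * y * s⁻¹) * s) := by
    obtain ⟨R', hR', hR'S, -⟩ := (mp_conj F hRS hs).exists_image le_rfl
    have hR'Q : R' ≤ Q := fun z hz => by
      obtain ⟨y, hy, rfl⟩ := (hR' z).1 hz
      obtain ⟨x, hx, rfl⟩ := (hR y).1 hy
      rw [← h x hx]
      exact hPQ x hx
    refine (hμ.res hR'Q).transport hT hI (mp_conj F (le_refl S) (Subgroup.inv_mem _ hs)) hR'S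
      hT.1 fun y hy => ⟨s * y * s⁻¹, (hR' _).2 ⟨y, hy, rfl⟩, ?_, ?_⟩
    · group
    · show _ = s⁻¹ * μ (s * y * s⁻¹) * s⁻¹⁻¹
      rw [inv_inv]
  refine ⟨_, hν.comp h1 fun x hx => (hR _).2 ⟨x, hx, rfl⟩, fun x hx => ?_⟩
  show g (f x) = t * s * (s⁻¹ * μ (s * ν x * s⁻¹) * s) * (t * s)⁻¹
  rw [h' _ (hPQ x hx), h x hx]
  group

theorem sysPred_dp [Finite S] [Fact p.Prime] (hT : F.StronglyClosed T) (hI : StrongInvC E F) :
    SysPred F S (DP p F E) where
  mp := by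
    rintro P f ⟨s, hs, ν, hν, h⟩
    exact (hν.mp.comp (mp_conj F le_rfl hs) fun x hx => hν.mp.mem hx).congr h
  le := by
    rintro P f ⟨s, hs, ν, hν, h⟩
    exact hν.mp.le
  mem := by
    rintro P f ⟨s, hs, ν, hν, h⟩ x hx
    rw [h x hx]
    exact mul_mem (mul_mem hs (hν.mp.mem hx)) (Subgroup.inv_mem _ hs)
  congr := by
    rintro P f g ⟨s, hs, ν, hν, h⟩ he
    exact ⟨s, hs, ν, hν, fun x hx => (he x hx).trans (h x hx)⟩
  conj := by
    intro P t hP ht
    exact ⟨t, ht, fun x => x, NN.id _ hP fun _ _ => rfl, fun _ _ => rfl⟩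
  comp := by
    rintro P Q f g ⟨s, hs, h⟩ ⟨t, ht, h'⟩ hPQ
    exact ⟨t * s, mul_mem ht hs, h.comp hT hI hs h' hPQ⟩
  symm := by
    rintro P R f g ⟨s, hs, ν, hν, h⟩ hR hg
    obtain ⟨R', hR', hR'S, -⟩ := hν.mp.exists_image le_rfl
    obtain ⟨ν', hν', hl, hr⟩ := hν.mp.exists_symm le_rfl hR'
    have h1 : NN p F E R' ν' := hν.symm R' ν' fun y hy => by
      obtain ⟨x, hx, rfl⟩ := (hR' y).1 hy
      exact ⟨x, hx, rfl, hl x hx⟩
    refine ⟨s⁻¹, Subgroup.inv_mem _ hs, fun y => s * g y * s⁻¹, ?_, fun y _ => by group⟩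
    refine h1.transport hT hI (mp_conj F (le_refl S) hs) hR'S hT.1 fun y hy => ?_
    obtain ⟨x, hx, rfl⟩ := (hR y).1 hy
    refine ⟨ν x, (hR' _).2 ⟨x, hx, rfl⟩, (h x hx).symm, ?_⟩
    show s * g (f x) * s⁻¹ = s * ν' (ν x) * s⁻¹
    rw [hg x hx, hl x hx]

/-- The product system `E S`. -/
noncomputable def prodSys [Finite S] [Fact p.Prime] (hT : F.StronglyClosed T)
    (hI : StrongInvC E F) : FusionSystem S := subSys (sysPred_dp (p := p) hT hI)

theorem mp_prodSys [Finite S] [Fact p.Prime] {hT : F.StronglyClosed T} {hI : StrongInvC E F}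
    {P : Subgroup Ω} {f : Ω → Ω} : Mp (prodSys (p := p) hT hI) P f ↔ DP p F E P f := mp_subSys _

theorem prodSys_le [Finite S] [Fact p.Prime] (hT : F.StronglyClosed T) (hI : StrongInvC E F) :
    (prodSys (p := p) hT hI).IsSubsystemOf F := subSys_isSubsystemOf _

/-! ### Automorphisms of order prime to `p` -/

theorem NN.iter {P : Subgroup Ω} {f : Ω → Ω} (h : NN p F E P f) (hm : ∀ x ∈ P, f x ∈ P) (n : ℕ) :
    NN p F E P (f^[n]) := by
  induction n with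
  | zero => exact NN.id _ h.mp.le fun _ _ => rfl
  | succ n ih => exact (h.comp ih hm).congr fun x _ => Function.iterate_succ_apply f n x

theorem DPs.iter [Finite S] (hT : F.StronglyClosed T) (hI : StrongInvC E F) {s : Ω} (hs : s ∈ S)
    {P : Subgroup Ω} {f : Ω → Ω} (h : DPs p F E s P f) (hm : ∀ x ∈ P, f x ∈ P) (n : ℕ) :
    DPs p F E (s ^ n) P (f^[n]) := by
  induction n with
  | zero =>
    obtain ⟨ν, hν, -⟩ := h
    exact ⟨fun x => x, NN.id _ hν.mp.le fun _ _ => rfl, fun x _ => by simp⟩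
  | succ n ih =>
    obtain ⟨ν, hν, h1⟩ := h.comp hT hI hs ih hm
    refine ⟨ν, hν, fun x hx => ?_⟩
    rw [pow_succ, ← h1 x hx, Function.iterate_succ_apply]

/-- A `p'`-automorphism in the product system is a composite of generators. -/
theorem nn_of_pp [Finite S] [Fact p.Prime] (hS : IsPGroup p S) (hT : F.StronglyClosed T)
    (hI : StrongInvC E F) {P : Subgroup Ω} {f : Ω → Ω} (h : DP p F E P f) (hpp : PP p P f) :
    NN p F E P f := by
  obtain ⟨s, hs, h⟩ := h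
  obtain ⟨hm, n, hn, hid⟩ := hpp
  obtain ⟨k, hk⟩ := hS ⟨s, hs⟩
  have hk' : s ^ p ^ k = 1 := congrArg Subtype.val hk
  obtain ⟨ν, hν, h1⟩ := h.iter hT hI hs hm (p ^ k)
  have h2 : NN p F E P (f^[p ^ k]) := hν.congr fun x hx => by rw [h1 x hx, hk']; simp
  have hc : (p ^ k).Coprime n := (Nat.Coprime.pow_right k hn).symm
  obtain ⟨m, hm1, hm2⟩ : ∃ m : ℕ, p ^ k * m ≡ 1 [MOD n] ∧ True := by
    by_cases hn1 : n = 1
    · exact ⟨0, by rw [hn1]; exact Nat.modEq_one, trivial⟩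
    · have hn0 : n ≠ 0 := by
        rintro rfl
        rw [Nat.coprime_zero_left] at hn
        exact (Fact.out : p.Prime).ne_one hn
      obtain ⟨m, hm⟩ := Nat.exists_mul_mod_eq_one_of_coprime hc (by omega)
      exact ⟨m, by rw [Nat.ModEq, hm.2, Nat.mod_eq_of_lt (by omega)], trivial⟩
  have h3 := h2.iter (iter_mem hm _) m
  rw [← Function.iterate_mul] at h3
  refine h3.congr fun x hx => ?_
  have hid' : ∀ j : ℕ, f^[n * j] x = x := by
    intro j
    rw [Function.iterate_mul]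
    induction j with
    | zero => rfl
    | succ j ih => rw [Function.iterate_succ_apply, hid x hx, ih]
  have hn0 : n ≠ 0 := by
    rintro rfl
    rw [Nat.coprime_zero_left] at hn
    exact (Fact.out : p.Prime).ne_one hn
  have h4 : f^[p ^ k * m] x = f^[(p ^ k * m) % n] x := by
    conv_lhs => rw [← Nat.mod_add_div (p ^ k * m) n, Function.iterate_add_apply, hid']
  have h5 : f^[1] x = f^[1 % n] x := by
    conv_lhs => rw [← Nat.mod_add_div 1 n, Function.iterate_add_apply, hid']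
  rw [h4, hm1, ← h5]
  rfl

theorem gd_of_pp [Finite S] [Fact p.Prime] (hS : IsPGroup p S) (hT : F.StronglyClosed T)
    (hI : StrongInvC E F) {P : Subgroup Ω} {f : Ω → Ω} (h : DP p F E P f) (hpp : PP p P f)
    (hc : H756.TC F T (P ⊓ T)) : GD p F E P f := by
  have h1 := nn_of_pp hS hT hI h hpp
  exact ⟨h1.mp, hpp, h1.tr, h1.e, hc⟩

/-! ### `E` and the product system -/

theorem le_prodSys [Finite S] [Fact p.Prime] (hS : IsPGroup p S) (hT : F.StronglyClosed T)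
    (hI : StrongInvC E F) (hE : E.IsInvariantIn F) (hEs : E.IsSaturated p) :
    E.IsSubsystemOf (prodSys (p := p) hT hI) := by
  have hTS := hT.1
  have hfT : Finite T := H802.finite_of_le hTS
  have hTp : IsPGroup p T := isPGroup_mono hS hTS
  have hpred : SysPred E T (fun P f => Mp E P f ∧ DP p F E P f) := by
    have h0 := sysPred_dp (p := p) hT hI
    refine ⟨fun h => h.1, fun h => h.1.le, fun h x hx => h.1.mem hx,
      fun h he => ⟨h.1.congr he, h0.congr h.2 he⟩,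
      fun hP ht => ⟨mp_conj E hP ht, h0.conj (hP.trans hTS) (hTS ht)⟩,
      fun h h' hm => ⟨h.1.comp h'.1 hm, h0.comp h.2 h'.2 hm⟩, ?_⟩
    intro P R f g h hR hg
    refine ⟨h.1.symm fun y hy => ?_, h0.symm h.2 hR hg⟩
    obtain ⟨x, hx, rfl⟩ := (hR y).1 hy
    exact ⟨x, hx, rfl, hg x hx⟩
  intro P φ hφ
  have key := H802.le_of_centric hTp hEs (subSys hpred) (fun Q hQ hQc _ => ?_) P hφ
  · have h1 : Mp (subSys hpred) P (ex φ) := mp_ex key
    exact (mp_prodSys.2 ((mp_subSys hpred).1 h1).2).mem_hom fun x hx => (ex_apply _ hx).symm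
  · have hQT : Q ≤ T := hQ.1
    have hQS := hQT.trans hTS
    have hfQ : Finite Q := H802.finite_of_le hQT
    have hfM := finite_mulAut Q
    have hsyl := H750.sylIn_of_isFullyAutomized (H802.isFullyAutomized_of_isFullyNormalized hTp hEs hQ)
    have hfE : Finite (E.autGroup Q) := inferInstance
    refine le_of_sylIn_of_coprime hsyl (H802.autInducedBy_le_autGroup _ hQT) fun α hα hc => ?_
    have hval : ∀ (x : Ω) (hx : x ∈ Q), ex (fun x => ((α x : Q) : Ω)) x = (α ⟨x, hx⟩ : Q) :=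
      fun x hx => ex_apply _ hx
    have hαE := (mp_iff_autGroup hQT α).1 hα
    rw [mp_iff_autGroup hQT]
    refine (mp_subSys hpred).2 ⟨hαE, NN.dp (NN.of_gd ⟨mp_mono hE.1 hαE, pp_of_aut hval hc,
      fun x hx => ?_, ?_, ?_⟩)⟩
    · rw [hval x hx]
      exact mul_mem (Subgroup.inv_mem _ (hQT hx)) (hQT (α ⟨x, hx⟩).2)
    · rw [inf_eq_left.2 hQT]
      exact hαE
    · rw [inf_eq_left.2 hQT]
      exact (H756.isCentric_iff_tc hE).1 hQc

theorem prodSys_index [Finite S] [Fact p.Prime] (hS : IsPGroup p S) (hT : F.StronglyClosed T)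
    (hI : StrongInvC E F) (hE : E.IsInvariantIn F) (hEs : E.IsSaturated p) :
    E.HasPPowerIndexIn (prodSys (p := p) hT hI) p := by
  refine (pPower_iff hT.1).2 ⟨le_prodSys hS hT hI hE hEs, fun P f hf hpp => ?_,
    fun P f hP hf hpp => ?_⟩
  · exact (nn_of_pp hS hT hI (mp_prodSys.1 hf) hpp).tr
  · have h1 := (nn_of_pp hS hT hI (mp_prodSys.1 hf) hpp).e
    rwa [inf_eq_left.2 hP] at h1

end Cfsg.Agent.H758
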