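import Cfsg.Agent.H758.PSy

/-!
# Automorphisms in the product system of the top member of a conjugacy class (helper758)
-/

set_option autoImplicit false

namespace Cfsg.Agent.H758

open Cfsg Cfsg.FusionSystem Cfsg.Agent.H752 Cfsg.Agent.H750

variable {Ω : Type*} [Group Ω] {S T : Subgroup Ω} {p : ℕ} {F : FusionSystem S}
  {E : FusionSystem T} {D : FusionSystem S}

theorem iso_of_gd (hD : ∀ P f, Mp D P f ↔ DP p F E P f) [Finite S] {Q : Subgroup Ω} {κ : Ω → Ω}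
    (h : GD p F E Q κ) : Iso D Q Q κ := by
  have h1 : Mp D Q κ := (hD _ _).2 (NN.of_gd h).dp
  have hfQ : Finite Q := H802.finite_of_le h.mp.le
  exact iso_of_mp h1 le_rfl fun y => ⟨fun hy => h1.surj h.pp.1 hy, fun ⟨x, hx, e⟩ => e ▸ h.pp.1 x hx⟩

/-- Every member of the conjugacy class of `P` is reached by maps on properly larger subgroups. -/
theorem gen_of_nn (hD : ∀ P f, Mp D P f ↔ DP p F E P f) [Finite S] {P : Subgroup Ω}
    (hlt : Nat.card P < Nat.card S) {ν : Ω → Ω} (h : NN p F E P ν) :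
    ∃ (P₁ : Subgroup Ω) (f' : Ω → Ω), (∀ y, y ∈ P₁ ↔ ∃ x ∈ P, ν x = y) ∧ Gen D P P₁ f' := by
  induction h with
  | id g hP hg =>
    refine ⟨P, fun x => x, fun y => ⟨fun hy => ⟨y, hy, hg y hy⟩, ?_⟩,
      Gen.base P P S S id (fun x => x) ?_ (Iso.refl D le_rfl) (Iso.refl D hP) fun _ _ => rfl⟩
    · rintro ⟨x, hx, rfl⟩
      rw [hg x hx]
      exact hx
    · refine lt_of_le_of_ne hP ?_
      rintro rfl
      exact lt_irrefl _ hlt
  | step Q f κ g hf hκ hm hg ih =>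
    obtain ⟨P₁, f', hP₁, hgen⟩ := ih
    have hP₁Q : P₁ ≤ Q := fun y hy => by
      obtain ⟨x, hx, rfl⟩ := (hP₁ y).1 hy
      exact hm x hx
    have hi := iso_of_gd hD hκ
    obtain ⟨P₂, hP₂, -⟩ := hi.restrict hP₁Q
    refine ⟨P₂, ?_⟩
    have hP₂' : ∀ y, y ∈ P₂ ↔ ∃ x ∈ P, g x = y := by
      intro y
      rw [hP₂.mem_iff]
      constructor
      · rintro ⟨z, hz, rfl⟩
        obtain ⟨x, hx, rfl⟩ := (hP₁ z).1 hz
        exact ⟨x, hx, hg x hx⟩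
      · rintro ⟨x, hx, rfl⟩
        exact ⟨f x, (hP₁ _).2 ⟨x, hx, rfl⟩, (hg x hx).symm⟩
    by_cases he : P₁ = Q
    · have h2 : P₂ = P₁ := by
        have h3 : Iso D P₁ P₁ κ := by rw [he]; exact hi
        exact hP₂.eq_of h3
      exact ⟨f', hP₂', by rw [h2]; exact hgen⟩
    · exact ⟨fun x => κ (f' x), hP₂', Gen.comp P P₁ P₂ f' κ _ hgen
        (Gen.base P₁ P₂ Q Q κ κ (lt_of_le_of_ne hP₁Q he) hi hP₂ fun _ _ => rfl) fun _ _ => rfl⟩

theorem iso_conj_S (D : FusionSystem S) {s : Ω} (hs : s ∈ S) :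
    Iso D S S (fun x => s * x * s⁻¹) :=
  iso_conj D le_rfl hs (Subgroup.le_normalizer hs)

theorem gen_of_conj (hD : ∀ P f, Mp D P f ↔ DP p F E P f) [Finite S] {P Q : Subgroup Ω}
    (hlt : Nat.card P < Nat.card S) (h : D.IsConj P Q) : ∃ f', Gen D P Q f' := by
  obtain ⟨f, hf⟩ := exists_iso_of_isConj h
  obtain ⟨s, hs, ν, hν, hfe⟩ := (hD _ _).1 (mp_of_iso hf)
  obtain ⟨P₁, f', hP₁, hgen⟩ := gen_of_nn hD hlt hν
  have hP₁S : P₁ ≤ S := hgen.iso.le_right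
  have hc := hgen.iso.card_eq
  have hi := iso_conj_S D hs
  obtain ⟨P₂, hP₂, -⟩ := hi.restrict hP₁S
  have h1 : P₂ = Q := by
    ext y
    rw [hP₂.mem_iff, hf.mem_iff]
    constructor
    · rintro ⟨z, hz, rfl⟩
      obtain ⟨x, hx, rfl⟩ := (hP₁ z).1 hz
      exact ⟨x, hx, hfe x hx⟩
    · rintro ⟨x, hx, rfl⟩
      exact ⟨ν x, (hP₁ _).2 ⟨x, hx, rfl⟩, (hfe x hx).symm⟩
  subst h1
  refine ⟨fun x => s * f' x * s⁻¹, Gen.comp P P₁ P₂ f' _ _ hgen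
    (Gen.base P₁ P₂ S S _ _ (lt_of_le_of_ne hP₁S ?_) hi hP₂ fun _ _ => rfl) fun _ _ => rfl⟩
  rintro rfl
  omega

/-- The top member of a conjugacy class. -/
theorem exists_top' (hD : ∀ P f, Mp D P f ↔ DP p F E P f) [Finite S] [Fact p.Prime]
    (hS : IsPGroup p S) {P : Subgroup Ω} (hPS : P ≤ S) (hlt : Nat.card P < Nat.card S)
    (hbig : Big p D (Nat.card P)) :
    ∃ P₀, D.IsConj P P₀ ∧ ∀ Q, D.IsConj P Q → Arr D Q P₀ := by
  obtain ⟨P₀, hP₀, hmin⟩ := WellFounded.has_min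
    (measure (fun Q : Subgroup Ω => Nat.card S - Nat.card (normalizerIn S Q))).wf
    {Q | D.IsConj P Q} ⟨P, H802.isConj_refl D hPS⟩
  refine ⟨P₀, hP₀, fun Q hQ => ?_⟩
  have hP₀' : D.IsConj P P₀ := hP₀
  have hcQ := H802.isConj_card_eq hQ
  obtain ⟨f, hf⟩ := gen_of_conj hD (by rw [← hcQ]; exact hlt)
    (H802.isConj_trans (H802.isConj_symm hQ) hP₀')
  obtain ⟨Y, h1, h2⟩ := arr_of_gen hS hbig hlt hf hcQ.symm
  refine h1.trans (h2.symm_of_card ?_)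
  have h3 := hmin Y (H802.isConj_trans hP₀' h2.isConj)
  have h4 : Nat.card (normalizerIn S Y) ≤ Nat.card S := card_le_of_le le_rfl inf_le_left
  have h5 : Nat.card (normalizerIn S P₀) ≤ Nat.card S := card_le_of_le le_rfl inf_le_left
  have h6 : ¬ (Nat.card S - Nat.card (normalizerIn S Y) < Nat.card S - Nat.card (normalizerIn S P₀)) := h3
  omega

/-- A property of automorphisms of `P₀`. -/
structure AM (p : ℕ) (F : FusionSystem S) (E : FusionSystem T) (D : FusionSystem S)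
    (P₀ : Subgroup Ω) (M : (Ω → Ω) → Prop) : Prop where
  congr : ∀ f g : Ω → Ω, (∀ x ∈ P₀, g x = f x) → M f → M g
  comp : ∀ f g : Ω → Ω, Iso D P₀ P₀ f → Iso D P₀ P₀ g → M f → M g → M (g ∘ f)
  inv : ∀ f g : Ω → Ω, Iso D P₀ P₀ f → Iso D P₀ P₀ g → (∀ x ∈ P₀, g (f x) = x) → M f → M g
  gd : ∀ κ : Ω → Ω, GD p F E P₀ κ → M κ
  conj : ∀ s ∈ normalizerIn S P₀, M (fun x => s * x * s⁻¹)

variable [Finite S] [Fact p.Prime] {P₀ : Subgroup Ω} {M : (Ω → Ω) → Prop}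

theorem iso_fn_of_stab {R₀ Q₁ : Subgroup Ω} (hR₀ : R₀ ≤ S) (hQR : Q₁ ≤ R₀) {κ : MulAut R₀}
    (hκ : κ ∈ stab D R₀ Q₁) : Iso D Q₁ Q₁ (fn κ) := by
  have h1 : Mp D R₀ (fn κ) := (mp_iff_autGroup hR₀ κ).1 hκ.1
  have hfQ : Finite Q₁ := H802.finite_of_le (hQR.trans hR₀)
  have h2 : ∀ x ∈ Q₁, fn κ x ∈ Q₁ := fun x hx => by
    rw [fn_apply κ (hQR hx)]
    exact (hκ.2 ⟨x, hQR hx⟩).1 hx
  exact iso_of_mp h1 hQR fun y => ⟨fun hy => (h1.res hQR).surj h2 hy, fun ⟨x, hx, e⟩ => e ▸ h2 x hx⟩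

/-- Transport of the stabilizer. -/
theorem m_of_stab (hD : ∀ P f, Mp D P f ↔ DP p F E P f) (hS : IsPGroup p S)
    (hT : F.StronglyClosed T) (hI : StrongInvC E F) (hM : AM p F E D P₀ M)
    (hcen : H756.TC F T (P₀ ⊓ T)) {R₀ Q₁ W : Subgroup Ω} {ω : Ω → Ω} (hR₀ : R₀ ≤ S)
    (hQR : Q₁ ≤ R₀) (hal : Aligned p D R₀ Q₁) (hω : Iso D (normalizerIn S Q₁) W ω)
    (hωQ : Iso D Q₁ P₀ ω) {κ : MulAut R₀} (hκ : κ ∈ stab D R₀ Q₁) {a : Ω → Ω}
    (ha : ∀ x ∈ Q₁, a (ω x) = ω (fn κ x)) : M a := by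
  have hQ₁S : Q₁ ≤ S := hQR.trans hR₀
  have hfR₀ : Finite R₀ := H802.finite_of_le hR₀
  have hfM := finite_mulAut R₀
  obtain ⟨g, hg, hgω, hωg⟩ := hωQ.exists_inv
  have hP₀S : P₀ ≤ S := hωQ.le_right
  have hia : ∀ κ ∈ stab D R₀ Q₁, Iso D P₀ P₀ (ω ∘ (fn κ ∘ g)) := fun κ hκ =>
    (hg.trans (iso_fn_of_stab hR₀ hQR hκ)).trans hωQ
  have hQm : ∀ κ ∈ stab D R₀ Q₁, ∀ x ∈ Q₁, fn κ x ∈ Q₁ := fun κ hκ x hx =>
    (iso_fn_of_stab hR₀ hQR hκ).mem hx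
  let L : Subgroup (MulAut R₀) :=
    { carrier := {κ | κ ∈ stab D R₀ Q₁ ∧ M (ω ∘ (fn κ ∘ g))}
      one_mem' := by
        refine ⟨one_mem _, hM.congr _ _ (fun x hx => ?_) (hM.conj 1 (one_mem _))⟩
        show ω (fn 1 (g x)) = 1 * x * 1⁻¹
        rw [fn_apply 1 (hQR (hg.mem hx))]
        show ω (g x) = _
        rw [hωg x hx]
        simp
      mul_mem' := by
        rintro κ₁ κ₂ ⟨h1, h1'⟩ ⟨h2, h2'⟩
        refine ⟨mul_mem h1 h2, hM.congr _ _ (fun x hx => ?_)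
          (hM.comp _ _ (hia κ₂ h2) (hia κ₁ h1) h2' h1')⟩
        show ω (fn (κ₁ * κ₂) (g x)) = ω (fn κ₁ (g (ω (fn κ₂ (g x)))))
        rw [fn_mul _ _ (hQR (hg.mem hx)), hgω _ (hQm κ₂ h2 _ (hg.mem hx))]
      inv_mem' := by
        rintro κ₁ ⟨h1, h1'⟩
        have h2 := Subgroup.inv_mem _ h1
        refine ⟨h2, hM.inv _ _ (hia κ₁ h1) (hia κ₁⁻¹ h2) (fun x hx => ?_) h1'⟩
        show ω (fn κ₁⁻¹ (g (ω (fn κ₁ (g x))))) = x
        rw [hgω _ (hQm κ₁ h1 _ (hg.mem hx)), fn_inv_fn κ₁ (hQR (hg.mem hx)), hωg x hx] }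
  have hKL : stab D R₀ Q₁ ≤ L := by
    refine le_of_sylIn_of_coprime hal ?_ ?_
    · rintro c ⟨hc, hcs⟩
      obtain ⟨s, hs, hsc⟩ := H757.exists_cj_of_mem hc
      have hsQ : s ∈ normalizerIn S Q₁ := by
        refine ⟨hs, H802.mem_normalizer_of_conj_mem hQ₁S fun x hx => ?_⟩
        rw [← hsc ⟨x, hQR hx⟩]
        exact (hcs.2 ⟨x, hQR hx⟩).1 hx
      have hωs : ω s ∈ normalizerIn S P₀ :=
        hω.le_normalizerIn hωQ (H802.le_normalizerIn hQ₁S) inf_le_right (hω.mem hsQ)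
      refine ⟨hcs, hM.congr _ _ (fun x hx => ?_) (hM.conj _ hωs)⟩
      show ω (fn c (g x)) = ω s * x * (ω s)⁻¹
      have hgx := hg.mem hx
      have h1 : fn c (g x) = s * g x * s⁻¹ := by
        rw [fn_apply c (hQR hgx)]
        exact hsc ⟨g x, hQR hgx⟩
      rw [h1, hω.map_conj hsQ (H802.le_normalizerIn hQ₁S hgx), hωg x hx]
    · intro κ₁ h1 hc
      refine ⟨h1, hM.gd _ ?_⟩
      have hi := hia κ₁ h1
      refine gd_of_pp hS hT hI ((hD _ _).1 (mp_of_iso hi)) ⟨fun x hx => hi.mem hx, orderOf κ₁, hc,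
        fun x hx => ?_⟩ hcen
      have h2 : ∀ j : ℕ, (ω ∘ (fn κ₁ ∘ g))^[j] x = ω ((fn κ₁)^[j] (g x)) := by
        intro j
        induction j with
        | zero => exact (hωg x hx).symm
        | succ j ih =>
          rw [Function.iterate_succ_apply', ih, Function.iterate_succ_apply']
          show ω (fn κ₁ (g (ω ((fn κ₁)^[j] (g x))))) = _
          rw [hgω _ (iter_mem (hQm κ₁ h1) j _ (hg.mem hx))]
      have h3 : (fn κ₁)^[orderOf κ₁] (g x) = g x :=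
        (iter_eq_id_iff (fun x hx => fn_apply κ₁ hx) _).2 dvd_rfl _ (hQR (hg.mem hx))
      rw [h2, h3, hωg x hx]
  refine hM.congr _ _ (fun x hx => ?_) (hKL hκ).2
  obtain ⟨y, hy, rfl⟩ := hωQ.surj hx
  rw [ha y hy]
  show _ = ω (fn κ (g (ω y)))
  rw [hgω y hy]

/-- **Claim C.** -/
theorem claimC (hD : ∀ P f, Mp D P f ↔ DP p F E P f) (hS : IsPGroup p S)
    (hT : F.StronglyClosed T) (hI : StrongInvC E F) (hM : AM p F E D P₀ M)
    (hcen : H756.TC F T (P₀ ⊓ T)) (hbig : Big p D (Nat.card P₀))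
    (htop : ∀ Q, D.IsConj P₀ Q → Arr D Q P₀) :
    ∀ (m : ℕ) (R R' : Subgroup Ω) (f : Ω → Ω), Nat.card S - Nat.card R ≤ m → P₀ < R →
      R ≤ normalizerIn S P₀ → Iso D R R' f → Iso D P₀ P₀ f → M f := by
  have hmain : ∀ (R R' : Subgroup Ω) (f : Ω → Ω), P₀ < R → R ≤ normalizerIn S P₀ →
      Iso D R R' f → Iso D P₀ P₀ f → (R ≠ normalizerIn S P₀ →
        ∀ (R₂ R₂' : Subgroup Ω) (f₂ : Ω → Ω), Nat.card R < Nat.card R₂ → P₀ < R₂ →
          R₂ ≤ normalizerIn S P₀ → Iso D R₂ R₂' f₂ → Iso D P₀ P₀ f₂ → M f₂) → M f := by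
    intro R R' f hPR hRN hf hfP hIH
    have hP₀S : P₀ ≤ S := hfP.le_left
    have hRS : R ≤ S := hf.le_left
    have hR'S : R' ≤ S := hf.le_right
    have hR'N : R' ≤ normalizerIn S P₀ := hf.le_normalizerIn hfP hPR.le (hRN.trans inf_le_right)
    have hPR' : P₀ ≤ R' := hf.le_of_le hfP hPR.le
    have hcR := hf.card_eq
    obtain ⟨g, hg, hgP, hgf, hfg⟩ := hf.inv_restrict hfP hPR.le
    obtain ⟨R₀, hRR₀, hR₀a, hR₀r⟩ := hbig R hRS (card_lt_of_lt hRS hPR)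
    obtain ⟨χ, Q₁, hχ, hχQ, hal⟩ := exists_aligned hS hRR₀ hR₀a hPR.le
    have hR₀S : R₀ ≤ S := hR₀r.1
    have hQ₁R₀ : Q₁ ≤ R₀ := hχ.le_of_le hχQ hPR.le
    have hQ₁S := hQ₁R₀.trans hR₀S
    obtain ⟨ω, W, hω, hωQ⟩ := htop Q₁ hχQ.isConj
    have hR₀N : R₀ ≤ normalizerIn S Q₁ := hχ.le_normalizerIn hχQ hPR.le (hRN.trans inf_le_right)
    by_cases hRne : R = normalizerIn S P₀
    · -- `R₀ = N_S(Q₁)`
      have hRe : R₀ = normalizerIn S Q₁ := by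
        refine eq_of_le_of_card inf_le_left hR₀N ?_
        rw [← hχ.card_eq, hRne]
        exact (htop Q₁ hχQ.isConj).card_le
      obtain ⟨χ', hχ', hχ'Q, hχ'χ, hχχ'⟩ := hχ.inv_restrict hχQ hPR.le
      have hR'e : R' = R := by
        refine eq_of_le_of_card hRS ?_ ?_
        · rw [hRne]; exact hR'N
        · rw [← hcR]
      rw [hR'e] at hf
      have hκi : Iso D R₀ R₀ (χ ∘ (f ∘ χ')) := (hχ'.trans hf).trans hχ
      have hκQ : Iso D Q₁ Q₁ (χ ∘ (f ∘ χ')) := (hχ'Q.trans hfP).trans hχQ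
      obtain ⟨κ, hκ, hκe⟩ := hκi.exists_aut
      have hκs : κ ∈ stab D R₀ Q₁ := ⟨hκ, fun x => by
        rw [hκe]; exact (hκi.mem_iff_mem hκQ hQ₁R₀ x.2).symm⟩
      rw [hRe] at hχ'
      refine m_of_stab hD hS hT hI hM hcen hR₀S hQ₁R₀ hal hχ' hχ'Q hκs (a := f) fun x hx => ?_
      rw [fn_apply κ (hQ₁R₀ hx), hκe ⟨x, hQ₁R₀ hx⟩]
      show f (χ' x) = χ' (χ (f (χ' x)))
      rw [hχ'χ _ (hPR.le (hfP.mem (hχ'Q.mem hx)))]
    · have hR'ne : R' ≠ normalizerIn S P₀ := by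
        intro h
        have h1 : Nat.card R < Nat.card (normalizerIn S P₀) :=
          card_lt_of_lt inf_le_left (lt_of_le_of_ne hRN hRne)
        rw [← h] at h1
        omega
      have hc1 := lt_common hS hRN hRne
      have hc2 := lt_common hS hR'N hR'ne
      have hN₁le : R ≤ normalizerIn S R ⊓ normalizerIn S P₀ := le_inf (H802.le_normalizerIn hRS) hRN
      have hN₂le : R' ≤ normalizerIn S R' ⊓ normalizerIn S P₀ :=
        le_inf (H802.le_normalizerIn hR'S) hR'N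
      obtain ⟨k₁, hk₁, N₁', f₁, hf₁, hf₁R, hf₁Q, hf₁e⟩ := exists_ext_stab hS hχ hχQ hPR.le hR₀r hal
        (normalizerIn S R ⊓ normalizerIn S P₀) hN₁le inf_le_left inf_le_right
      obtain ⟨k₂, hk₂, N₂', f₂, hf₂, hf₂R, hf₂Q, hf₂e⟩ := exists_ext_stab hS (hg.trans hχ)
        (hgP.trans hχQ) hPR' hR₀r hal (normalizerIn S R' ⊓ normalizerIn S P₀) hN₂le inf_le_left
        inf_le_right
      have hP₀N₁ : P₀ ≤ normalizerIn S R ⊓ normalizerIn S P₀ := hPR.le.trans hN₁le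
      have hP₀N₂ : P₀ ≤ normalizerIn S R' ⊓ normalizerIn S P₀ := hPR'.trans hN₂le
      have hN₁' : N₁' ≤ normalizerIn S Q₁ :=
        hf₁.le_normalizerIn hf₁Q hP₀N₁ (inf_le_right.trans inf_le_right)
      have hN₂' : N₂' ≤ normalizerIn S Q₁ :=
        hf₂.le_normalizerIn hf₂Q hP₀N₂ (inf_le_right.trans inf_le_right)
      obtain ⟨W₁, hW₁, -⟩ := hω.restrict hN₁'
      obtain ⟨W₂, hW₂, -⟩ := hω.restrict hN₂'
      have ha₁ := hf₁Q.trans hωQ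
      have ha₂ := hf₂Q.trans hωQ
      have hM₁ : M (ω ∘ f₁) := hIH hRne _ W₁ _ hc1 (lt_of_lt_of_le hPR hN₁le) inf_le_right
        (hf₁.trans hW₁) ha₁
      have hM₂ : M (ω ∘ f₂) := hIH hRne _ W₂ _ (by rw [hcR]; exact hc2)
        (lt_of_lt_of_le (lt_of_le_of_ne hPR' fun he => by
          have h1 := card_lt_of_lt hRS hPR
          rw [he] at h1
          omega) hN₂le) inf_le_right (hf₂.trans hW₂) ha₂
      -- the stabilizer part
      have hκs : k₂ * k₁⁻¹ ∈ stab D R₀ Q₁ := mul_mem hk₂ (Subgroup.inv_mem _ hk₁)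
      obtain ⟨ωi, hωi, hωiω, hωωi⟩ := hωQ.exists_inv
      have ha₃ : Iso D P₀ P₀ (ω ∘ (fn (k₂ * k₁⁻¹) ∘ ωi)) :=
        (hωi.trans (iso_fn_of_stab hR₀S hQ₁R₀ hκs)).trans hωQ
      have hM₃ : M (ω ∘ (fn (k₂ * k₁⁻¹) ∘ ωi)) :=
        m_of_stab hD hS hT hI hM hcen hR₀S hQ₁R₀ hal hω hωQ hκs fun x hx => by
          show ω (fn (k₂ * k₁⁻¹) (ωi (ω x))) = _
          rw [hωiω x hx]
      obtain ⟨a₂', ha₂', ha₂'a₂, -⟩ := ha₂.exists_inv
      have hM₂' : M a₂' := hM.inv _ _ ha₂ ha₂' ha₂'a₂ hM₂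
      have h13 := hM.comp _ _ ha₁ ha₃ hM₁ hM₃
      refine hM.congr _ _ (fun x hx => ?_) (hM.comp _ _ (ha₁.trans ha₃) ha₂' h13 hM₂')
      show f x = a₂' (ω (fn (k₂ * k₁⁻¹) (ωi (ω (f₁ x)))))
      have hfx : f x ∈ P₀ := hfP.mem hx
      have h1 : ωi (ω (f₁ x)) = f₁ x := hωiω _ (hf₁Q.mem hx)
      have hχx : χ x ∈ R₀ := hχ.mem (hPR.le hx)
      have h2 : f₁ x = fn k₁ (χ x) := by
        rw [hf₁e x (hPR.le hx) hχx, fn_apply k₁ hχx]
      have h3 : f₂ (f x) = fn k₂ (χ x) := by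
        have h4 : χ (g (f x)) = χ x := by rw [hgf x (hPR.le hx)]
        have h5 : (χ ∘ g) (f x) ∈ R₀ := by
          show χ (g (f x)) ∈ R₀
          rw [h4]; exact hχx
        rw [hf₂e (f x) (hPR' hfx) h5, ← fn_apply k₂ h5]
        show fn k₂ (χ (g (f x))) = _
        rw [h4]
      have h4 : fn (k₂ * k₁⁻¹) (f₁ x) = f₂ (f x) := by
        rw [h2, h3, fn_mul _ _ (fn_mem k₁ hχx), fn_inv_fn k₁ hχx]
      rw [h1, h4]
      exact (ha₂'a₂ (f x) hfx).symm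
  intro m
  induction m with
  | zero =>
    intro R R' f hm hPR hRN hf hfP
    refine hmain R R' f hPR hRN hf hfP fun hne => ?_
    exfalso
    have h1 : Nat.card R < Nat.card (normalizerIn S P₀) :=
      card_lt_of_lt inf_le_left (lt_of_le_of_ne hRN hne)
    have h2 : Nat.card (normalizerIn S P₀) ≤ Nat.card S := card_le_of_le le_rfl inf_le_left
    omega
  | succ m ih =>
    intro R R' f hm hPR hRN hf hfP
    exact hmain R R' f hPR hRN hf hfP fun _ R₂ R₂' f₂ h1 h2 h3 h4 h5 =>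
      ih R₂ R₂' f₂ (by omega) h2 h3 h4 h5

/-- Two full maps onto `P₀`. -/
theorem m_of_full (hD : ∀ P f, Mp D P f ↔ DP p F E P f) (hS : IsPGroup p S)
    (hT : F.StronglyClosed T) (hI : StrongInvC E F) (hM : AM p F E D P₀ M)
    (hcen : H756.TC F T (P₀ ⊓ T)) (hbig : Big p D (Nat.card P₀)) (hlt : Nat.card P₀ < Nat.card S)
    (htop : ∀ Q, D.IsConj P₀ Q → Arr D Q P₀) {Q N N' : Subgroup Ω} {χ χ' : Ω → Ω}
    (hχ : Iso D (normalizerIn S Q) N χ) (hχQ : Iso D Q P₀ χ)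
    (hχ' : Iso D (normalizerIn S Q) N' χ') (hχ'Q : Iso D Q P₀ χ') {a : Ω → Ω}
    (ha : ∀ x ∈ Q, a (χ x) = χ' x) : M a := by
  have hQS : Q ≤ S := hχQ.le_left
  have hQN : Q ≤ normalizerIn S Q := H802.le_normalizerIn hQS
  obtain ⟨g, hg, hgQ, hgχ, hχg⟩ := hχ.inv_restrict hχQ hQN
  have hN := hχ.le_normalizerIn hχQ hQN inf_le_right
  have hQne : Q ≠ S := by
    rintro rfl
    have := hχQ.card_eq
    omega
  have hlt2 := H802.card_lt_card_normalizerIn hS hQS hQne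
  have hPN : P₀ < N := by
    refine lt_of_le_of_ne (hχ.le_of_le hχQ hQN) fun he => ?_
    have h1 := hχ.card_eq
    have h2 := hχQ.card_eq
    rw [← he] at h1
    omega
  refine hM.congr _ _ (fun x hx => ?_) (claimC hD hS hT hI hM hcen hbig htop _ N N' (χ' ∘ g) le_rfl
    hPN hN (hg.trans hχ') (hgQ.trans hχ'Q))
  obtain ⟨y, hy, rfl⟩ := hχQ.surj hx
  rw [ha y hy]
  show χ' y = χ' (g (χ y))
  rw [hgχ y (hQN hy)]

/-- One generator. -/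
theorem m_of_step (hD : ∀ P f, Mp D P f ↔ DP p F E P f) (hS : IsPGroup p S)
    (hT : F.StronglyClosed T) (hI : StrongInvC E F) (hDF : D.IsSubsystemOf F)
    (hM : AM p F E D P₀ M)
    (hcen : H756.TC F T (P₀ ⊓ T)) (hbig : Big p D (Nat.card P₀)) (hlt : Nat.card P₀ < Nat.card S)
    (htop : ∀ Q, D.IsConj P₀ Q → Arr D Q P₀) {Q Q' R N N' : Subgroup Ω} {κ χ χ' : Ω → Ω}
    (hκ : GD p F E R κ) (hQR : Q ≤ R) (hκQ : Iso D Q Q' κ)
    (hχ : Iso D (normalizerIn S Q) N χ) (hχQ : Iso D Q P₀ χ)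
    (hχ' : Iso D (normalizerIn S Q') N' χ') (hχ'Q : Iso D Q' P₀ χ') {a : Ω → Ω}
    (ha : ∀ x ∈ Q, a (χ x) = χ' (κ x)) : M a := by
  have hQS : Q ≤ S := hχQ.le_left
  have hQN : Q ≤ normalizerIn S Q := H802.le_normalizerIn hQS
  have hκR := iso_of_gd hD hκ
  by_cases hne : Q = R
  · subst hne
    have he : Q' = Q := hκQ.eq_of hκR
    subst he
    obtain ⟨ω, hω, hωχ, hχω⟩ := hχQ.exists_inv
    have h1 : Iso D P₀ P₀ (χ ∘ (κ ∘ ω)) := (hω.trans hκR).trans hχQ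
    have h2 : Iso D P₀ P₀ (χ' ∘ ω) := hω.trans hχ'Q
    obtain ⟨κ', hκ', he'⟩ := hκ.transport hT hI (mp_mono hDF (mp_of_iso hχ)) hQN
      (fun y => hχQ.mem_iff)
    have hM1 : M (χ ∘ (κ ∘ ω)) := hM.gd _ (hκ'.congr fun x hx => by
      obtain ⟨y, hy, rfl⟩ := hχQ.surj hx
      show χ (κ (ω (χ y))) = κ' (χ y)
      rw [hωχ y hy, he' y hy])
    have hM2 : M (χ' ∘ ω) := m_of_full hD hS hT hI hM hcen hbig hlt htop hχ hχQ hχ' hχ'Q
      fun x hx => by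
        show χ' (ω (χ x)) = χ' x
        rw [hωχ x hx]
    refine hM.congr _ _ (fun x hx => ?_) (hM.comp _ _ h1 h2 hM1 hM2)
    obtain ⟨y, hy, rfl⟩ := hχQ.surj hx
    rw [ha y hy]
    show _ = χ' (ω (χ (κ (ω (χ y)))))
    rw [hωχ y hy, hωχ _ (hκR.mem hy)]
  · have hQR' : Q < R := lt_of_le_of_ne hQR hne
    obtain ⟨g, hg, hgQ, hgn⟩ := H759.exists_mem_normalizer_not_mem hS hκR.le_left hQR'
    obtain ⟨R₁', hR₁', -⟩ := hκR.restrict (R := R ⊓ normalizerIn S Q) inf_le_left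
    have hle : Q ≤ R ⊓ normalizerIn S Q := le_inf hQR hQN
    have hgN : g ∈ R ⊓ normalizerIn S Q := ⟨hg, hκR.le_left hg, hgn⟩
    obtain ⟨V, hV, hVN⟩ := hχ.restrict (R := R ⊓ normalizerIn S Q) inf_le_right
    obtain ⟨ψ, hψ, hψQ, hψχ, -⟩ := hV.inv_restrict hχQ hle
    have hR₁'N : R₁' ≤ normalizerIn S Q' :=
      hR₁'.le_normalizerIn hκQ hle (inf_le_right.trans inf_le_right)
    obtain ⟨V', hV', -⟩ := hχ'.restrict hR₁'N
    have hall := (hψ.trans hR₁').trans hV'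
    have hall0 := (hψQ.trans hκQ).trans hχ'Q
    have hP₀V : P₀ < V := by
      refine lt_of_le_of_ne (hV.le_of_le hχQ hle) (fun he => hgQ ?_)
      have h6 : χ g ∈ P₀ := by
        rw [he]
        exact hV.mem hgN
      exact (hV.mem_iff_mem hχQ hle hgN).1 h6
    have hVN : V ≤ normalizerIn S P₀ :=
      hV.le_normalizerIn hχQ hle (inf_le_right.trans inf_le_right)
    refine hM.congr _ _ (fun y hy => ?_)
      (claimC hD hS hT hI hM hcen hbig htop _ V V' _ le_rfl hP₀V hVN hall hall0)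
    obtain ⟨x, hx, rfl⟩ := hχQ.surj hy
    rw [ha x hx]
    show _ = χ' (κ (ψ (χ x)))
    rw [hψχ x (hle hx)]

theorem m_of_nn (hD : ∀ P f, Mp D P f ↔ DP p F E P f) (hS : IsPGroup p S)
    (hT : F.StronglyClosed T) (hI : StrongInvC E F) (hDF : D.IsSubsystemOf F)
    (hM : AM p F E D P₀ M)
    (hcen : H756.TC F T (P₀ ⊓ T)) (hbig : Big p D (Nat.card P₀)) (hlt : Nat.card P₀ < Nat.card S)
    (htop : ∀ Q, D.IsConj P₀ Q → Arr D Q P₀) {Q N : Subgroup Ω} {ν χ : Ω → Ω}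
    (hν : NN p F E Q ν) (hχ : Iso D (normalizerIn S Q) N χ) (hχQ : Iso D Q P₀ χ) :
    ∀ (Q' N' : Subgroup Ω) (χ' a : Ω → Ω), Iso D Q Q' ν →
      Iso D (normalizerIn S Q') N' χ' → Iso D Q' P₀ χ' → (∀ x ∈ Q, a (χ x) = χ' (ν x)) → M a := by
  have hQS : Q ≤ S := hχQ.le_left
  induction hν with
  | id g hP hg =>
    intro Q' N' χ' a hQ' hχ' hχ'Q ha
    have he : Q' = Q := by
      refine hQ'.eq_of ((Iso.refl D hQS).congr fun x hx => ?_)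
      rw [hg x hx]; rfl
    subst he
    exact m_of_full hD hS hT hI hM hcen hbig hlt htop hχ hχQ hχ' hχ'Q fun x hx => by
      rw [ha x hx, hg x hx]
  | step R f κ g hf hκ hm hg ih =>
    intro Q' N' χ' a hQ' hχ' hχ'Q ha
    have hfD : Mp D Q f := (hD _ _).2 hf.dp
    obtain ⟨Q'', hQ'', -, -⟩ := hfD.exists_image le_rfl
    have hfi : Iso D Q Q'' f := iso_of_mp hfD le_rfl hQ''
    have hQ''R : Q'' ≤ R := fun y hy => by
      obtain ⟨x, hx, rfl⟩ := hfi.surj hy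
      exact hm x hx
    have hκi : Iso D Q'' Q' κ := by
      refine (iso_of_gd hD hκ).restrict_of hQ''R fun y => ?_
      rw [hQ'.mem_iff]
      constructor
      · rintro ⟨x, hx, rfl⟩
        exact ⟨f x, hfi.mem hx, (hg x hx).symm⟩
      · rintro ⟨z, hz, rfl⟩
        obtain ⟨x, hx, rfl⟩ := hfi.surj hz
        exact ⟨x, hx, hg x hx⟩
    obtain ⟨ω, W, hω, hωQ⟩ := htop Q'' (H802.isConj_trans (H802.isConj_symm hχQ.isConj) hfi.isConj)
    obtain ⟨χi, hχi, hχiχ, hχχi⟩ := hχQ.exists_inv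
    obtain ⟨ωi, hωi, hωiω, hωωi⟩ := hωQ.exists_inv
    have h1 : Iso D P₀ P₀ (ω ∘ (f ∘ χi)) := (hχi.trans hfi).trans hωQ
    have h2 : Iso D P₀ P₀ (χ' ∘ (κ ∘ ωi)) := (hωi.trans hκi).trans hχ'Q
    have hM1 : M (ω ∘ (f ∘ χi)) := ih Q'' W ω _ hfi hω hωQ fun x hx => by
      show ω (f (χi (χ x))) = ω (f x)
      rw [hχiχ x hx]
    have hM2 : M (χ' ∘ (κ ∘ ωi)) := m_of_step hD hS hT hI hDF hM hcen hbig hlt htop hκ hQ''R hκi
      hω hωQ hχ' hχ'Q fun x hx => by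
        show χ' (κ (ωi (ω x))) = χ' (κ x)
        rw [hωiω x hx]
    refine hM.congr _ _ (fun x hx => ?_) (hM.comp _ _ h1 h2 hM1 hM2)
    obtain ⟨y, hy, rfl⟩ := hχQ.surj hx
    rw [ha y hy, hg y hy]
    show _ = χ' (κ (ωi (ω (f (χi (χ y))))))
    rw [hχiχ y hy, hωiω _ (hfi.mem hy)]

/-- **Automorphisms of the top member of a conjugacy class.** -/
theorem aut_top (hD : ∀ P f, Mp D P f ↔ DP p F E P f) (hS : IsPGroup p S)
    (hT : F.StronglyClosed T) (hI : StrongInvC E F) (hDF : D.IsSubsystemOf F)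
    (hM : AM p F E D P₀ M)
    (hcen : H756.TC F T (P₀ ⊓ T)) (hbig : Big p D (Nat.card P₀)) (hlt : Nat.card P₀ < Nat.card S)
    (htop : ∀ Q, D.IsConj P₀ Q → Arr D Q P₀) {f : Ω → Ω} (hf : Iso D P₀ P₀ f) : M f := by
  have hP₀S : P₀ ≤ S := hf.le_left
  obtain ⟨s, hs, ν, hν, hfe⟩ := (hD _ _).1 (mp_of_iso hf)
  have hνD : Mp D P₀ ν := (hD _ _).2 hν.dp
  obtain ⟨Q', hQ', hQ'S, -⟩ := hνD.exists_image le_rfl
  have hνi : Iso D P₀ Q' ν := iso_of_mp hνD le_rfl hQ'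
  have hc : Mp D (normalizerIn S Q') (fun x => s * x * s⁻¹) := mp_conj D inf_le_left hs
  obtain ⟨N', hN', -, -⟩ := hc.exists_image le_rfl
  have hcP : Iso D Q' P₀ (fun x => s * x * s⁻¹) := by
    refine iso_of_mp hc (H802.le_normalizerIn hQ'S) fun y => ?_
    rw [hf.mem_iff]
    constructor
    · rintro ⟨x, hx, rfl⟩
      exact ⟨ν x, hνi.mem hx, (hfe x hx).symm⟩
    · rintro ⟨z, hz, rfl⟩
      obtain ⟨x, hx, rfl⟩ := hνi.surj hz
      exact ⟨x, hx, hfe x hx⟩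
  exact m_of_nn hD hS hT hI hDF hM hcen hbig hlt htop hν (Iso.refl D inf_le_left)
    (Iso.refl D hP₀S) Q' N' _ f hνi (iso_of_mp hc le_rfl hN') hcP fun x hx => hfe x hx

end Cfsg.Agent.H758
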