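import Cfsg.Agent.H758.PRes

/-!
# Uniqueness of the product (helper758)
-/

set_option autoImplicit false

namespace Cfsg.Agent.H758

open Cfsg Cfsg.FusionSystem Cfsg.Agent.H752 Cfsg.Agent.H750

variable {Ω : Type*} [Group Ω] {S T A R U : Subgroup Ω} {p : ℕ} {F : FusionSystem S}
  {E : FusionSystem T} {W : FusionSystem S}

theorem hom_subset_of_mp {X : FusionSystem T} {Y : FusionSystem U}
    (h : ∀ P f, Mp X P f → Mp Y P f) (P : Subgroup Ω) : X.Hom P ⊆ Y.Hom P := fun φ hφ =>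
  (h P (ex φ) (mp_ex hφ)).mem_hom fun _ hx => (ex_apply _ hx).symm

theorem le_of_pPower [Finite S] [Fact p.Prime] (hS : IsPGroup p S) (hUR : U ≤ R) (hRS : R ≤ S)
    {X : FusionSystem U} {Y : FusionSystem R} (hX : X.IsSaturated p)
    (hXW : ∀ P f, Mp X P f → Mp W P f) (hY : Y.HasPPowerIndexIn W p) :
    ∀ P f, Mp X P f → Mp Y P f := by
  have hUS := hUR.trans hRS
  have hfU : Finite U := H802.finite_of_le hUS
  have hUp : IsPGroup p U := isPGroup_mono hS hUS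
  obtain ⟨k1, k2, k3⟩ := (pPower_iff hRS).1 hY
  have hpred : SysPred X U (fun P f => Mp X P f ∧ Mp Y P f) := by
    refine ⟨fun h => h.1, fun h => h.1.le, fun h x hx => h.1.mem hx,
      fun h he => ⟨h.1.congr he, h.2.congr he⟩,
      fun hP ht => ⟨mp_conj X hP ht, mp_conj Y (hP.trans hUR) (hUR ht)⟩,
      fun h h' hm => ⟨h.1.comp h'.1 hm, h.2.comp h'.2 hm⟩, ?_⟩
    intro P R f g h hR hg
    refine ⟨h.1.symm fun y hy => ?_, h.2.symm fun y hy => ?_⟩
    · obtain ⟨x, hx, rfl⟩ := (hR y).1 hy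
      exact ⟨x, hx, rfl, hg x hx⟩
    · obtain ⟨x, hx, rfl⟩ := (hR y).1 hy
      exact ⟨x, hx, rfl, hg x hx⟩
  rintro P f ⟨φ, hφ, hφf⟩
  have h2 := H802.le_of_centric hUp hX (subSys hpred) (fun Q hQ hQc _ => ?_) P hφ
  · exact ((mp_subSys hpred).1 (⟨φ, h2, hφf⟩ : Mp (subSys hpred) P f)).2
  · have hQU := hQ.1
    have hfQ : Finite Q := H802.finite_of_le hQU
    have hfM := finite_mulAut Q
    have hsyl := sylIn_of_isFullyAutomized (H802.isFullyAutomized_of_isFullyNormalized hUp hX hQ)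
    refine le_of_sylIn_of_coprime hsyl (H802.autInducedBy_le_autGroup _ hQU) fun α hα hc => ?_
    have hαX := (mp_iff_autGroup hQU α).1 hα
    rw [mp_iff_autGroup hQU]
    exact (mp_subSys hpred).2 ⟨hαX, k3 Q _ (hQU.trans hUR) (hXW _ _ hαX)
      (pp_of_aut (fun x hx => ex_apply _ hx) hc)⟩

variable [Finite S] [Fact p.Prime]

/-- Generators for the residual lie in the product system. -/
theorem claimK (hD : ∀ P f, Mp W P f ↔ DP p F E P f) (hS : IsPGroup p S)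
    (hE : E.IsNormalIn F p) (hWF : W.IsSubsystemOf F) (hWs : W.IsSaturated p)
    {E₁ : FusionSystem A} (hAF : F.StronglyClosed A) (hI₁ : StrongInvC E₁ F)
    (hE₁W : E₁.IsSubsystemOf W)
    (hWA : ∀ (P : Subgroup Ω) (f : Ω → Ω), Mp W P f → PP p P f → ∀ x ∈ P, x⁻¹ * f x ∈ A)
    {Q : Subgroup Ω} {κ : Ω → Ω} (hκ : GD p F E₁ Q κ) : Mp W Q κ := by
  have hF := hE.1.2.1
  have hT : F.StronglyClosed T := hE.1.2.2.2.1
  have hTS := hT.1
  have hI : StrongInvC E F :=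
    (isInvariantIn_iff_strongInvC hS hF hE.1.2.2.1 hT).1 hE.1.2.2
  have hQS : Q ≤ S := hκ.mp.le
  obtain ⟨Q', hc, hn⟩ := H802.exists_isFullyNormalized hS hF hQS
  obtain ⟨χ, hχ⟩ := exists_iso_of_isConj hc
  obtain ⟨ν, hν, ψ, hψ, hχe⟩ := fact hS hF hE.1.2.2 Q χ (mp_of_iso hχ)
  have hνW : Mp W Q ν := (hD _ _).2 hν.dp
  obtain ⟨Q₂, V, ψi, hQ₂, hQ₂T, hV, hψi, hl, hr, hTV⟩ := FF.data hT hν hψ
  obtain ⟨κ₂, hκ₂, hκ₂e⟩ := hκ.transport hAF hI₁ hν.mp le_rfl hQ₂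
  have hQ' : ∀ y, y ∈ Q' ↔ ∃ x ∈ Q₂, ψ x = y := by
    intro y
    rw [hχ.mem_iff]
    constructor
    · rintro ⟨x, hx, rfl⟩
      exact ⟨ν x, (hQ₂ _).2 ⟨x, hx, rfl⟩, (hχe x hx).symm⟩
    · rintro ⟨z, hz, rfl⟩
      obtain ⟨x, hx, rfl⟩ := (hQ₂ z).1 hz
      exact ⟨x, hx, hχe x hx⟩
  obtain ⟨κ', hκ', hκ'e⟩ := hκ₂.transport hAF hI₁ hψ hQ₂T hQ'
  have h1 : Mp W Q' κ' := bc hS hF hAF hI₁ hWs hWF hE₁W hWA hn
    (fun z hz => (hκ'.cen.self hAF.1 hz.1 fun x hx =>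
      Subgroup.mem_centralizer_iff.1 hz.2 x hx).1) hκ'.mp hκ'.pp hκ'.tr hκ'.e
  have h2 : NN p F E Q' κ' := nn_of_pp hS hT hI ((hD _ _).1 h1) hκ'.pp
  have hQ'V : Q' ≤ V := fun y hy => by
    obtain ⟨z, hz, rfl⟩ := (hQ' y).1 hy
    exact (hV _).2 ⟨z, hQ₂T hz, rfl⟩
  have h3 : NN p F E Q₂ κ₂ := h2.transport hT hI hψi hQ'V hTV fun y hy =>
    ⟨ψ y, (hQ' _).2 ⟨y, hy, rfl⟩, hl y (hQ₂T hy), by
      rw [hκ'e y hy, hl _ (hQ₂T (hκ₂.pp.1 y hy))]⟩
  have h4 : Mp W Q₂ κ₂ := (hD _ _).2 h3.dp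
  obtain ⟨νi, hνi, hνl, hνr⟩ := hνW.exists_symm le_rfl hQ₂
  refine ((hνW.comp h4 fun x hx => (hQ₂ _).2 ⟨x, hx, rfl⟩).comp hνi fun x hx =>
    hκ₂.pp.1 _ ((hQ₂ _).2 ⟨x, hx, rfl⟩)).congr fun x hx => ?_
  show κ x = νi (κ₂ (ν x))
  rw [hκ₂e x hx, hνl _ (hκ.pp.1 x hx)]

/-- Every candidate is contained in the product system. -/
theorem le_prod (hD : ∀ P f, Mp W P f ↔ DP p F E P f) (hS : IsPGroup p S)
    (hE : E.IsNormalIn F p) (hWF : W.IsSubsystemOf F) (hWs : W.IsSaturated p)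
    {E₁ : FusionSystem A} (hAF : F.StronglyClosed A) (hI₁ : StrongInvC E₁ F)
    (hE₁W : E₁.IsSubsystemOf W)
    (hWA : ∀ (P : Subgroup Ω) (f : Ω → Ω), Mp W P f → PP p P f → ∀ x ∈ P, x⁻¹ * f x ∈ A)
    (hAR : A ≤ R) (hRS : R ≤ S) {D : FusionSystem R} (hDs : D.IsSaturated p)
    (hDF : D.IsSubsystemOf F) (hi : E₁.HasPPowerIndexIn D p) :
    ∀ P f, Mp D P f → Mp W P f := by
  have hF := hE.1.2.1
  have hfR : Finite R := H802.finite_of_le hRS
  have hRp : IsPGroup p R := isPGroup_mono hS hRS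
  have hfA : Finite A := H802.finite_of_le (hAR.trans hRS)
  have hAD : D.StronglyClosed A := ⟨hAR, fun P hP φ hφ x => hAF.2 P hP φ (hDF P hφ) x⟩
  have hE₁F : E₁.IsSubsystemOf F := fun P φ hφ => hWF P (hE₁W P hφ)
  obtain ⟨k1, k2, k3⟩ := (pPower_iff hAR).1 hi
  have hI₁D : StrongInvC E₁ D := fun P Q R f g h h1 h2 h3 h4 h5 h6 =>
    hI₁ P Q R f g h h1 h2 h3 h4 (mp_mono hDF h5) h6
  have hInvD : E₁.IsInvariantIn D :=
    (isInvariantIn_iff_strongInvC hRp hDs k1 hAD).2 hI₁D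
  have hInvF : E₁.IsInvariantIn F :=
    (isInvariantIn_iff_strongInvC hS hF hE₁F hAF).2 hI₁
  have hK : ∀ (Q : Subgroup Ω) (κ : Ω → Ω), GD p D E₁ Q κ → Mp W Q κ := by
    intro Q κ hκ
    refine claimK hD hS hE hWF hWs hAF hI₁ hE₁W hWA
      ⟨mp_mono hDF hκ.mp, hκ.pp, hκ.tr, hκ.e, ?_⟩
    exact (H756.isCentric_iff_tc hInvF).1 ((H756.isCentric_iff_tc hInvD).2 hκ.cen)
  have hNN : ∀ (Q : Subgroup Ω) (ν : Ω → Ω), NN p D E₁ Q ν → Mp W Q ν := by
    intro Q ν hν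
    induction hν with
    | id g hP hg => exact (mp_id W (hP.trans hRS)).congr hg
    | step Q f κ g _ hκ hm hg ih => exact (ih.comp (hK Q κ hκ) hm).congr hg
  have hTT : H756.TC D A A := ⟨le_rfl, fun f hf z hz _ => hf.surj (fun x hx =>
    mp_mem_of_stronglyClosed hAD hf hx hx) hz⟩
  have hL : ∀ (P : Subgroup Ω) (f : Ω → Ω), Mp D P f → A ≤ P → Mp W P f := by
    refine mp_induction D hRp hDs (fun P f => A ≤ P → Mp W P f) ?_ ?_ ?_ ?_ ?_
    · intro P f g _ h1 he hA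
      exact (h1 hA).congr he
    · intro P R f _ h1 hR hA
      exact (h1 (hA.trans hR)).res hR
    · intro P Q f g hf _ h1 h2 hm hA
      have hAQ : A ≤ Q := fun y hy => by
        obtain ⟨x, hx, rfl⟩ := (hf.res hA).surj (fun x hx =>
          mp_mem_of_stronglyClosed hAD hf (hA hx) hx) hy
        exact hm x (hA hx)
      exact (h1 hA).comp (h2 hAQ) hm
    · intro P R f g hf h1 hg hinv hA
      have hAP : A ≤ P := fun y hy => by
        obtain ⟨x, hx, rfl⟩ := (hg.res hA).surj (fun x hx =>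
          mp_mem_of_stronglyClosed hAD hg (hA hx) hx) hy
        obtain ⟨z, hz, -, h2⟩ := hinv x (hA hx)
        rw [h2]
        exact hz
      exact (h1 hAP).symm hinv
    · intro Q hQa hQr _ α hα f hf hA
      have hQR : Q ≤ R := hQa.1
      have hQS := hQR.trans hRS
      have hfQ : Finite Q := H802.finite_of_le hQR
      have hfM := finite_mulAut Q
      have hle : D.autGroup Q ≤ W.autGroup Q := by
        refine le_of_sylIn_of_coprime (sylIn_of_isFullyAutomized hQa) (fun c hc => ?_)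
          fun β hβ hc => ?_
        · obtain ⟨g, hg, h⟩ := H757.exists_cj_of_mem hc
          exact h.mem_autGroup hQS (hRS hg)
        · have hβD := (mp_iff_autGroup hQR β).1 hβ
          have hpp := pp_of_aut (fun x hx => fn_apply β hx) hc
          rw [mp_iff_autGroup hQS]
          refine hK Q _ ⟨hβD, hpp, k2 Q _ hβD hpp, k3 _ _ inf_le_right (hβD.res inf_le_left)
            (hpp.res inf_le_left fun x hx => ⟨hpp.1 x hx.1,
              mp_mem_of_stronglyClosed hAD hβD hx.1 hx.2⟩), ?_⟩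
          rw [inf_eq_right.2 hA]
          exact hTT
      exact mp_of_autGroup hQS (hle hα) hf
  intro P f hf
  obtain ⟨ν, hν, ψ, hψ, he⟩ := fact hRp hDs hInvD P f hf
  exact ((hNN P ν hν).comp (hL _ ψ hψ le_sup_right) fun x hx => hν.mem_sup hx).congr he

/-- Extension in the non-centric case. -/
theorem ext_of_not_centralizer_le (hS : IsPGroup p S) (hT : F.StronglyClosed T) {Q : Subgroup Ω}
    (hQa : F.IsFullyAutomized p Q) (hQr : F.IsReceptive Q) (hC : ¬ centralizerIn T (Q ⊓ T) ≤ Q)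
    {β : MulAut Q} (hβ : β ∈ F.autGroup Q) :
    ∃ (N : Subgroup Ω) (ψ : Ω → Ω), Mp F N ψ ∧ Q < N ∧ ∀ x ∈ Q, ψ x = fn β x := by
  have hTS := hT.1
  have hQS := hQr.1
  have hfQ : Finite Q := H802.finite_of_le hQS
  have hR : IsPGroup p ↥(Q ⊔ centralizerIn T (Q ⊓ T)) :=
    isPGroup_mono hS (sup_le hQS (inf_le_left.trans hTS))
  have hfR : Finite ↥(Q ⊔ centralizerIn T (Q ⊓ T)) :=
    H802.finite_of_le (sup_le hQS (inf_le_left.trans hTS))
  obtain ⟨u, hu, huQ, hun⟩ := H757.exists_normalizes_of_not_le hR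
    (U := centralizerIn T (Q ⊓ T)) (V := Q) le_sup_right le_sup_left (by
      have h1 : Q ⊔ centralizerIn T (Q ⊓ T) ≤
          Subgroup.normalizer (centralizerIn T (Q ⊓ T) : Set Ω) := by
        have hfC : Finite ↥(centralizerIn T (Q ⊓ T)) :=
          H802.finite_of_le (inf_le_left.trans hTS)
        refine sup_le (fun x hx => H757.mem_normalizer_of_conj_mem fun v hv => ⟨?_, ?_⟩)
          Subgroup.le_normalizer
        · exact H759.StronglyClosed.conj_mem hT (hQS hx) hv.1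
        · refine Subgroup.mem_centralizer_iff.2 fun z hz => ?_
          have hz' : x⁻¹ * z * x ∈ Q ⊓ T := by
            refine ⟨mul_mem (mul_mem (Subgroup.inv_mem _ hx) hz.1) hx, ?_⟩
            have h2 := H759.StronglyClosed.conj_mem hT (Subgroup.inv_mem _ (hQS hx)) hz.2
            simpa using h2
          have h3 := Subgroup.mem_centralizer_iff.1 hv.2 _ hz'
          calc z * (x * v * x⁻¹) = x * ((x⁻¹ * z * x) * v) * x⁻¹ := by group
            _ = x * (v * (x⁻¹ * z * x)) * x⁻¹ := by rw [h3]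
            _ = x * v * x⁻¹ * z := by group
      intro r hr u hu
      exact (Subgroup.mem_normalizer_iff.1 (h1 hr) u).1 hu) hC
  obtain ⟨c, hc⟩ := H757.exists_cj hun
  have hcF : c ∈ F.autGroup Q := hc.mem_autGroup hQS (hTS hu.1)
  have hcT : ∀ x : Q, (x : Ω)⁻¹ * (c x : Q) ∈ T := by
    intro x
    rw [hc x]
    have h5 : (x : Ω)⁻¹ * (u * x * u⁻¹) = ((x : Ω)⁻¹ * u * (x : Ω)⁻¹⁻¹) * u⁻¹ := by group
    rw [h5]
    exact mul_mem (H759.StronglyClosed.conj_mem hT (Subgroup.inv_mem _ (hQS x.2)) hu.1)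
      (Subgroup.inv_mem _ hu.1)
  have hcG : c ∈ trG F T Q := by
    refine ⟨hcF, fun x hx => Subtype.ext ?_, hcT⟩
    rw [hc x]
    have h3 := Subgroup.mem_centralizer_iff.1 hu.2 _ (⟨x.2, hx⟩ : (x : Ω) ∈ Q ⊓ T)
    rw [← h3]
    group
  have hcβ : β * c * β⁻¹ ∈ autInducedBy S Q := trG_le hS hT hQa (trG_normal hT hQS hβ hcG)
  have hm := (mp_iff_autGroup hQS β).1 hβ
  obtain ⟨N, ψ, hψ, hQN, hψe, hN⟩ := H753.mp_extend hQr hm (fun y =>
    ⟨fun hy => hm.surj (fun x hx => fn_mem β hx) hy, fun ⟨x, hx, h⟩ => h ▸ fn_mem β hx⟩)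
  have huN : u ∈ N := by
    obtain ⟨g, hg, hgc⟩ := H757.exists_cj_of_mem hcβ
    refine hN u (hTS hu.1) hun ⟨g, hg, fun x hx => ?_⟩
    have h11 : u * x * u⁻¹ ∈ Q := (Subgroup.mem_normalizer_iff.1 hun x).1 hx
    have h9 := hgc (β ⟨x, hx⟩)
    have h10 : (β * c * β⁻¹) (β ⟨x, hx⟩) = β (c ⟨x, hx⟩) := by
      simp [MulAut.mul_apply]
    rw [h10] at h9
    show fn β _ = g * fn β x * g⁻¹
    rw [fn_apply β h11, fn_apply β hx]
    have h12 : (⟨u * x * u⁻¹, h11⟩ : Q) = c ⟨x, hx⟩ := Subtype.ext (hc ⟨x, hx⟩).symm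
    rw [h12, h9]
  exact ⟨N, ψ, hψ, lt_of_le_of_ne hQN fun he => huQ (he ▸ huN), hψe⟩

/-- Two saturated systems `D ≤ W` over the same group, `E` of `p`-power index in both, coincide. -/
theorem le_of_index (hS : IsPGroup p S) (hT : W.StronglyClosed T) (hWs : W.IsSaturated p)
    (hI : StrongInvC E W) (hi : E.HasPPowerIndexIn W p) {D : FusionSystem S}
    (hDs : D.IsSaturated p) (hDW : D.IsSubsystemOf W) (hiD : E.HasPPowerIndexIn D p) :
    ∀ P f, Mp W P f → Mp D P f := by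
  have hTS := hT.1
  obtain ⟨k1, k2, k3⟩ := (pPower_iff hTS).1 hi
  obtain ⟨l1, l2, l3⟩ := (pPower_iff hTS).1 hiD
  refine mp_induction W hS hWs (fun P f => Mp D P f) ?_ ?_ ?_ ?_ ?_
  · intro P f g _ h1 he
    exact h1.congr he
  · intro P R f _ h1 hR
    exact h1.res hR
  · intro P Q f g _ _ h1 h2 hm
    exact h1.comp h2 hm
  · intro P R f g _ h1 _ hinv
    exact h1.symm hinv
  · intro Q hQa hQr IH α hα f hf
    have hQS : Q ≤ S := hQa.1
    have hfQ : Finite Q := H802.finite_of_le hQS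
    have hfM := finite_mulAut Q
    by_cases hC : centralizerIn T (Q ⊓ T) ≤ Q
    · have hle : W.autGroup Q ≤ D.autGroup Q := by
        refine le_of_sylIn_of_coprime (sylIn_of_isFullyAutomized hQa)
          (H802.autInducedBy_le_autGroup _ hQS) fun β hβ hc => ?_
        have hβW := (mp_iff_autGroup hQS β).1 hβ
        have hpp := pp_of_aut (fun x hx => fn_apply β hx) hc
        rw [mp_iff_autGroup hQS]
        exact bc hS hWs hT hI hDs hDW l1 l2
          (H802.isFullyNormalized_of_automized_receptive hS hQa hQr) hC hβW hpp (k2 Q _ hβW hpp)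
          (k3 _ _ inf_le_right (hβW.res inf_le_left)
            (hpp.res inf_le_left fun x hx => ⟨hpp.1 x hx.1,
              mp_mem_of_stronglyClosed hT hβW hx.1 hx.2⟩))
      exact mp_of_autGroup hQS (hle hα) hf
    · obtain ⟨N, ψ, hψ, hQN, hψe⟩ := ext_of_not_centralizer_le hS hT hQa hQr hC hα
      have h1 : Nat.card Q < Nat.card N := card_lt_of_lt hψ.le hQN
      refine ((IH N ψ hψ h1).res hQN.le).congr fun x hx => ?_
      rw [hψe x hx, fn_apply α hx, hf x hx]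

end Cfsg.Agent.H758
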