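import Cfsg.Agent.H758.ProdSys
import Cfsg.Agent.H760.Layer

/-!
# The product hypothesis from S5143 (helper758)
-/

set_option autoImplicit false

namespace Cfsg.Agent.H758

open Cfsg Cfsg.FusionSystem Cfsg.Agent.H752

variable {Ω : Type*} [Group Ω] {S T : Subgroup Ω} {p : ℕ}

theorem mem_hyperfocal_of_pp {E : FusionSystem T} {P : Subgroup Ω} [Finite P] {f : Ω → Ω}
    (hf : Mp E P f) (hpp : PP p P f) {x : Ω} (hx : x ∈ P) : x⁻¹ * f x ∈ E.hyperfocalSubgroup p := by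
  obtain ⟨α, hα, hαf⟩ := hf.exists_aut hpp.1
  rw [hαf x hx]
  exact H747.hyperfocal_mem_of_coprime hf.le hα (hpp.orderOf_coprime hαf) ⟨x, hx⟩

theorem hyperfocal_le_of_pp {E : FusionSystem T} {H : Subgroup Ω}
    (h : ∀ (P : Subgroup Ω) (f : Ω → Ω), Mp E P f → PP p P f → ∀ x ∈ P, x⁻¹ * f x ∈ H) :
    E.hyperfocalSubgroup p ≤ H := by
  refine H747.hyperfocal_le fun P hP α hα hc x => ?_
  have hval : ∀ (x : Ω) (hx : x ∈ P), ex (fun x => ((α x : P) : Ω)) x = (α ⟨x, hx⟩ : P) :=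
    fun x hx => ex_apply _ hx
  have h4 := h P _ ((mp_iff_autGroup hP α).1 hα) (pp_of_aut hval hc) x x.2
  rwa [ex_coe] at h4

/-- The hyperfocal subgroup of an invariant subsystem is normalized by `S`. -/
theorem hyperfocal_conj_mem [Finite S] {D : FusionSystem S} {E : FusionSystem T}
    (hE : E.IsInvariantIn D) {s : Ω} (hs : s ∈ S) :
    ∀ y ∈ E.hyperfocalSubgroup p, s * y * s⁻¹ ∈ E.hyperfocalSubgroup p := by
  have hT := hE.2.1
  have hTS := hT.1
  have hfT : Finite T := H802.finite_of_le hTS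
  have hI : InvC E D := (isInvariantIn_iff.1 hE).2.2.1
  suffices h : E.hyperfocalSubgroup p ≤
      (E.hyperfocalSubgroup p).comap (MulAut.conj s).toMonoidHom from fun y hy => h hy
  refine hyperfocal_le_of_pp fun P f hf hpp x hx => ?_
  have hPT : P ≤ T := hf.le
  have hc := mp_conj D (P := T) hTS hs
  have hcP := hc.res hPT
  obtain ⟨P', hP', -, -⟩ := hcP.exists_image le_rfl
  obtain ⟨f', hf', hpp', hfe⟩ := pp_transport (p := p) (ψ := fun x => s * x * s⁻¹) hcP le_rfl hP'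
    (mp_mono hE.1 hf) hpp
  have hfE : Mp E P' f' := by
    refine hI P P' f _ f' hf hc fun y hy => ?_
    obtain ⟨x, hx, rfl⟩ := (hP' y).1 hy
    exact ⟨x, hx, rfl, hfe x hx⟩
  have hfP' : Finite P' := H802.finite_of_le hfE.le
  have h1 := mem_hyperfocal_of_pp hfE hpp' ((hP' _).2 ⟨x, hx, rfl⟩)
  rw [hfe x hx] at h1
  show s * (x⁻¹ * f x) * s⁻¹ ∈ E.hyperfocalSubgroup p
  have h2 : s * (x⁻¹ * f x) * s⁻¹ = (s * x * s⁻¹)⁻¹ * (s * f x * s⁻¹) := by group
  rw [h2]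
  exact h1

/-- Subsystems of `p`-power index have the same hyperfocal subgroup. -/
theorem hyperfocal_eq [Fact p.Prime] [Finite S] (hS : IsPGroup p S) {D : FusionSystem S}
    (hD : D.IsSaturated p) {E : FusionSystem T} (hE : E.IsSaturated p) (hT : D.StronglyClosed T)
    (hi : E.HasPPowerIndexIn D p) : D.hyperfocalSubgroup p = E.hyperfocalSubgroup p := by
  have hTS := hT.1
  have hn : E.IsNormalIn D p := isNormalIn_of_pPowerIndex hS hD hTS
    (fun s hs t ht => H759.StronglyClosed.conj_mem hT hs ht) hi.2.1 hE hi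
  obtain ⟨h1, h2, h3⟩ := (pPower_iff hTS).1 hi
  apply le_antisymm
  · refine hyperfocal_le_of_pp fun P f hf hpp x hx => ?_
    have hPS : P ≤ S := hf.le
    have hfP : Finite P := H802.finite_of_le hPS
    have hPTf : Finite ↥(P ⊓ T) := H802.finite_of_le (inf_le_left.trans hPS)
    have hfT : ∀ y ∈ P ⊓ T, f y ∈ P ⊓ T := fun y hy =>
      ⟨hpp.1 y hy.1, mp_mem_of_stronglyClosed hT hf hy.1 hy.2⟩
    have hE' : Mp E (P ⊓ T) f := h3 (P ⊓ T) f inf_le_right (hf.res inf_le_left)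
      (hpp.res inf_le_left hfT)
    have hkey : ∀ y ∈ P ⊓ T, y⁻¹ * f y ∈ E.hyperfocalSubgroup p := fun y hy =>
      mem_hyperfocal_of_pp hE' (hpp.res inf_le_left hfT) hy
    have hhT : E.hyperfocalSubgroup p ≤ T := H747.hyperfocal_le_base E p
    have h4 := cop_mem (P := P ⊓ E.hyperfocalSubgroup p) (isPGroup_mono hS hPS) hf hpp
      (fun w hw y hy => ⟨mul_mem (mul_mem hw hy.1) (Subgroup.inv_mem _ hw),
        hyperfocal_conj_mem hn.1.2.2 (hPS hw) y hy.2⟩)
      (fun y hy => ⟨hpp.1 y hy.1, by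
        have h5 := mul_mem hy.2 (hkey y ⟨hy.1, hhT hy.2⟩)
        have h6 : y * (y⁻¹ * f y) = f y := by group
        rwa [h6] at h5⟩) hx (by
        have h7 : x⁻¹ * f x ∈ P := mul_mem (Subgroup.inv_mem _ hx) (hpp.1 x hx)
        have h8 : x⁻¹ * f x ∈ T := h2 P f hf hpp x hx
        exact ⟨mul_mem (Subgroup.inv_mem _ h7) (hpp.1 _ h7), hkey _ ⟨h7, h8⟩⟩)
    exact h4.2
  · refine hyperfocal_le_of_pp fun P f hf hpp x hx => ?_
    have hfP : Finite P := H802.finite_of_le (hf.le.trans hTS)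
    exact mem_hyperfocal_of_pp (mp_mono h1 hf) hpp hx

/-- Transitivity of `p`-power index, for the residual. -/
theorem pPower_trans [Fact p.Prime] [Finite S] {A : Subgroup Ω} {D : FusionSystem S}
    {E : FusionSystem T} {E₁ : FusionSystem A} (hTS : T ≤ S) (hAT : A ≤ T)
    (hi : E.HasPPowerIndexIn D p) (hi₁ : E₁.HasPPowerIndexIn E p)
    (hA : D.hyperfocalSubgroup p ≤ A) : E₁.HasPPowerIndexIn D p := by
  have hfT : Finite T := H802.finite_of_le hTS
  obtain ⟨h1, h2, h3⟩ := (pPower_iff hTS).1 hi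
  obtain ⟨k1, k2, k3⟩ := (pPower_iff hAT).1 hi₁
  refine (pPower_iff (hAT.trans hTS)).2 ⟨fun P φ hφ => h1 P (k1 P hφ), fun P f hf hpp x hx => ?_,
    fun P f hP hf hpp => k3 P f hP (h3 P f (hP.trans hAT) hf hpp) hpp⟩
  have hfP : Finite P := H802.finite_of_le hf.le
  exact hA (mem_hyperfocal_of_pp hf hpp hx)

/-- Uniqueness of the residual. -/
theorem residual_unique [Fact p.Prime] [Finite S] (hS : IsPGroup p S) {D : FusionSystem S}
    (hD : D.IsSaturated p) {A B : Subgroup Ω} (hAB : A = B) (hA : A ≤ S)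
    (hh : D.hyperfocalSubgroup p ≤ A) {D₁ : FusionSystem A} {E₁ : FusionSystem B}
    (h1 : D₁.IsSaturated p) (h2 : D₁.HasPPowerIndexIn D p) (h3 : E₁.IsSaturated p)
    (h4 : E₁.HasPPowerIndexIn D p) (P : Subgroup Ω) : D₁.Hom P = E₁.Hom P := by
  subst hAB
  obtain ⟨X, -, hX⟩ := S5113.result p hS D hD A hA hh
  rw [hX D₁ h1 h2, hX E₁ h3 h4]

/-- The conditions of S5143. -/
def Good (p : ℕ) (F : FusionSystem S) (E : FusionSystem T) {R : Subgroup Ω}
    (D : FusionSystem R) : Prop :=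
  D.IsSaturated p ∧ D.IsSubsystemOf F ∧ D.hyperfocalSubgroup p = E.hyperfocalSubgroup p ∧
    ∀ (D₁ : FusionSystem (D.hyperfocalSubgroup p)) (E₁ : FusionSystem (E.hyperfocalSubgroup p)),
      D.IsPResidual p D₁ → E.IsPResidual p E₁ → ∀ P : Subgroup Ω, D₁.Hom P = E₁.Hom P

variable {F : FusionSystem S} {E : FusionSystem T}

theorem good_of_pPower [Fact p.Prime] [Finite S] (hS : IsPGroup p S) (hT : F.StronglyClosed T)
    (hEs : E.IsSaturated p) {R : Subgroup Ω} (hTR : T ≤ R) (hRS : R ≤ S) {D : FusionSystem R}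
    (hD : D.IsSaturated p) (hDF : D.IsSubsystemOf F) (hi : E.HasPPowerIndexIn D p) :
    Good p F E D := by
  have hfR : Finite R := H802.finite_of_le hRS
  have hRp : IsPGroup p R := isPGroup_mono hS hRS
  have hTD : D.StronglyClosed T := ⟨hTR, fun P hP φ hφ x => hT.2 P hP φ (hDF P hφ) x⟩
  have he := hyperfocal_eq hRp hD hEs hTD hi
  have hhT : E.hyperfocalSubgroup p ≤ T := H747.hyperfocal_le_base E p
  refine ⟨hD, hDF, he, fun D₁ E₁ h1 h2 P => ?_⟩
  exact residual_unique hRp hD he (H747.hyperfocal_le_base D p) le_rfl h1.1 h1.2 h2.1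
    (pPower_trans hTR hhT hi h2.2 he.le) P

theorem pPower_of_good [Fact p.Prime] [Finite S] (hS : IsPGroup p S) (hT : F.StronglyClosed T)
    (hEs : E.IsSaturated p) (hEF : E.IsSubsystemOf F)
    (hu : ∀ D₁ D₂ : FusionSystem T, Good p F E D₁ → Good p F E D₂ → D₁ = D₂)
    {R : Subgroup Ω} (hTR : T ≤ R) (hRS : R ≤ S) {D : FusionSystem R}
    (hD : Good p F E D) : E.HasPPowerIndexIn D p := by
  obtain ⟨hDs, hDF, hhyp, hres⟩ := hD
  have hfR : Finite R := H802.finite_of_le hRS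
  have hRp : IsPGroup p R := isPGroup_mono hS hRS
  have hTS := hT.1
  have hfT : Finite T := H802.finite_of_le hTS
  have hTp : IsPGroup p T := isPGroup_mono hS hTS
  have hTD : D.StronglyClosed T := ⟨hTR, fun P hP φ hφ x => hT.2 P hP φ (hDF P hφ) x⟩
  have hhT : E.hyperfocalSubgroup p ≤ T := H747.hyperfocal_le_base E p
  obtain ⟨E', ⟨hE's, hE'i⟩, -⟩ := S5113.result p hRp D hDs T hTR (hhyp.le.trans hhT)
  have hE'F : E'.IsSubsystemOf F := fun P φ hφ => hDF P (hE'i.1 P hφ)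
  have he' := hyperfocal_eq hRp hDs hE's hTD hE'i
  -- `E` itself is good
  have hgE : Good p F E E := by
    refine ⟨hEs, hEF, rfl, fun D₁ E₁ h1 h2 P => ?_⟩
    exact residual_unique hTp hEs rfl hhT le_rfl h1.1 h1.2 h2.1 h2.2 P
  have hgE' : Good p F E E' := by
    refine ⟨hE's, hE'F, he'.symm.trans hhyp, fun E₁' E₁ h1 h2 P => ?_⟩
    obtain ⟨D₁, ⟨hD₁s, hD₁i⟩, -⟩ := S5113.result p hRp D hDs (D.hyperfocalSubgroup p)
      (H747.hyperfocal_le_base D p) le_rfl
    have hh' : E'.hyperfocalSubgroup p ≤ T := H747.hyperfocal_le_base E' p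
    have h3 := residual_unique hRp hDs he'.symm (hh'.trans hTR) he'.le h1.1
      (pPower_trans hTR hh' hE'i h1.2 he'.le) hD₁s hD₁i P
    rw [h3]
    exact hres D₁ E₁ ⟨hD₁s, hD₁i⟩ h2 P
  rw [hu E E' hgE hgE']
  exact hE'i

/-- `ProdHyp` from S5143. -/
theorem prodHyp_of [Fact p.Prime] [Finite S] (hS : IsPGroup p S) (hT : F.StronglyClosed T)
    (hEs : E.IsSaturated p) (hEF : E.IsSubsystemOf F)
    (h : ∀ R : Subgroup Ω, T ≤ R → R ≤ S → ∃ D : FusionSystem R, Good p F E D ∧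
      ∀ D' : FusionSystem R, Good p F E D' → ∀ P : Subgroup Ω, D'.Hom P = D.Hom P) :
    ProdHyp p F E := by
  have hu : ∀ D₁ D₂ : FusionSystem T, Good p F E D₁ → Good p F E D₂ → D₁ = D₂ := by
    intro D₁ D₂ h1 h2
    obtain ⟨D, -, hD⟩ := h T le_rfl hT.1
    exact H760.ext_hom fun P => (hD D₁ h1 P).trans (hD D₂ h2 P).symm
  intro R hTR hRS
  obtain ⟨D, hD, hDu⟩ := h R hTR hRS
  refine ⟨D, hD.1, hD.2.1, pPower_of_good hS hT hEs hEF hu hTR hRS hD, fun D' h1 h2 h3 => ?_⟩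
  exact H760.ext_hom (hDu D' (good_of_pPower hS hT hEs hTR hRS h1 h2 h3))

end Cfsg.Agent.H758
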